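import Cfsg.Agent.Lib.OddOrder.Fitting

/-!
# Elementary facts on prime power elements and nilpotent subgroups of finite groups
-/

set_option autoImplicit false

namespace CfsgLib.CN

open Subgroup

variable {G : Type*} [Group G] {p q : ℕ}

/-- `x` has order a power of `p`. -/
def PElem (p : ℕ) (x : G) : Prop := ∃ k : ℕ, x ^ p ^ k = 1

theorem pElem_of_mem {P : Subgroup G} (hP : IsPGroup p P) {x : G} (hx : x ∈ P) : PElem p x := by
  obtain ⟨k, hk⟩ := hP ⟨x, hx⟩
  exact ⟨k, congrArg Subtype.val hk⟩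

theorem pElem_of_orderOf_eq {x : G} (hx : orderOf x = p) : PElem p x :=
  ⟨1, by rw [pow_one, ← hx, pow_orderOf_eq_one]⟩

theorem PElem.pow {x : G} (hx : PElem p x) (m : ℕ) : PElem p (x ^ m) := by
  obtain ⟨k, hk⟩ := hx
  exact ⟨k, by rw [← pow_mul, mul_comm, pow_mul, hk, one_pow]⟩

theorem PElem.conj {x : G} (hx : PElem p x) (g : G) : PElem p (g * x * g⁻¹) := by
  obtain ⟨k, hk⟩ := hx
  exact ⟨k, by rw [conj_pow, hk, mul_one, mul_inv_cancel]⟩

theorem PElem.eq_one [hp : Fact p.Prime] [hq : Fact q.Prime] (hpq : p ≠ q) {x : G}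
    (h1 : PElem p x) (h2 : PElem q x) : x = 1 := by
  obtain ⟨k, hk⟩ := h1
  obtain ⟨l, hl⟩ := h2
  rw [← orderOf_eq_one_iff]
  exact Nat.eq_one_of_dvd_coprimes (Nat.Coprime.pow k l ((Nat.coprime_primes hp.out hq.out).mpr hpq))
    (orderOf_dvd_of_pow_eq_one hk) (orderOf_dvd_of_pow_eq_one hl)

theorem PElem.orderOf_dvd [hp : Fact p.Prime] {x : G} (hx : PElem p x) {s : ℕ} (hs : s.Prime)
    (hd : s ∣ orderOf x) : s = p := by
  obtain ⟨k, hk⟩ := hx
  exact (Nat.prime_dvd_prime_iff_eq hs hp.out).1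
    (hs.dvd_of_dvd_pow (hd.trans (orderOf_dvd_of_pow_eq_one hk)))

variable [Finite G]

/-- A nontrivial element has a power of prime order. -/
theorem exists_pow_prime_order {x : G} (hx : x ≠ 1) :
    ∃ (s m : ℕ), s.Prime ∧ orderOf (x ^ m) = s := by
  obtain ⟨s, hs, hd⟩ := Nat.exists_prime_and_dvd (n := orderOf x) (mt orderOf_eq_one_iff.1 hx)
  exact ⟨s, orderOf x / s, hs, orderOf_pow_orderOf_div (orderOf_pos x).ne' hd⟩

/-- A subgroup contains `x` if it contains all its powers of prime power order. -/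
theorem mem_of_pElem_pow {K : Subgroup G} {x : G}
    (h : ∀ (s : ℕ) (m : ℕ), s.Prime → PElem s (x ^ m) → x ^ m ∈ K) : x ∈ K := by
  refine OddOrder.mem_of_forall_exists_pow_mem (orderOf_pos x) fun s hs hsd => ?_
  refine ⟨orderOf x / s ^ (orderOf x).factorization s,
    Nat.not_dvd_ordCompl hs (orderOf_pos x).ne', h s _ hs ⟨(orderOf x).factorization s, ?_⟩⟩
  rw [← pow_mul, Nat.div_mul_cancel (Nat.ordProj_dvd _ _), pow_orderOf_eq_one]

theorem isNilpotent_of_le {K N : Subgroup G} (hN : Group.IsNilpotent N) (h : K ≤ N) :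
    Group.IsNilpotent K := by
  haveI := hN
  exact Group.nilpotent_of_mulEquiv (subgroupOfEquivOfLe h)

theorem isNilpotent_zpowers (x : G) : Group.IsNilpotent (zpowers x) :=
  Solvable.isNilpotent_of_comm fun a b => mul_comm' a b

/-- In a nilpotent subgroup elements of coprime prime power orders commute. -/
theorem commute_of_nilpotent [Fact p.Prime] [Fact q.Prime] (hpq : p ≠ q) {N : Subgroup G}
    (hN : Group.IsNilpotent N) {x y : G} (hx : x ∈ N) (hy : y ∈ N) (hxp : PElem p x)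
    (hyq : PElem q y) : x * y = y * x := by
  have h1 : x ∈ Cfsg.piCoreOf {p} N :=
    OddOrder.mem_piCoreOf_of_nilpotent hN hx fun s hs hd => hxp.orderOf_dvd hs hd
  have h2 : y ∈ Cfsg.piCoreOf {q} N :=
    OddOrder.mem_piCoreOf_of_nilpotent hN hy fun s hs hd => hyq.orderOf_dvd hs hd
  exact (OddOrder.piCoreOf_le_centralizer_piCoreOf N
    (fun s hs hs' _ => hpq (hs.symm.trans hs')) h1 y h2).symm

/-- A subgroup without elements of prime order different from `p` is a `p`-group. -/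
theorem isPGroup_of_forall [Fact p.Prime] {L : Subgroup G}
    (h : ∀ (s : ℕ), s.Prime → ∀ y ∈ L, orderOf y = s → s = p) : IsPGroup p L := by
  refine IsPGroup.of_card (n := (Nat.card L).primeFactorsList.length) ?_
  refine (Nat.eq_prime_pow_of_unique_prime_dvd Nat.card_pos.ne' fun {s} hs hd => ?_)
  haveI := Fact.mk hs
  obtain ⟨y, hy⟩ := exists_prime_orderOf_dvd_card' s hd
  exact h s hs y y.2 (by rw [Subgroup.orderOf_coe, hy])

theorem exists_prime_orderOf {L : Subgroup G} {s : ℕ} (hs : s.Prime) (hd : s ∣ Nat.card L) :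
    ∃ y ∈ L, orderOf y = s := by
  haveI := Fact.mk hs
  obtain ⟨y, hy⟩ := exists_prime_orderOf_dvd_card' s hd
  exact ⟨y, y.2, by rw [Subgroup.orderOf_coe, hy]⟩

theorem ne_one_of_orderOf_eq {x : G} {s : ℕ} (hs : s.Prime) (hx : orderOf x = s) : x ≠ 1 :=
  fun h => hs.ne_one (by rw [← hx, h, orderOf_one])

end CfsgLib.CN
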