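import Cfsg.Agent.Lib.CN.Final
import Cfsg.Agent.Lib.Frobenius.TwoFrobenius
import Cfsg.Agent.S0069

/-!
# Odd groups covered by conjugates of Frobenius kernels with self-contained centralizers
-/

set_option autoImplicit false

namespace CfsgLib.CN.Partition

open Subgroup

variable {G : Type*} [Group G] [Finite G]

theorem centralizer_le {L H : Subgroup G}
    (hfrob : ∀ h ∈ H, h ≠ 1 → L ⊓ centralizer ({h} : Set G) ≤ H)
    (hTI : Cfsg.IsTISubset (H : Set G)) (hN : normalizer (H : Set G) = L)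
    {h : G} (hh : h ∈ H) (h1 : h ≠ 1) : centralizer ({h} : Set G) ≤ H := by
  intro g hg
  have hc := mem_centralizer_singleton_iff.1 hg
  have hgL : g ∈ normalizer (H : Set G) := by
    by_contra hn
    exact h1 (hTI g hn h hh (by rw [hc, mul_inv_cancel_right]; exact hh))
  exact hfrob h hh h1 ⟨hN ▸ hgL, hg⟩

theorem nilCent {L H : Subgroup G} (hHL : H < L) (hH1 : H ≠ ⊥)
    (hfrob : ∀ h ∈ H, h ≠ 1 → L ⊓ centralizer ({h} : Set G) ≤ H)
    (hTI : Cfsg.IsTISubset (H : Set G)) (hN : normalizer (H : Set G) = L) : NilCent H := by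
  refine ⟨?_, hH1, fun x hx hx1 => centralizer_le hfrob hTI hN hx hx1⟩
  obtain ⟨x, hxL, hxH⟩ := SetLike.exists_of_lt hHL
  obtain ⟨r, m, hr, hp, hm⟩ : ∃ r m, r.Prime ∧ PElem r (x ^ m) ∧ x ^ m ∉ H := by
    by_contra hcon
    push Not at hcon
    exact hxH (mem_of_pElem_pow fun s m hs hsm => hcon s m hs hsm)
  -- some element of order `r` of `L` lies outside `H`
  obtain ⟨k, hk⟩ := hp
  have hex : ∃ y ∈ L, y ∉ H ∧ y ^ r = 1 := by
    clear hxH
    induction k generalizing m with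
    | zero => exact absurd (by simpa using hk : x ^ m = 1) (fun e => hm (e ▸ one_mem H))
    | succ k ih =>
      by_cases hmem : (x ^ m) ^ r ∈ H
      · refine ⟨x ^ m, pow_mem hxL m, hm, ?_⟩
        by_contra hne
        exact hm (hfrob _ hmem hne
          ⟨pow_mem hxL m, mem_centralizer_singleton_iff.2 (pow_succ' (x ^ m) r ▸ pow_succ (x ^ m) r)⟩)
      · refine ih (m * r) (by rwa [pow_mul]) ?_
        rw [pow_mul x m r, ← pow_mul, ← pow_succ']
        exact hk
  obtain ⟨y, hyL, hyH, hyr⟩ := hex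
  refine CfsgLib.TwoFrob.isNilpotent_of_fpf_element (y := y) (fun e => hyH (e ▸ one_mem H))
    (hN.symm ▸ hyL) fun z hz hz1 u hu hc => ?_
  by_contra hu1
  have hzH : z ∈ H := hfrob u hu hu1
    ⟨(zpowers_le.2 hyL) hz, mem_centralizer_singleton_iff.2 hc⟩
  haveI := Fact.mk hr
  have hy1 : y ≠ 1 := fun e => hyH (e ▸ one_mem H)
  have hcard : Nat.card (zpowers y) = r := by
    rw [Nat.card_zpowers]; exact orderOf_eq_prime hyr hy1
  have hgen := eq_bot_or_eq_top_of_prime_card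
    (H.subgroupOf (zpowers y)) (hp := by rw [hcard]; exact ⟨hr⟩)
  rcases hgen with hb | ht
  · have : (⟨z, hz⟩ : zpowers y) ∈ H.subgroupOf (zpowers y) := mem_subgroupOf.2 hzH
    rw [hb, mem_bot] at this
    exact hz1 (congrArg Subtype.val this)
  · exact hyH (subgroupOf_eq_top.1 ht (mem_zpowers y))

theorem card_dvd_of_disjoint {A N E : Subgroup G} [N.Normal] (hE : N.IsComplement' E)
    (hd : Disjoint A N) : Nat.card A ∣ Nat.card E := by
  let f : A →* G ⧸ N := (QuotientGroup.mk' N).comp A.subtype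
  have hf : Function.Injective f := (injective_iff_map_eq_one f).2 fun a ha => by
    have hN : (a : G) ∈ N := (QuotientGroup.eq_one_iff (a : G)).1 ha
    exact Subtype.ext (mem_bot.1 (hd.eq_bot ▸ ⟨a.2, hN⟩ : (a : G) ∈ (⊥ : Subgroup G)))
  rw [← hE.symm.index_eq_card]
  exact card_dvd_of_injective f hf

theorem no_partition (hodd : Odd (Nat.card G)) {ι : Type*} [Fintype ι] (hι : 2 ≤ Fintype.card ι)
    (L H : ι → Subgroup G) (hHL : ∀ i, H i < L i) (hH1 : ∀ i, H i ≠ ⊥)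
    (hfrob : ∀ i, ∀ h ∈ H i, h ≠ 1 → L i ⊓ centralizer ({h} : Set G) ≤ H i)
    (hcop : ∀ i j, i ≠ j → Nat.Coprime (Nat.card (H i)) (Nat.card (H j)))
    (hTI : ∀ i, Cfsg.IsTISubset (H i : Set G) ∧ normalizer (H i : Set G) = L i)
    (hcover : ∀ g : G, g ≠ 1 → ∃ i, ∃ x : G, x * g * x⁻¹ ∈ H i) : False := by
  have hNC : ∀ i, NilCent (H i) := fun i =>
    nilCent (hHL i) (hH1 i) (hfrob i) (hTI i).1 (hTI i).2
  have hCN : Cfsg.IsCNGroup G := by
    intro z hz
    obtain ⟨i, x, hx⟩ := hcover z hz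
    have hK := (hNC i).map_conj x⁻¹
    have hzK : z ∈ (H i).map (MulAut.conj x⁻¹).toMonoidHom :=
      ⟨_, hx, by simp [mul_assoc]⟩
    exact isNilpotent_of_le hK.nilpotent (hK.centralizer_le z hzK hz)
  haveI := isSolvable_of_cn hodd hCN
  obtain ⟨i₀⟩ : Nonempty ι := Fintype.card_pos_iff.1 (by omega)
  haveI : Nontrivial G := by
    obtain ⟨a, -, ha1⟩ := (hNC i₀).exists_ne_one
    exact ⟨⟨a, 1, ha1⟩⟩
  -- a nontrivial abelian normal subgroup
  obtain ⟨N, hNn, hNc, hN1⟩ : ∃ N : Subgroup G, N.Normal ∧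
      (∀ a ∈ N, ∀ b ∈ N, a * b = b * a) ∧ N ≠ ⊥ := by
    classical
    have hex := (inferInstance : Group.IsSolvable G).solvable
    have hn0 : Nat.find hex ≠ 0 := by
      intro h0
      have := Nat.find_spec hex
      rw [h0, derivedSeries_zero] at this
      exact top_ne_bot this
    obtain ⟨k, hk⟩ := Nat.exists_eq_succ_of_ne_zero hn0
    refine ⟨derivedSeries G k, derivedSeries_normal G k, fun a ha b hb => ?_,
      Nat.find_min hex (by omega)⟩
    have hspec := Nat.find_spec hex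
    rw [hk, derivedSeries_succ] at hspec
    have := hspec ▸ commutator_mem_commutator ha hb
    exact commutatorElement_eq_one_iff_mul_comm.1 (mem_bot.1 this)
  obtain ⟨a, haN, ha1⟩ : ∃ a ∈ N, a ≠ (1 : G) := by
    by_contra hcon
    push Not at hcon
    exact hN1 (eq_bot_iff.2 fun a ha => mem_bot.2 (hcon a ha))
  obtain ⟨i, x, hx⟩ := hcover a ha1
  set b := x * a * x⁻¹ with hb
  have hbN : b ∈ N := hNn.conj_mem a haN x
  have hb1 : b ≠ 1 := fun e => ha1 (conj_eq_one_iff.1 e)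
  have hNH : N ≤ H i := fun u hu => (hNC i).mem_of_commute hx hb1 (hNc u hu b hbN)
  have htop : ∀ g : G, g ∈ normalizer (H i : Set G) := fun g =>
    (hNC i).mem_normalizer_of_conj_mem hx hb1 (hNH (hNn.conj_mem b hbN g))
  haveI hHn : (H i).Normal := ⟨fun u hu g => (mem_normalizer_iff.1 (htop g) u).1 hu⟩
  obtain ⟨E, hE⟩ := exists_right_complement'_of_coprime (N := H i) (hNC i).coprime
  have hfpf : ∀ e ∈ E, e ≠ 1 → H i ⊓ centralizer ({e} : Set G) = ⊥ := by
    intro e he he1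
    refine eq_bot_iff.2 fun u hu => mem_bot.2 ?_
    by_contra hu1
    have heH : e ∈ H i :=
      (hNC i).mem_of_commute hu.1 hu1 (mem_centralizer_singleton_iff.1 hu.2).symm
    exact he1 (mem_bot.1 (hE.disjoint.eq_bot ▸ ⟨heH, he⟩ : e ∈ (⊥ : Subgroup G)))
  have hE1 : E ≠ ⊥ := by
    intro h
    subst h
    rw [isComplement'_bot_right] at hE
    obtain ⟨j, hj⟩ := Fintype.exists_ne_of_one_lt_card (by omega) i
    obtain ⟨u, hu, hu1⟩ := (hNC j).exists_ne_one
    have hd := (inf_eq_bot_of_coprime (hcop j i hj)).le ⟨hu, hE ▸ mem_top u⟩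
    exact hu1 (mem_bot.1 hd)
  have hZ := Cfsg.Agent.S0069.result (H i) E hE (hH1 i) hE1 hfpf
  obtain ⟨c, hcZ, hc1⟩ : ∃ c ∈ center E, c ≠ 1 := by
    by_contra hcon
    push Not at hcon
    exact hZ (eq_bot_iff.2 fun c hc => mem_bot.2 (hcon c hc))
  have hc1' : (c : G) ≠ 1 := fun e => hc1 (Subtype.ext e)
  obtain ⟨j, y, hy⟩ := hcover c hc1'
  have hji : j ≠ i := by
    rintro rfl
    have hcH : (c : G) ∈ H j := by
      have := hHn.conj_mem _ hy y⁻¹
      simpa [mul_assoc] using this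
    exact hc1' (mem_bot.1 (hE.disjoint.eq_bot ▸ ⟨hcH, c.2⟩ : (c : G) ∈ (⊥ : Subgroup G)))
  -- `E` is conjugate into `H j`
  have hle : E.map (MulAut.conj y).toMonoidHom ≤ H j := by
    rintro _ ⟨e, he, rfl⟩
    refine (hNC j).mem_of_commute hy (fun h => hc1' (conj_eq_one_iff.1 h)) ?_
    have h1 : e * (c : G) = c * e := congrArg Subtype.val (mem_center_iff.1 hcZ ⟨e, he⟩)
    show y * e * y⁻¹ * (y * c * y⁻¹) = y * c * y⁻¹ * (y * e * y⁻¹)
    rw [show y * e * y⁻¹ * (y * c * y⁻¹) = y * (e * c) * y⁻¹ by group, h1]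
    group
  have h2 : Nat.card E ≤ Nat.card (H j) := by
    rw [Nat.card_congr (E.equivMapOfInjective (MulAut.conj y).toMonoidHom (MulAut.conj y).injective).toEquiv]
    exact card_le_of_le hle
  have hd : Disjoint (L j) (H i) := by
    rw [disjoint_iff]
    refine eq_bot_iff.2 fun u hu => mem_bot.2 ?_
    obtain ⟨huL, huH⟩ := hu
    obtain ⟨w, hw, hw1⟩ := (hNC j).exists_ne_one
    have hdis := inf_eq_bot_of_coprime (hcop j i hji)
    have huw : u * w * u⁻¹ ∈ H j :=
      (mem_normalizer_iff.1 ((hTI j).2.symm ▸ huL) w).1 hw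
    have hin : u * w * u⁻¹ * w⁻¹ ∈ H j ⊓ H i := by
      refine ⟨mul_mem huw ((H j).inv_mem hw), ?_⟩
      rw [show u * w * u⁻¹ * w⁻¹ = u * (w * u⁻¹ * w⁻¹) by group]
      exact mul_mem huH (hHn.conj_mem _ ((H i).inv_mem huH) w)
    rw [hdis, mem_bot, mul_inv_eq_one, mul_inv_eq_iff_eq_mul] at hin
    have huj : u ∈ H j := (hNC j).mem_of_commute hw hw1 hin
    exact mem_bot.1 (hdis ▸ ⟨huj, huH⟩ : u ∈ (⊥ : Subgroup G))
  have h3 := Nat.le_of_dvd Nat.card_pos (card_dvd_of_disjoint hE hd)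
  have h4 : Nat.card (H j) < Nat.card (L j) :=
    lt_of_not_ge fun h => (hHL j).ne (eq_of_le_of_card_ge (hHL j).le h)
  omega

end CfsgLib.CN.Partition
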