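import Cfsg.Agent.Lib.CN.Nilpotent
import Cfsg.Agent.Lib.Solvable.SchurZassenhaus
import Cfsg.Agent.Lib.Transfer.PGroup
import Cfsg.Agent.Lib.PGroup.CyclicMaximal
import Mathlib.GroupTheory.SpecificGroups.ZGroup
import Mathlib.Algebra.BigOperators.Group.Finset.Basic

/-!
# Lifting commuting elements, fixed-point-free abelian actions
-/

set_option autoImplicit false

namespace CfsgLib.CN

open Subgroup
open scoped Pointwise

variable {L : Type*} [Group L] [Finite L]

/-- Elements commuting modulo `N` with an element of order prime to `|N|` lift to centralising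
elements. -/
theorem exists_commute_lift (N : Subgroup L) [N.Normal] {x y : L}
    (hcop : (orderOf y).Coprime (Nat.card N))
    (hxy : QuotientGroup.mk' N x * QuotientGroup.mk' N y = QuotientGroup.mk' N y * QuotientGroup.mk' N x) :
    ∃ c ∈ N, c * x * y = y * (c * x) := by
  have hdiff : x * y * x⁻¹ * y⁻¹ ∈ N := by
    rw [← QuotientGroup.eq_one_iff]
    show QuotientGroup.mk' N (x * y * x⁻¹ * y⁻¹) = 1
    rw [map_mul, map_mul, map_mul, hxy, map_inv, map_inv]
    group
  have hB' : zpowers (x * y * x⁻¹) ≤ N ⊔ zpowers y := by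
    rw [zpowers_le, show x * y * x⁻¹ = x * y * x⁻¹ * y⁻¹ * y by group]
    exact mul_mem (mem_sup_left hdiff) (mem_sup_right (mem_zpowers y))
  have hcard : Nat.card (zpowers (x * y * x⁻¹)) = Nat.card (zpowers y) := by
    rw [Nat.card_zpowers, Nat.card_zpowers]
    exact orderOf_injective (MulAut.conj x).toMonoidHom (MulAut.conj x).injective y
  obtain ⟨n, hn, hne⟩ := Solvable.exists_conj_eq_of_coprime le_normalizer_of_normal hB' hcard
    (by rw [Nat.card_zpowers]; exact hcop.symm)
    (Or.inr (Group.isSolvable_of_comm fun a b : zpowers y => mul_comm' a b))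
  refine ⟨n⁻¹, inv_mem hn, ?_⟩
  have hmem : n⁻¹ * x * y * (n⁻¹ * x)⁻¹ ∈ zpowers y := by
    obtain ⟨b, hb, hb'⟩ : x * y * x⁻¹ ∈ (MulAut.conj n • zpowers y : Subgroup L) := by
      rw [hne]; exact mem_zpowers _
    simp only [MulDistribMulAction.toMonoidEnd_apply, MulDistribMulAction.toMonoidHom_apply,
      MulAut.smul_def, MulAut.conj_apply] at hb'
    rw [show n⁻¹ * x * y * (n⁻¹ * x)⁻¹ = n⁻¹ * (x * y * x⁻¹) * n by group, ← hb',
      show n⁻¹ * (n * b * n⁻¹) * n = b by group]
    exact hb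
  have hN : n⁻¹ * x * y * (n⁻¹ * x)⁻¹ * y⁻¹ ∈ N := by
    rw [← QuotientGroup.eq_one_iff]
    show QuotientGroup.mk' N _ = 1
    have h1 : QuotientGroup.mk' N n⁻¹ = 1 := (QuotientGroup.eq_one_iff _).mpr (inv_mem hn)
    simp only [map_mul, map_inv, h1, one_mul, hxy]
    group
  have hbot : n⁻¹ * x * y * (n⁻¹ * x)⁻¹ * y⁻¹ = 1 := by
    rw [← Subgroup.mem_bot, ← (Subgroup.disjoint_of_coprime_natCard (H := N) (K := zpowers y)
      (by rw [Nat.card_zpowers]; exact hcop.symm)).eq_bot]
    exact Subgroup.mem_inf.mpr ⟨hN, mul_mem hmem (inv_mem (mem_zpowers y))⟩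
  exact mul_inv_eq_iff_eq_mul.mp (mul_inv_eq_one.mp hbot)

/-- A nontrivial image of prime power order comes from a power of prime power order. -/
theorem exists_pow_pElem {K : Type*} [Group K] (f : L →* K) {r : ℕ} [hr : Fact r.Prime] {y : L}
    (hy : f y ≠ 1) (hr' : PElem r (f y)) : ∃ m, PElem r (y ^ m) ∧ f (y ^ m) ≠ 1 := by
  obtain ⟨k, hk⟩ := hr'
  refine ⟨orderOf y / r ^ (orderOf y).factorization r, ⟨(orderOf y).factorization r, ?_⟩,
    fun h => hy ?_⟩
  · rw [← pow_mul, Nat.div_mul_cancel (Nat.ordProj_dvd _ _), pow_orderOf_eq_one]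
  · rw [map_pow] at h
    rw [← orderOf_eq_one_iff]
    exact Nat.eq_one_of_dvd_coprimes
      (Nat.Coprime.pow_left k ((Nat.Prime.coprime_iff_not_dvd hr.out).mpr
        (Nat.not_dvd_ordCompl hr.out (orderOf_pos y).ne')))
      (orderOf_dvd_of_pow_eq_one hk) (orderOf_dvd_of_pow_eq_one h)

omit [Finite L] in
/-- A `p`-element normalising a nontrivial `p`-subgroup fixes a nonidentity element of it. -/
theorem exists_fixed {p : ℕ} [Fact p.Prime] [Finite L] {V : Subgroup L} (hV : IsPGroup p V)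
    (hV1 : V ≠ ⊥) {x : L} (hx : PElem p x) (hxV : x ∈ normalizer (V : Set L)) :
    ∃ v ∈ V, v ≠ 1 ∧ x * v = v * x := by
  have hZ : IsPGroup p (zpowers x) := by
    obtain ⟨k, hk⟩ := hx
    obtain ⟨j, -, hj⟩ := (Nat.dvd_prime_pow Fact.out).mp (orderOf_dvd_of_pow_eq_one hk)
    exact IsPGroup.of_card (n := j) (by rw [Nat.card_zpowers, hj])
  have hP : IsPGroup p (V ⊔ zpowers x : Subgroup L) :=
    IsPGroup.to_sup_of_normal_left' hV hZ (zpowers_le.mpr hxV)
  haveI := hP.isNilpotent
  have hn : (V.subgroupOf (V ⊔ zpowers x)).Normal :=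
    normal_subgroupOf_iff_le_normalizer le_sup_left |>.mpr
      (sup_le le_normalizer (zpowers_le.mpr hxV))
  have h := Transfer.inf_center_ne_bot (N := V.subgroupOf (V ⊔ zpowers x)) (fun h => hV1 (by
    rw [← subgroupOf_map_subtype V (V ⊔ zpowers x) |>.trans (inf_eq_left.mpr le_sup_left), h,
      Subgroup.map_bot]))
  rw [Ne, Subgroup.eq_bot_iff_forall] at h
  push Not at h
  obtain ⟨v, ⟨hv, hvc⟩, hv1⟩ := h
  refine ⟨v, hv, fun h => hv1 (Subtype.ext h), ?_⟩
  exact congrArg Subtype.val (mem_center_iff.mp hvc ⟨x, mem_sup_right (mem_zpowers x)⟩)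

section Norm

variable {V : Type*} [CommGroup V]

theorem apply_prod_pow {r : ℕ} (u : MulAut V) (hu : u ^ r = 1) (v : V) :
    u (∏ i ∈ Finset.range r, (u ^ i) v) = ∏ i ∈ Finset.range r, (u ^ i) v := by
  rw [map_prod]
  have h1 : ∀ i, u ((u ^ i) v) = (u ^ (i + 1)) v := fun i => by
    rw [pow_succ', MulAut.mul_apply]
  simp only [h1]
  have h2 := Finset.prod_range_succ (fun i => (u ^ i) v) r
  rw [Finset.prod_range_succ' (fun i => (u ^ i) v) r, hu, pow_zero] at h2
  exact mul_right_cancel h2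

/-- A group of order `r ^ 2` of exponent `r` does not act fixed-point-freely on an abelian group. -/
theorem exists_fixed_of_commute [Finite V] [Nontrivial V] {r : ℕ} [hr : Fact r.Prime]
    (hV : ¬ r ∣ Nat.card V) (z y : MulAut V) (hz : z ^ r = 1) (hy : y ^ r = 1) (hc : Commute y z) :
    (∃ v, v ≠ 1 ∧ z v = v) ∨ ∃ i : ℕ, ∃ v, v ≠ 1 ∧ (y * z ^ i) v = v := by
  by_contra hcon
  push Not at hcon
  obtain ⟨hz', hy'⟩ := hcon
  obtain ⟨v, hv⟩ := exists_ne (1 : V)
  have hline : ∀ i : ℕ, ∏ a ∈ Finset.range r, ((y * z ^ i) ^ a) v = 1 := by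
    intro i
    by_contra h
    refine hy' i _ h (apply_prod_pow _ ?_ v)
    rw [(hc.pow_right i).mul_pow, hy, ← pow_mul, mul_comm, pow_mul, hz, one_pow, one_mul]
  have hcol : ∀ a ∈ Finset.range r, a ≠ 0 → ∏ i ∈ Finset.range r, ((y * z ^ i) ^ a) v = 1 := by
    intro a ha ha0
    have : ∏ i ∈ Finset.range r, ((z ^ a) ^ i) v = 1 := by
      by_contra h
      refine hz' _ h ?_
      have hfix := apply_prod_pow (z ^ a) (by rw [← pow_mul, mul_comm, pow_mul, hz, one_pow]) v
      have hcop : a.Coprime r := ((Nat.Prime.coprime_iff_not_dvd hr.out).mpr fun hd =>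
        ha0 (Nat.eq_zero_of_dvd_of_lt hd (Finset.mem_range.mp ha))).symm
      obtain ⟨b, hb⟩ := exists_pow_eq_self_of_coprime (hcop.coprime_dvd_right
        (orderOf_dvd_of_pow_eq_one hz))
      have hgen : ∀ (u : MulAut V) (w : V), u w = w → ∀ n : ℕ, (u ^ n) w = w := by
        intro u w hu n
        induction n with
        | zero => simp
        | succ n ih => rw [pow_succ, MulAut.mul_apply, hu, ih]
      have := hgen _ _ hfix b
      rwa [hb] at this
    have h1 : ∀ i : ℕ, ((y * z ^ i) ^ a) v = (y ^ a) (((z ^ a) ^ i) v) := fun i => by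
      rw [(hc.pow_right i).mul_pow, MulAut.mul_apply, ← pow_mul, ← pow_mul, mul_comm]
    simp only [h1, ← map_prod, this, map_one]
  have h0 : v ^ r = 1 := by
    have h := Finset.prod_eq_one (s := Finset.range r) (fun i _ => hline i)
    rw [Finset.prod_comm, Finset.prod_eq_single 0 hcol
      (fun h => absurd (Finset.mem_range.mpr hr.out.pos) h)] at h
    simpa using h
  refine hv (orderOf_eq_one_iff.mp (Nat.eq_one_of_dvd_coprimes
    ((Nat.Prime.coprime_iff_not_dvd hr.out).mpr hV) (orderOf_dvd_of_pow_eq_one h0)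
    (orderOf_dvd_natCard v)))

variable [Finite V] [Nontrivial V]

/-- An `r`-group of odd order acting fixed-point-freely on an abelian `r'`-group is cyclic. -/
theorem isCyclic_of_fpf_action {K : Type*} [Group K] [Finite K] {r : ℕ} [hr : Fact r.Prime]
    (hr2 : r ≠ 2) (hK : IsPGroup r K) (hV : ¬ r ∣ Nat.card V) (α : K →* MulAut V)
    (hfpf : ∀ k : K, ∀ v : V, v ≠ 1 → α k v = v → k = 1) : IsCyclic K := by
  refine PGroup.isCyclic_of_unique_order_prime hr2 hK fun x y hx hx1 hy => ?_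
  haveI : Nontrivial K := ⟨⟨x, 1, hx1⟩⟩
  haveI := hK.center_nontrivial
  obtain ⟨z, hz⟩ := exists_prime_orderOf_dvd_card' (G := center K) r (by
    obtain ⟨n, hn⟩ := (hK.to_subgroup (center K)).exists_card_eq
    rw [hn]
    refine dvd_pow_self r fun h0 => ?_
    rw [h0, pow_zero] at hn
    exact (Finite.one_lt_card (α := center K)).ne' hn)
  have hzr : (z : K) ^ r = 1 := by
    rw [← hz, ← Subgroup.orderOf_coe]; exact pow_orderOf_eq_one _
  have hin : ∀ w : K, w ^ r = 1 → w ∈ zpowers (z : K) := by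
    intro w hw
    rcases exists_fixed_of_commute hV (α z) (α w) (by rw [← map_pow, hzr, map_one])
      (by rw [← map_pow, hw, map_one]) ((show Commute w (z : K) from mem_center_iff.mp z.2 w).map α)
      with ⟨v, hv, hfix⟩ | ⟨i, v, hv, hfix⟩
    · have := hfpf _ v hv hfix
      rw [← Subgroup.orderOf_coe, this, orderOf_one] at hz
      exact absurd hz.symm hr.out.ne_one
    · rw [← map_pow, ← map_mul] at hfix
      rw [eq_inv_of_mul_eq_one_left (hfpf _ v hv hfix)]
      exact inv_mem (npow_mem_zpowers _ _)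
  have hxz : zpowers x = zpowers (z : K) := by
    refine Subgroup.eq_of_le_of_card_ge (zpowers_le.mpr (hin x hx)) ?_
    rw [Nat.card_zpowers, Nat.card_zpowers, Subgroup.orderOf_coe, hz, orderOf_eq_prime hx hx1]
  rw [hxz]
  exact hin y hy

end Norm

end CfsgLib.CN
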