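import Cfsg.Agent.Lib.CN.NilCent
import Cfsg.Agent.Lib.CA.Chars
import Mathlib.GroupTheory.Abelianization.Defs
import Mathlib.GroupTheory.Abelianization.Finite

/-!
# The exceptional characters attached to a nilpotent subgroup containing its centralisers
-/

set_option autoImplicit false

open scoped ComplexConjugate

namespace CfsgLib.CN

universe u

variable {G : Type u} [Group G] (H : Subgroup G)

/-- The abelianization of a subgroup. -/
abbrev Ab : Type u := Abelianization H

theorem of_surjective : Function.Surjective (Abelianization.of : H → Ab H) :=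
  QuotientGroup.mk'_surjective _

/-- The action of the normalizer on the abelianization. -/
def conjQ (x : Subgroup.normalizer (H : Set G)) : Ab H ≃* Ab H :=
  (CA.conjA H x).abelianizationCongr

theorem conjQ_of (x : Subgroup.normalizer (H : Set G)) (b : H) :
    conjQ H x (Abelianization.of b) = Abelianization.of (CA.conjA H x b) := rfl

/-- The nonprincipal irreducible characters of the abelianization. -/
abbrev NP : Type u := {l : Cfsg.IrrCharacter (Ab H) // l ≠ Char.principalIrr}

variable {H}

/-- An irreducible character of the abelianization as a function on `H`. -/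
def lam (l : Cfsg.IrrCharacter (Ab H)) : H → ℂ := fun b => (l : Ab H → ℂ) (Abelianization.of b)

/-- An irreducible character of the abelianization as an irreducible character of `H`. -/
def pull (l : Cfsg.IrrCharacter (Ab H)) : Cfsg.IrrCharacter H :=
  ⟨lam l, CharTwist.isIrrCharacter_comp l.2 Abelianization.of (of_surjective H)⟩

theorem pull_injective : Function.Injective (pull (H := H)) := fun l m h => by
  refine Subtype.ext (funext fun q => ?_)
  obtain ⟨b, rfl⟩ := of_surjective H q
  exact congrFun (congrArg Subtype.val h) b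

variable (H)

/-- Twisting by an element of the normalizer. -/
def tw (x : Subgroup.normalizer (H : Set G)) (l : NP H) : NP H :=
  ⟨⟨(l.1 : Ab H → ℂ) ∘ conjQ H x, CharTwist.isIrrCharacter_comp_equiv l.1.2 _⟩, fun h => l.2 (by
    apply Subtype.ext
    funext b
    have := congrFun (congrArg Subtype.val h) ((conjQ H x).symm b)
    simpa using this)⟩

theorem tw_apply_of (x : Subgroup.normalizer (H : Set G)) (l : NP H) (b : H) :
    ((tw H x l).1 : Ab H → ℂ) (Abelianization.of b) = lam l.1 (CA.conjA H x b) := rfl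

theorem np_ext {l m : NP H}
    (h : ∀ b : H, (l.1 : Ab H → ℂ) (Abelianization.of b) = (m.1 : Ab H → ℂ) (Abelianization.of b)) :
    l = m := by
  refine Subtype.ext (Subtype.ext (funext fun q => ?_))
  obtain ⟨b, rfl⟩ := of_surjective H q
  exact h b

theorem tw_mul (x y : Subgroup.normalizer (H : Set G)) (l : NP H) :
    tw H (x * y) l = tw H y (tw H x l) := by
  refine np_ext H fun b => ?_
  show (l.1 : Ab H → ℂ) (Abelianization.of (CA.conjA H (x * y) b)) =
    (l.1 : Ab H → ℂ) (Abelianization.of (CA.conjA H x (CA.conjA H y b)))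
  exact congrArg (fun c => (l.1 : Ab H → ℂ) (Abelianization.of c))
    (Subtype.ext (by simp [CA.conjA_coe, mul_assoc]))

theorem tw_one (l : NP H) : tw H 1 l = l := by
  refine np_ext H fun b => ?_
  show (l.1 : Ab H → ℂ) (Abelianization.of (CA.conjA H 1 b)) = _
  exact congrArg (fun c => (l.1 : Ab H → ℂ) (Abelianization.of c))
    (Subtype.ext (by simp [CA.conjA_coe]))

/-- Twist-equivalence. -/
def orbSetoid : Setoid (NP H) where
  r l m := ∃ x, tw H x l = m
  iseqv :=
    { refl := fun l => ⟨1, tw_one H l⟩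
      symm := fun {l m} ⟨x, h⟩ => ⟨x⁻¹, by rw [← h, ← tw_mul, mul_inv_cancel, tw_one]⟩
      trans := fun {l m k} ⟨x, h⟩ ⟨y, h'⟩ => ⟨x * y, by rw [tw_mul, h, h']⟩ }

/-- The orbits of nonprincipal characters. -/
abbrev Orb : Type u := Quotient (orbSetoid H)

/-- The orbit of a character. -/
abbrev orb (l : NP H) : Orb H := Quotient.mk (orbSetoid H) l

variable {H}

/-- The complex conjugate in the nonprincipal characters. -/
def conjNP [Finite G] (l : NP H) : NP H :=
  ⟨CA.conjIrr l.1, fun h => l.2 (by
    rw [← CA.conjIrr_conjIrr l.1, h]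
    exact Subtype.ext (funext fun b => by simp [CA.conjIrr_apply]))⟩

theorem exists_hom [Finite G] (l : Cfsg.IrrCharacter (Ab H)) :
    ∃ f : Ab H →* ℂˣ, ∀ b, (l : Ab H → ℂ) b = (f b : ℂ) := by
  obtain ⟨n, ρ, hρ, hρl⟩ := l.2
  have : IsMulCommutative (Ab H) := ⟨⟨mul_comm⟩⟩
  refine Char.IsCharacter.exists_linear ⟨n, ρ, hρl⟩ ?_
  rw [← hρl, Representation.char_one,
    Representation.IsIrreducible.finrank_eq_one_of_isMulCommutative ρ, Nat.cast_one]

theorem irr_apply_one [Finite G] (l : Cfsg.IrrCharacter (Ab H)) : (l : Ab H → ℂ) 1 = 1 := by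
  obtain ⟨f, hf⟩ := exists_hom l
  simp [hf]

theorem lam_one [Finite G] (l : Cfsg.IrrCharacter (Ab H)) : lam l 1 = 1 := by
  rw [lam, map_one, irr_apply_one]

variable (hH : NilCent H)
include hH

theorem exists_of_ne_one [Finite G] : ∃ b : H, Abelianization.of b ≠ 1 := by
  by_contra h
  push Not at h
  haveI := hH.nilpotent
  haveI : Nontrivial H := (Subgroup.nontrivial_iff_ne_bot H).mpr hH.ne_bot
  refine (Group.IsSolvable.commutator_lt_top_of_nontrivial H).ne (eq_top_iff.mpr fun b _ => ?_)
  exact (QuotientGroup.eq_one_iff b).mp (h b)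

/-- `b ↦ b⁻¹ (x b x⁻¹)` is onto `H` when `x` is outside `H`. -/
theorem commutator_map_surjective [Finite G] (x : Subgroup.normalizer (H : Set G))
    (hx : (x : G) ∉ H) : Function.Surjective (fun b : H => b⁻¹ * CA.conjA H x b) := by
  refine Finite.injective_iff_surjective.mp fun b c hbc => ?_
  have hbc' : (b : G)⁻¹ * ((x : G) * b * (x : G)⁻¹) = (c : G)⁻¹ * ((x : G) * c * (x : G)⁻¹) :=
    congrArg Subtype.val hbc
  by_contra hne
  have hne' : (c : G) * (b : G)⁻¹ ≠ 1 := fun hh => hne (Subtype.ext (mul_inv_eq_one.mp hh).symm)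
  refine hx (hH.mem_of_commute (H.mul_mem c.2 (H.inv_mem b.2)) hne' ?_)
  have hc' : (x : G) * c * (x : G)⁻¹ = (c : G) * ((b : G)⁻¹ * ((x : G) * b * (x : G)⁻¹)) := by
    rw [hbc', mul_inv_cancel_left]
  have h1 : (c : G) * (b : G)⁻¹ = ((x : G) * c * (x : G)⁻¹) * ((x : G) * b * (x : G)⁻¹)⁻¹ := by
    rw [hc']; simp [mul_assoc]
  calc (x : G) * ((c : G) * (b : G)⁻¹)
      = ((x : G) * c * (x : G)⁻¹) * ((x : G) * b * (x : G)⁻¹)⁻¹ * x := by simp [mul_assoc]
    _ = (c : G) * (b : G)⁻¹ * x := by rw [← h1]

omit hH in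
theorem of_conjA_of_mem (x : Subgroup.normalizer (H : Set G)) (hx : (x : G) ∈ H) (b : H) :
    Abelianization.of (CA.conjA H x b) = Abelianization.of b := by
  rw [show CA.conjA H x b = ⟨x, hx⟩ * b * ⟨x, hx⟩⁻¹ from Subtype.ext rfl, map_mul, map_mul, map_inv,
    mul_comm (Abelianization.of (⟨(x : G), hx⟩ : H)), mul_inv_cancel_right]

/-- Only elements of `H` fix a nonidentity element of the abelianization. -/
theorem mem_of_conjQ_eq [Finite G] (x : Subgroup.normalizer (H : Set G)) {b : H}
    (hb : Abelianization.of b ≠ 1)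
    (h : Abelianization.of (CA.conjA H x b) = Abelianization.of b) : (x : G) ∈ H := by
  by_contra hx
  let k : Ab H → Ab H := fun q => q⁻¹ * conjQ H x q
  have hk : Function.Injective k := Finite.injective_iff_surjective.mpr fun q => by
    obtain ⟨c, rfl⟩ := of_surjective H q
    obtain ⟨d, rfl⟩ := commutator_map_surjective hH x hx c
    exact ⟨Abelianization.of d, by simp [k, conjQ_of]⟩
  exact hb (hk (show k _ = k 1 by simp [k, conjQ_of, h]))

theorem tw_eq_self_iff [Finite G] (x : Subgroup.normalizer (H : Set G)) (l : NP H) :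
    tw H x l = l ↔ (x : G) ∈ H := by
  constructor
  · intro h
    by_contra hx
    obtain ⟨f, hf⟩ := exists_hom l.1
    refine l.2 (Subtype.ext (funext fun q => ?_))
    obtain ⟨b, rfl⟩ := of_surjective H q
    obtain ⟨c, rfl⟩ := commutator_map_surjective hH x hx b
    have h2 := congrFun (congrArg (fun m : NP H => (m.1 : Ab H → ℂ)) h) (Abelianization.of c)
    simp only [tw_apply_of, lam, hf] at h2
    rw [hf, Char.principalIrr_apply, map_mul, map_inv, map_mul, map_inv, Units.ext h2,
      inv_mul_cancel, Units.val_one]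
  · intro hx
    refine np_ext H fun b => ?_
    rw [tw_apply_of, lam, of_conjA_of_mem x hx]

variable [Fintype G] [Fintype H] [Fintype (Ab H)]

omit hH [Fintype H] in
theorem colQ (b c : Ab H) [Decidable (b = c)] :
    ∑ l : Cfsg.IrrCharacter (Ab H), (l : Ab H → ℂ) b * conj ((l : Ab H → ℂ) c) =
      if b = c then (Nat.card (Ab H) : ℂ) else 0 := by
  classical
  rw [Char.sum_mul_conj]
  have hcent : Subgroup.centralizer ({b} : Set (Ab H)) = ⊤ := by
    ext d
    simp only [Subgroup.mem_top, iff_true, Subgroup.mem_centralizer_singleton_iff]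
    exact mul_comm d b
  rw [hcent, Subgroup.card_top]
  simp only [isConj_iff_eq]

omit hH [Fintype H] in
theorem card_irrQ : Nat.card (Cfsg.IrrCharacter (Ab H)) = Nat.card (Ab H) := by
  classical
  have h := colQ (H := H) 1 1
  simp only [if_true, irr_apply_one, map_one, mul_one, Finset.sum_const, nsmul_eq_mul] at h
  rw [Nat.card_eq_fintype_card, ← Finset.card_univ]
  exact_mod_cast h

omit hH [Fintype H] in
theorem sum_np_apply {b : Ab H} (hb : b ≠ 1) [DecidableEq (Cfsg.IrrCharacter (Ab H))] :
    ∑ l : NP H, (l.1 : Ab H → ℂ) b = -1 := by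
  classical
  have h := colQ (H := H) b 1
  rw [if_neg hb] at h
  simp only [irr_apply_one, map_one, mul_one] at h
  rw [← Finset.add_sum_erase _ _ (Finset.mem_univ Char.principalIrr), Char.principalIrr_apply] at h
  rw [← Finset.sum_subtype (Finset.univ.erase Char.principalIrr) (by simp)
    (fun l : Cfsg.IrrCharacter (Ab H) => (l : Ab H → ℂ) b)]
  linear_combination h

omit [Fintype H] [Fintype (Ab H)] in
theorem card_twisting [DecidableEq (NP H)] [Fintype (Subgroup.normalizer (H : Set G))]
    {l m : NP H} [Decidable (∃ x, tw H x l = m)] :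
    (Finset.univ.filter fun x => tw H x l = m).card =
      if ∃ x, tw H x l = m then Nat.card H else 0 := by
  classical
  split_ifs with h
  · obtain ⟨x₀, hx₀⟩ := h
    rw [← Fintype.card_subtype, ← Nat.card_eq_fintype_card]
    have hHN : ∀ b : H, (b : G) ∈ Subgroup.normalizer (H : Set G) := fun b =>
      Subgroup.le_normalizer b.2
    refine Nat.card_congr
      { toFun := fun x => ⟨(x.1 * x₀⁻¹ : Subgroup.normalizer (H : Set G)),
          (tw_eq_self_iff hH _ l).mp (by
            rw [tw_mul, x.2, ← hx₀, ← tw_mul, mul_inv_cancel, tw_one])⟩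
        invFun := fun b => ⟨⟨b, hHN b⟩ * x₀, by
          rw [tw_mul, (tw_eq_self_iff hH ⟨(b : G), hHN b⟩ l).mpr b.2, hx₀]⟩
        left_inv := fun x => Subtype.ext (by ext; simp)
        right_inv := fun b => Subtype.ext (by simp) }
  · rw [Finset.card_eq_zero, Finset.filter_eq_empty_iff]
    exact fun x _ hx => h ⟨x, hx⟩

omit [Fintype H] [Fintype (Ab H)] in
/-- `|H| [l ~ m] = #{x ∈ N | tw x l = m}`. -/
theorem card_mul_orb_eq [DecidableEq (NP H)] [Fintype (Subgroup.normalizer (H : Set G))]
    [DecidableEq (Orb H)] (l m : NP H) :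
    (Nat.card H : ℂ) * (if orb H l = orb H m then 1 else 0) =
      ∑ x : Subgroup.normalizer (H : Set G), if tw H x l = m then (1 : ℂ) else 0 := by
  classical
  rw [Finset.sum_boole, card_twisting hH]
  have hiff : orb H l = orb H m ↔ ∃ x, tw H x l = m :=
    ⟨fun h => Quotient.exact h, fun h => Quotient.sound h⟩
  by_cases h : ∃ x, tw H x l = m
  · simp [h, hiff.mpr h]
  · simp [h, mt hiff.mp h]

omit [Fintype (Ab H)] in
/-- Values of an induced function on `H`. -/
theorem indFun_apply_of_mem [Fintype (Subgroup.normalizer (H : Set G))] (θ : H → ℂ) {b : H}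
    (hb : b ≠ 1) :
    Cfsg.indFun H θ b = (Nat.card H : ℂ)⁻¹ *
      ∑ x : Subgroup.normalizer (H : Set G), θ (CA.conjA H x b) := by
  classical
  rw [Char.indFun_apply]
  congr 1
  symm
  refine Finset.sum_of_injOn (fun x => ((x : G))⁻¹) ?_ (by simp) ?_ ?_
  · intro x _ y _ h
    exact Subtype.ext (inv_injective h)
  · intro y _ hy
    by_cases hmem : y⁻¹ * (b : G) * y ∈ H
    · exfalso
      refine hy ⟨⟨y⁻¹, ?_⟩, by simp, by simp⟩
      refine hH.mem_normalizer_of_conj_mem b.2 (fun h => hb (Subtype.ext h)) ?_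
      simpa using hmem
    · exact Char.extendByZero_of_notMem H θ hmem
  · intro x _
    have hmem : ((x : G)⁻¹)⁻¹ * (b : G) * (x : G)⁻¹ ∈ H := by
      rw [inv_inv]; exact (CA.conjA H x b).2
    rw [Char.extendByZero_apply_mem H θ hmem]
    exact congrArg θ (Subtype.ext (by simp [CA.conjA_coe]))

omit hH [Fintype (Ab H)] in
/-- Induction is constant on twist orbits. -/
theorem indFun_tw (x : Subgroup.normalizer (H : Set G)) (l : NP H) :
    Cfsg.indFun H (lam (tw H x l).1) = Cfsg.indFun H (lam l.1) := by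
  funext g
  rw [Char.indFun_apply, Char.indFun_apply]
  congr 1
  refine Fintype.sum_equiv (Equiv.mulRight (x : G)⁻¹) _ _ fun y => ?_
  have hiff := Subgroup.mem_normalizer_iff.mp x.2 (y⁻¹ * g * y)
  have he : ((Equiv.mulRight (x : G)⁻¹) y)⁻¹ * g * (Equiv.mulRight (x : G)⁻¹) y =
      (x : G) * (y⁻¹ * g * y) * (x : G)⁻¹ := by simp [mul_assoc]
  rw [he]
  by_cases h : y⁻¹ * g * y ∈ H
  · rw [Char.extendByZero_apply_mem H _ h, Char.extendByZero_apply_mem H _ (hiff.mp h)]
    rfl
  · rw [Char.extendByZero_of_notMem H _ h,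
      Char.extendByZero_of_notMem H _ (fun h' => h (hiff.mpr h'))]

omit [Fintype (Ab H)] in
/-- The Gram matrix of the differences of induced characters. -/
theorem gram [DecidableEq (Orb H)] (l l' m m' : NP H) :
    Cfsg.classInner (Cfsg.indFun H (lam l.1) - Cfsg.indFun H (lam l'.1))
      (Cfsg.indFun H (lam m.1) - Cfsg.indFun H (lam m'.1)) =
      (if orb H l = orb H m then 1 else 0) - (if orb H l = orb H m' then 1 else 0) -
        (if orb H l' = orb H m then 1 else 0) + (if orb H l' = orb H m' then 1 else 0) := by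
  classical
  have hne : (Nat.card H : ℂ) ≠ 0 := Nat.cast_ne_zero.mpr Nat.card_pos.ne'
  rw [← Char.indFun_sub, ← Char.indFun_sub,
    Char.classInner_indFun _ _ _ (Char.isClassFunction_indFun H _)]
  have hres : Cfsg.classInner (lam l.1 - lam l'.1)
        (fun b : H => Cfsg.indFun H (lam m.1 - lam m'.1) b) =
      Cfsg.classInner (lam l.1 - lam l'.1)
        ((Nat.card H : ℂ)⁻¹ • ∑ x : Subgroup.normalizer (H : Set G),
          (lam (tw H x m).1 - lam (tw H x m').1)) := by
    unfold Cfsg.classInner
    congr 1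
    refine Finset.sum_congr rfl fun b _ => ?_
    by_cases hb : b = 1
    · subst hb
      simp [lam_one]
    · dsimp only
      rw [indFun_apply_of_mem hH _ hb, Pi.smul_apply, Finset.sum_apply, smul_eq_mul]
      rfl
  rw [hres, Char.classInner_smul_right, map_inv₀, map_natCast]
  have hval : ∀ p : Cfsg.IrrCharacter (Ab H), lam p = (pull p : H → ℂ) := fun p => rfl
  simp only [hval, Char.classInner_sum_right, Char.classInner_sub_left, Char.classInner_sub_right,
    Char.classInner_irrCharacter, Finset.sum_sub_distrib]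
  have key : ∀ p q : NP H,
      ∑ x : Subgroup.normalizer (H : Set G),
        (if pull p.1 = pull (tw H x q).1 then (1 : ℂ) else 0) =
        (Nat.card H : ℂ) * (if orb H p = orb H q then 1 else 0) := by
    intro p q
    rw [show (if orb H p = orb H q then (1 : ℂ) else 0) = if orb H q = orb H p then 1 else 0 from
      if_congr eq_comm rfl rfl, card_mul_orb_eq hH q p]
    exact Finset.sum_congr rfl fun x _ =>
      if_congr ⟨fun h => (Subtype.ext (pull_injective h)).symm, fun h => by rw [h]⟩ rfl rfl
  rw [key, key, key, key]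
  field_simp
  ring

omit [Fintype H] in
theorem orb_conjNP_ne (hodd : Odd (Nat.card G)) (l : NP H) :
    orb H (conjNP l) ≠ orb H l := by
  intro h
  obtain ⟨x, hx⟩ := Quotient.exact h.symm
  have hx2 : tw H (x * x) l = l := by
    rw [tw_mul, hx]
    refine np_ext H fun b => ?_
    have := congrFun (congrArg (fun m : NP H => (m.1 : Ab H → ℂ)) hx)
      (Abelianization.of b)
    rw [tw_apply_of] at this ⊢
    show conj ((l.1 : Ab H → ℂ) (Abelianization.of (CA.conjA H x b))) = _
    rw [show (l.1 : Ab H → ℂ) (Abelianization.of (CA.conjA H x b)) = _ from this]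
    show conj (conj ((l.1 : Ab H → ℂ) _)) = _
    simp
  rw [tw_eq_self_iff hH] at hx2
  obtain ⟨k, hk⟩ := hodd
  have hxH : (x : G) ∈ H := by
    have : ((x : G) * x) ^ (k + 1) = x := by
      rw [← sq, ← pow_mul, show 2 * (k + 1) = Nat.card G + 1 by omega, pow_succ, pow_card_eq_one',
        one_mul]
    rw [← this]
    exact pow_mem hx2 _
  rw [(tw_eq_self_iff hH x l).mpr hxH] at hx
  letI : Fintype (H ⧸ commutator H) := ‹Fintype (Ab H)›
  exact l.2 (CA.eq_principal_of_conjIrr_eq
    (Odd.of_dvd_nat ⟨k, hk⟩ ((commutator H).card_quotient_dvd_card.trans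
      (Subgroup.card_subgroup_dvd_card H))) l.1 (congrArg Subtype.val hx).symm)

omit [Fintype H] in
theorem nonempty_np : Nonempty (NP H) := by
  classical
  by_contra h
  rw [not_nonempty_iff] at h
  obtain ⟨b, hb⟩ := exists_of_ne_one hH
  have := sum_np_apply (H := H) hb
  simp at this

/-- The exceptional characters. -/
theorem exists_mu (hodd : Odd (Nat.card G)) :
    ∃ (ε : ℤ) (μ : Orb H → Cfsg.IrrCharacter G), (ε = 1 ∨ ε = -1) ∧ Function.Injective μ ∧
      (∀ l l' : NP H, Cfsg.indFun H (lam l.1) - Cfsg.indFun H (lam l'.1) =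
        (ε : ℂ) • ((μ (orb H l) : G → ℂ) - (μ (orb H l') : G → ℂ))) ∧
      ∀ l, μ (orb H (conjNP l)) = CA.conjIrr (μ (orb H l)) := by
  classical
  obtain ⟨l₀⟩ := nonempty_np hH
  let i₀ : Orb H := orb H l₀
  let τ : Orb H → G → ℂ := fun o =>
    Cfsg.indFun H (lam (Quotient.out o).1) - Cfsg.indFun H (lam (Quotient.out i₀).1)
  have hout : ∀ o : Orb H, orb H (Quotient.out o) = o := fun o => Quotient.out_eq o
  obtain ⟨ε, hε, μ, hμ, hinj, hτ⟩ := CharExc.exists_base i₀ τ (sub_self _)
    (fun o => by
      exact Char.IsGeneralizedCharacter.sub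
        (Char.IsCharacter.isGeneralizedCharacter
          (Char.IsCharacter.indFun H (Char.IsIrrCharacter.isCharacter (pull (Quotient.out o).1).2)))
        (Char.IsCharacter.isGeneralizedCharacter
          (Char.IsCharacter.indFun H (Char.IsIrrCharacter.isCharacter (pull (Quotient.out i₀).1).2))))
    (fun o => by
      show Cfsg.indFun H _ 1 - Cfsg.indFun H _ 1 = 0
      rw [Char.indFun_apply_one, Char.indFun_apply_one, lam_one, lam_one, sub_self])
    (fun o ho => by
      simp only [τ]
      rw [gram hH, hout, hout, if_pos rfl, if_neg ho, if_neg (Ne.symm ho), if_pos rfl]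
      norm_num)
    (fun o o' ho ho' hoo => by
      simp only [τ]
      rw [gram hH, hout, hout, hout, if_neg hoo, if_neg ho, if_neg (Ne.symm ho'), if_pos rfl]
      norm_num)
  have hind : ∀ l : NP H, Cfsg.indFun H (lam l.1) =
      Cfsg.indFun H (lam (Quotient.out (orb H l)).1) := by
    intro l
    obtain ⟨x, hx⟩ := Quotient.exact (hout (orb H l))
    rw [← indFun_tw x (Quotient.out (orb H l)), hx]
  obtain ⟨e, he, hee⟩ : ∃ e : ℤ, (e = 1 ∨ e = -1) ∧ ε = (e : ℂ) := by
    rcases hε with h | h
    · exact ⟨1, .inl rfl, by simp [h]⟩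
    · exact ⟨-1, .inr rfl, by simp [h]⟩
  have hdiff : ∀ l l' : NP H, Cfsg.indFun H (lam l.1) - Cfsg.indFun H (lam l'.1) =
      (e : ℂ) • (μ (orb H l) - μ (orb H l')) := by
    intro l l'
    rw [hind l, hind l', show Cfsg.indFun H (lam (Quotient.out (orb H l)).1) -
      Cfsg.indFun H (lam (Quotient.out (orb H l')).1) = τ (orb H l) - τ (orb H l') from
      (sub_sub_sub_cancel_right _ _ _).symm, hτ, hτ, hee, ← smul_sub, sub_sub_sub_cancel_right]
  refine ⟨e, fun o => ⟨μ o, hμ o⟩, he, fun o o' h => hinj (congrArg Subtype.val h), hdiff,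
    fun l => Subtype.ext ?_⟩
  have hne0 : (e : ℂ) ≠ 0 := by rcases he with h | h <;> simp [h]
  have hconj : ∀ g, conj (μ (orb H l) g) - conj (μ (orb H (conjNP l)) g) =
      μ (orb H (conjNP l)) g - μ (orb H l) g := by
    intro g
    refine mul_left_cancel₀ hne0 ?_
    have h1 := congrFun (hdiff l (conjNP l)) g
    have h2 := congrFun (hdiff (conjNP l) l) g
    simp only [Pi.sub_apply, Pi.smul_apply, smul_eq_mul] at h1 h2
    have hc : ∀ k : NP H, conj (Cfsg.indFun H (lam k.1) g) =
        Cfsg.indFun H (lam (conjNP k).1) g := by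
      intro k
      simp only [Char.indFun_apply, map_mul, map_inv₀, map_natCast, map_sum]
      congr 1
      refine Finset.sum_congr rfl fun y _ => ?_
      by_cases hy : y⁻¹ * g * y ∈ H
      · rw [Char.extendByZero_apply_mem H _ hy, Char.extendByZero_apply_mem H _ hy]; rfl
      · rw [Char.extendByZero_of_notMem H _ hy, Char.extendByZero_of_notMem H _ hy, map_zero]
    have hcc : (conjNP (conjNP l)) = l := Subtype.ext (CA.conjIrr_conjIrr _)
    have h3 := congrArg conj h1
    rw [map_sub, hc, hc, hcc, map_mul, map_intCast, map_sub, h2] at h3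
    linear_combination -h3
  have hne : μ (orb H (conjNP l)) ≠ μ (orb H l) := fun h => orb_conjNP_ne hH hodd l (hinj h)
  have hfun : (fun g => conj (μ (orb H l) g)) - (fun g => conj (μ (orb H (conjNP l)) g)) =
      μ (orb H (conjNP l)) - μ (orb H l) := funext hconj
  have h4 := congrArg (fun f => Cfsg.classInner f (μ (orb H (conjNP l)))) hfun
  simp only [Char.classInner_sub_left, Char.classInner_irr_self (hμ _),
    Char.classInner_irr_of_ne (hμ (orb H l)) (hμ _) hne.symm, sub_zero] at h4
  by_contra hcon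
  rw [Char.classInner_irr (CharTwist.isIrrCharacter_conj (hμ _)) (hμ _),
    Char.classInner_irr (CharTwist.isIrrCharacter_conj (hμ _)) (hμ _),
    if_neg (fun h => hcon h.symm)] at h4
  split_ifs at h4 <;> norm_num at h4

end CfsgLib.CN
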