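import Cfsg.Agent.Lib.CN.NilCent
import Mathlib.Algebra.BigOperators.GroupWithZero.Finset
import Mathlib.Algebra.BigOperators.Ring.Finset

/-!
# The class equation for groups covered by nilpotent subgroups containing centralisers
-/

set_option autoImplicit false

namespace CfsgLib.CN

variable {G : Type*} [Group G]

section Reps

variable (G)

/-- Conjugacy of such subgroups. -/
def conjSetoid : Setoid {A : Subgroup G // NilCent A} where
  r A B := ∃ g : G, (A : Subgroup G).map (MulAut.conj g).toMonoidHom = B
  iseqv :=
    { refl := fun A => ⟨1, by ext; simp⟩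
      symm := fun {A B} ⟨g, h⟩ => ⟨g⁻¹, by
        rw [← h, Subgroup.map_map]
        ext x
        simp [Subgroup.mem_map, mul_assoc]⟩
      trans := fun {A B C} ⟨g, h⟩ ⟨k, h'⟩ => ⟨k * g, by
        rw [← h', ← h, Subgroup.map_map]
        congr 1
        ext x
        simp [mul_assoc]⟩ }

/-- The conjugacy classes of such subgroups. -/
abbrev ClassIdx : Type _ := Quotient (conjSetoid G)

noncomputable instance instFintypeClassIdx [Finite G] : Fintype (ClassIdx G) :=
  haveI : Finite (Subgroup G) :=
    Finite.of_injective (fun A => (A : Set G)) SetLike.coe_injective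
  haveI : Finite (ClassIdx G) := Finite.of_surjective (Quotient.mk _) Quotient.mk_surjective
  Fintype.ofFinite _

variable {G}

/-- A chosen representative of a class. -/
noncomputable def rep (i : ClassIdx G) : Subgroup G := (Quotient.out i).1

theorem rep_nilCent (i : ClassIdx G) : NilCent (rep i) := (Quotient.out i).2

/-- The elements of conjugates of the representative of `i`. -/
def InClass (i : ClassIdx G) (z : G) : Prop := ∃ y : G, y⁻¹ * z * y ∈ rep i

theorem exists_inClass
    (hcov : ∀ z : G, z ≠ 1 → ∃ H : Subgroup G, NilCent H ∧ z ∈ H)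
    {z : G} (hz : z ≠ 1) : ∃ i, InClass i z := by
  obtain ⟨H, hH, hzH⟩ := hcov z hz
  let A : {A : Subgroup G // NilCent A} := ⟨H, hH⟩
  refine ⟨Quotient.mk _ A, ?_⟩
  obtain ⟨g, hg⟩ := Quotient.exact (s := conjSetoid G) (Quotient.out_eq (Quotient.mk _ A))
  have hz' : z ∈ (rep (Quotient.mk _ A)).map (MulAut.conj g).toMonoidHom := by
    unfold rep
    rw [hg]
    exact hzH
  obtain ⟨b, hb, rfl⟩ := hz'
  exact ⟨g, by simpa [mul_assoc] using hb⟩

theorem inClass_unique [Finite G] {z : G} (hz : z ≠ 1) {i j : ClassIdx G} (hi : InClass i z)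
    (hj : InClass j z) : i = j := by
  obtain ⟨y, hy⟩ := hi
  obtain ⟨w, hw⟩ := hj
  rw [← Quotient.out_eq i, ← Quotient.out_eq j]
  refine Quotient.sound ⟨w⁻¹ * y, ?_⟩
  have hne : ∀ u : G, u⁻¹ * z * u ≠ 1 := fun u h => hz (by
    have := congrArg (fun t => u * t * u⁻¹) h
    simpa [mul_assoc] using this)
  have hA := (rep_nilCent i).map_conj (w⁻¹ * y)
  have hB := rep_nilCent j
  have hmem : w⁻¹ * z * w ∈ (rep i).map (MulAut.conj (w⁻¹ * y)).toMonoidHom :=
    ⟨y⁻¹ * z * y, hy, by simp [mul_assoc]⟩
  exact hA.eq_of_mem_mem hB hmem hw (hne w)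

variable [Fintype G]

open Classical in
/-- The nonidentity elements of the representative, as a finset. -/
noncomputable def repSharp (i : ClassIdx G) : Finset G :=
  Finset.univ.filter fun b => b ∈ rep i ∧ b ≠ 1

/-- The class equation: a class function summed over the nonidentity elements. -/
theorem sum_classes {R : Type*} [Ring R]
    (hcov : ∀ z : G, z ≠ 1 → ∃ H : Subgroup G, NilCent H ∧ z ∈ H)
    [DecidableEq G] (f : G → R) (hf : ∀ g h : G, f (h * g * h⁻¹) = f g) :
    ∑ z ∈ Finset.univ.erase (1 : G), f z =
      ∑ i : ClassIdx G, ((Subgroup.normalizer (rep i : Set G)).index : R) *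
        ∑ b ∈ repSharp i, f b := by
  classical
  choose cls hcls using fun z : {z : G // z ≠ 1} => exists_inClass hcov z.2
  have hper : ∀ i : ClassIdx G, ∑ z ∈ (Finset.univ.erase (1 : G)).filter (fun z => InClass i z),
      f z = ((Subgroup.normalizer (rep i : Set G)).index : R) * ∑ b ∈ repSharp i, f b := by
    intro i
    set N := Subgroup.normalizer (rep i : Set G) with hN
    have : Fintype (G ⧸ N) := Fintype.ofFinite _
    rw [Subgroup.index, Nat.card_eq_fintype_card, ← nsmul_eq_mul, ← Finset.card_univ,
      ← Finset.sum_const, ← Finset.sum_product']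
    symm
    refine Finset.sum_bij (fun p _ => p.1.out * p.2 * p.1.out⁻¹) ?_ ?_ ?_ ?_
    · intro p hp
      simp only [Finset.mem_product, Finset.mem_univ, true_and, repSharp, Finset.mem_filter] at hp
      simp only [Finset.mem_filter, Finset.mem_erase, Finset.mem_univ, and_true]
      exact ⟨fun h => hp.2 (conj_eq_one_iff.mp h), p.1.out, by simpa [mul_assoc] using hp.1⟩
    · intro p hp q hq h
      simp only [Finset.mem_product, Finset.mem_univ, true_and, repSharp, Finset.mem_filter] at hp hq
      have hg : q.1.out⁻¹ * p.1.out ∈ N := by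
        refine (rep_nilCent i).mem_normalizer_of_conj_mem hp.1 hp.2 ?_
        have := congrArg (fun t => q.1.out⁻¹ * t * q.1.out) h
        simp only [mul_assoc] at this ⊢
        simp only [mul_inv_rev, inv_inv, inv_mul_cancel_left, inv_mul_cancel, mul_one] at this ⊢
        rw [this]
        exact hq.1
      have h1 : p.1 = q.1 := by
        rw [← QuotientGroup.out_eq' p.1, ← QuotientGroup.out_eq' q.1]
        exact (QuotientGroup.eq.mpr hg).symm
      refine Prod.ext h1 ?_
      simp only [h1] at h
      exact mul_left_cancel (mul_right_cancel h)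
    · intro z hz
      simp only [Finset.mem_filter, Finset.mem_erase, Finset.mem_univ, and_true] at hz
      obtain ⟨hz1, y, hy⟩ := hz
      set q : G ⧸ N := QuotientGroup.mk y
      have hn : y⁻¹ * q.out ∈ N := QuotientGroup.eq.mp (QuotientGroup.out_eq' q).symm
      refine ⟨(q, q.out⁻¹ * z * q.out), ?_, by simp [mul_assoc]⟩
      simp only [Finset.mem_product, Finset.mem_univ, true_and, repSharp, Finset.mem_filter]
      refine ⟨?_, fun h => hz1 ?_⟩
      · have := (Subgroup.mem_normalizer_iff''.mp hn (y⁻¹ * z * y)).mp hy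
        simpa [mul_assoc] using this
      · have := congrArg (fun t => q.out * t * q.out⁻¹) h
        simpa [mul_assoc] using this
    · intro p _
      exact (hf _ _).symm
  rw [← Finset.sum_congr rfl fun i _ => hper i]
  rw [Finset.sum_comm' (s' := fun z => Finset.univ.filter (fun i => InClass i z))
    (t' := Finset.univ.erase (1 : G)) (by intro x y; simp [and_comm])]
  refine Finset.sum_congr rfl fun z hz => ?_
  have hz1 : z ≠ 1 := (Finset.mem_erase.mp hz).1
  have : Finset.univ.filter (fun i => InClass i z) = {cls ⟨z, hz1⟩} := by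
    ext i
    simp only [Finset.mem_filter, Finset.mem_univ, true_and, Finset.mem_singleton]
    exact ⟨fun h => inClass_unique hz1 h (hcls ⟨z, hz1⟩), fun h => h ▸ hcls ⟨z, hz1⟩⟩
  rw [this, Finset.sum_singleton]

end Reps

end CfsgLib.CN
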