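import Cfsg.Agent.Lib.CN.Chars

/-!
# Values of characters averaged over the cosets of the derived subgroup
-/

set_option autoImplicit false

open scoped ComplexConjugate

namespace CfsgLib.CN

universe u

variable {G : Type u} [Group G] (H : Subgroup G)

open Classical in
/-- The coset of `H'` with image `q`. -/
noncomputable def fib [Fintype H] (q : Ab H) : Finset H :=
  Finset.univ.filter fun b => Abelianization.of b = q

/-- The sum of a function over a coset of `H'`. -/
noncomputable def fibSum [Fintype H] (φ : G → ℂ) (q : Ab H) : ℂ := ∑ b ∈ fib H q, φ (b : G)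

/-- The order of `H'`. -/
noncomputable def kc : ℕ := Nat.card (commutator H)

theorem card_eq_kc_mul : Nat.card H = kc H * Nat.card (Ab H) := by
  rw [Subgroup.card_eq_card_quotient_mul_card_subgroup (commutator H), mul_comm]
  rfl

variable {H}

theorem mem_fib [Fintype H] {q : Ab H} {b : H} : b ∈ fib H q ↔ Abelianization.of b = q := by
  classical
  simp [fib]

theorem card_fib [Fintype H] (q : Ab H) : (fib H q).card = kc H := by
  classical
  obtain ⟨b₀, rfl⟩ := of_surjective H q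
  rw [fib, ← Fintype.card_subtype, ← Nat.card_eq_fintype_card, kc]
  refine Nat.card_congr
    { toFun := fun c => ⟨b₀⁻¹ * c.1, (QuotientGroup.eq_one_iff _).mp (by
        show Abelianization.of (b₀⁻¹ * c.1) = 1
        rw [map_mul, map_inv, c.2, inv_mul_cancel])⟩
      invFun := fun c => ⟨b₀ * c.1, by
        rw [map_mul, show Abelianization.of (c : H) = 1 from (QuotientGroup.eq_one_iff _).mpr c.2,
          mul_one]⟩
      left_inv := fun c => by simp
      right_inv := fun c => by simp }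

theorem norm_sum_sq_le {ι : Type*} (s : Finset ι) (f : ι → ℂ) :
    ‖∑ i ∈ s, f i‖ ^ 2 ≤ (s.card : ℝ) * ∑ i ∈ s, ‖f i‖ ^ 2 :=
  (pow_le_pow_left₀ (norm_nonneg _) (norm_sum_le s f) 2).trans sq_sum_le_card_mul_sum_sq

variable [Fintype G] [Fintype H]

open Classical in
/-- Column orthogonality summed over a coset of `H'`. -/
theorem sum_fib_column (hH : NilCent H) {q : Ab H} (hq : q ≠ 1) {u : H} (hu : u ∈ fib H q) :
    ∑ v ∈ fib H q, ∑ φ : Cfsg.IrrCharacter G, (φ : G → ℂ) u * conj ((φ : G → ℂ) v) =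
      (Nat.card H : ℂ) := by
  have hu1 : (u : G) ≠ 1 := fun h => hq (by
    rw [← mem_fib.mp hu, show u = 1 from Subtype.ext h, map_one])
  have hterm : ∀ v ∈ fib H q, (if IsConj (u : G) (v : G) then
      (Nat.card (Subgroup.centralizer ({(u : G)} : Set G)) : ℂ) else 0) =
      ((Finset.univ.filter fun y : H => y * u * y⁻¹ = v).card : ℂ) := by
    intro v hv
    split_ifs with hc
    · obtain ⟨y, hy⟩ := isConj_iff.mp hc
      have hyN : y ∈ Subgroup.normalizer (H : Set G) :=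
        hH.mem_normalizer_of_conj_mem u.2 hu1 (hy ▸ v.2)
      have hyH : y ∈ H := mem_of_conjQ_eq hH ⟨y, hyN⟩ (b := u) (by rw [mem_fib.mp hu]; exact hq) (by
        rw [show CA.conjA H ⟨y, hyN⟩ u = v from Subtype.ext hy, mem_fib.mp hu, mem_fib.mp hv])
      rw [← Fintype.card_subtype, ← Nat.card_eq_fintype_card, Nat.cast_inj]
      refine Nat.card_congr
        { toFun := fun z => ⟨⟨y, hyH⟩ * ⟨(z : G), hH.centralizer_le _ u.2 hu1 z.2⟩, Subtype.ext (by
            have hz : (z : G) * u = u * z := Subgroup.mem_centralizer_singleton_iff.mp z.2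
            push_cast
            rw [mul_inv_rev, mul_assoc y (z : G) (u : G), hz, ← hy]
            group)⟩
          invFun := fun z => ⟨y⁻¹ * ((z : H) : G), Subgroup.mem_centralizer_singleton_iff.mpr (by
            have hz : ((z : H) : G) * u * ((z : H) : G)⁻¹ = y * u * y⁻¹ := by
              rw [hy]; exact congrArg Subtype.val z.2
            rw [mul_assoc, mul_inv_eq_iff_eq_mul.mp hz]
            group)⟩
          left_inv := fun z => Subtype.ext (by simp)
          right_inv := fun z => Subtype.ext (Subtype.ext (by simp)) }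
    · rw [Finset.filter_eq_empty_iff.mpr, Finset.card_empty, Nat.cast_zero]
      intro y _ hy
      exact hc (isConj_iff.mpr ⟨(y : G), congrArg Subtype.val hy⟩)
  rw [Finset.sum_congr rfl fun (v : H) hv => (Char.sum_mul_conj (u : G) (v : G)).trans (hterm v hv),
    ← Nat.cast_sum, Nat.cast_inj, Nat.card_eq_fintype_card, ← Finset.card_univ]
  refine (Finset.card_eq_sum_card_fiberwise fun y _ => ?_).symm
  rw [Finset.mem_coe, mem_fib, map_mul, map_mul, map_inv, mem_fib.mp hu,
    mul_comm (Abelianization.of y) q, mul_inv_cancel_right]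

variable [Fintype (Ab H)]

open Classical in
/-- Everything needed about the exceptional family of `H`. -/
theorem exists_family (hH : NilCent H) (hodd : Odd (Nat.card G)) :
    ∃ (E : Finset (Cfsg.IrrCharacter G)) (X : Cfsg.IrrCharacter G → ℤ) (n t : ℕ),
      n * Nat.card H = Nat.card (Subgroup.normalizer (H : Set G)) ∧
      Nat.card (Ab H) = n * t + 1 ∧ 2 ≤ t ∧ E.card = t ∧
      Char.principalIrr ∉ E ∧
      (∀ φ ∈ E, CA.conjIrr φ ∈ E) ∧
      (∀ φ, X (CA.conjIrr φ) = X φ) ∧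
      X Char.principalIrr = 1 ∧
      (∀ φ, φ ∉ E → ∀ q : Ab H, q ≠ 1 → fibSum H (φ : G → ℂ) q = (kc H : ℂ) * (X φ : ℂ)) ∧
      (∀ S : Finset (Cfsg.IrrCharacter G), Disjoint S E → Char.principalIrr ∉ S →
        ∑ φ ∈ S, X φ ^ 2 ≤ (n : ℤ) - 1) ∧
      (∀ φ ∈ E, (Nat.card H : ℝ) * ((n : ℝ) - (n : ℝ) ^ 2 / Nat.card (Ab H)) ≤
        ∑ b ∈ CA.sharp H, ‖(φ : G → ℂ) b‖ ^ 2) ∧
      (∀ φ, φ ∉ E → X φ ≠ 0 → (Nat.card H : ℝ) * ((n : ℝ) * t / Nat.card (Ab H)) ≤
        ∑ b ∈ CA.sharp H, ‖(φ : G → ℂ) b‖ ^ 2) ∧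
      (∀ φ ∈ E, ∀ ψ ∈ E, ∀ z : G, (∀ y : G, y⁻¹ * z * y ∈ H → y⁻¹ * z * y = 1) →
        (φ : G → ℂ) z = (ψ : G → ℂ) z) := by
  obtain ⟨ε, μ, hε, hinj, hdiff, hconjμ⟩ := exists_mu hH hodd
  obtain ⟨l₀⟩ := nonempty_np hH
  set a := Nat.card (Ab H) with ha
  set k := kc H with hk
  have hkpos : 0 < k := hk ▸ (Nat.card_pos : 0 < Nat.card (commutator H))
  have hkne : (k : ℂ) ≠ 0 := Nat.cast_ne_zero.mpr hkpos.ne'
  have hne : (a : ℂ) ≠ 0 := Nat.cast_ne_zero.mpr Nat.card_pos.ne'
  have hneH : (Nat.card H : ℂ) ≠ 0 := Nat.cast_ne_zero.mpr Nat.card_pos.ne'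
  have hHka : Nat.card H = k * a := card_eq_kc_mul H
  let δ : Cfsg.IrrCharacter G → NP H → ℂ := fun φ l => if μ (orb H l) = φ then 1 else 0
  let m : Cfsg.IrrCharacter G → Cfsg.IrrCharacter (Ab H) → ℂ := fun φ l =>
    Cfsg.classInner (fun b : H => (φ : G → ℂ) b) (lam l)
  have hm : ∀ (φ : Cfsg.IrrCharacter G) (l l' : NP H),
      m φ l.1 - m φ l'.1 = (ε : ℂ) * (δ φ l - δ φ l') := by
    intro φ l l'
    have hrec : ∀ k : NP H, m φ k.1 =
        conj (Cfsg.classInner (Cfsg.indFun H (lam k.1)) (φ : G → ℂ)) := by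
      intro k
      rw [Char.classInner_indFun _ _ _ (Char.IsIrrCharacter.isClassFunction φ.2),
        Char.classInner_conj_symm]
    rw [hrec, hrec, ← map_sub, ← Char.classInner_sub_left, hdiff, Char.classInner_smul_left,
      Char.classInner_sub_left, Char.classInner_irrCharacter, Char.classInner_irrCharacter,
      map_mul, map_intCast, map_sub]
    simp only [δ]
    split_ifs <;> simp
  have hXex : ∀ φ, ∃ z : ℤ, (z : ℂ) = m φ Char.principalIrr - (m φ l₀.1 - (ε : ℂ) * δ φ l₀) := by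
    intro φ
    obtain ⟨p, hp⟩ := Char.IsCharacter.exists_nat_classInner
      (CharTwist.isCharacter_comp (Char.IsIrrCharacter.isCharacter φ.2) H.subtype)
      (pull (Char.principalIrr : Cfsg.IrrCharacter (Ab H))).2
    obtain ⟨q, hq⟩ := Char.IsCharacter.exists_nat_classInner
      (CharTwist.isCharacter_comp (Char.IsIrrCharacter.isCharacter φ.2) H.subtype) (pull l₀.1).2
    refine ⟨(p : ℤ) - ((q : ℤ) - ε * (if μ (orb H l₀) = φ then 1 else 0)), ?_⟩
    rw [show m φ Char.principalIrr = (p : ℂ) from hp, show m φ l₀.1 = (q : ℂ) from hq]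
    simp only [δ]
    split_ifs <;> simp
  choose X hX using hXex
  let Θ : Cfsg.IrrCharacter G → Ab H → ℂ := fun φ b => ∑ l : NP H, δ φ l * (l.1 : Ab H → ℂ) b
  have hexp : ∀ (φ : Cfsg.IrrCharacter G) (q : Ab H),
      fibSum H (φ : G → ℂ) q =
        (k : ℂ) * ∑ l : Cfsg.IrrCharacter (Ab H), m φ l * (l : Ab H → ℂ) q := by
    intro φ q
    have h1 : ∀ l : Cfsg.IrrCharacter (Ab H), m φ l * (l : Ab H → ℂ) q =
        (Nat.card H : ℂ)⁻¹ * ∑ b : H, (φ : G → ℂ) b *
          ((l : Ab H → ℂ) q * conj ((l : Ab H → ℂ) (Abelianization.of b))) := by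
      intro l
      simp only [m, Cfsg.classInner, lam, Finset.mul_sum, Finset.sum_mul]
      exact Finset.sum_congr rfl fun b _ => by ring
    rw [Finset.sum_congr rfl (fun l _ => h1 l), ← Finset.mul_sum, Finset.sum_comm]
    simp only [← Finset.mul_sum, colQ, mul_ite, mul_zero]
    rw [← Finset.sum_filter, ← Finset.sum_mul, hHka]
    have hfe : (Finset.univ.filter fun b : H => q = Abelianization.of b) = fib H q := by
      ext b; simp [mem_fib, eq_comm]
    rw [hfe, fibSum, Nat.cast_mul, ← ha]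
    field_simp
  have hval : ∀ (φ : Cfsg.IrrCharacter G) (b : Ab H), b ≠ 1 →
      fibSum H (φ : G → ℂ) b = (k : ℂ) * ((X φ : ℂ) + (ε : ℂ) * Θ φ b) := by
    intro φ b hb
    rw [hexp φ b]
    congr 1
    rw [← Finset.add_sum_erase _ _ (Finset.mem_univ Char.principalIrr), Char.principalIrr_apply,
      Finset.sum_subtype (Finset.univ.erase Char.principalIrr) (p := fun l => l ≠ Char.principalIrr)
        (by simp)]
    have hl : ∀ l : NP H, m φ l.1 * (l.1 : Ab H → ℂ) b =
        (m φ l₀.1 - (ε : ℂ) * δ φ l₀) * (l.1 : Ab H → ℂ) b +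
          (ε : ℂ) * (δ φ l * (l.1 : Ab H → ℂ) b) := by
      intro l
      linear_combination (l.1 : Ab H → ℂ) b * hm φ l l₀
    rw [Finset.sum_congr rfl (fun l _ => hl l), Finset.sum_add_distrib, ← Finset.mul_sum,
      ← Finset.mul_sum, sum_np_apply hb, hX]
    ring
  -- fibres of the orbit map
  let n := Nat.card {l : NP H // orb H l = orb H l₀}
  let E := (Finset.univ : Finset (Orb H)).image μ
  have hfibo : ∀ o : Orb H, (Finset.univ.filter fun l : NP H => orb H l = o).card * Nat.card H =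
      Nat.card (Subgroup.normalizer (H : Set G)) := by
    intro o
    obtain ⟨l, rfl⟩ := Quotient.exists_rep o
    have h : ∑ k : NP H, (Nat.card H : ℂ) * (if orb H l = orb H k then 1 else 0) =
        (Nat.card (Subgroup.normalizer (H : Set G)) : ℂ) := by
      simp only [card_mul_orb_eq hH]
      rw [Finset.sum_comm]
      simp [Nat.card_eq_fintype_card]
    rw [← Finset.mul_sum, Finset.sum_boole, ← Nat.cast_mul, Nat.cast_inj] at h
    rw [← h, mul_comm]
    congr 2
    ext k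
    simp [eq_comm]
  have hn : n * Nat.card H = Nat.card (Subgroup.normalizer (H : Set G)) := by
    rw [← hfibo (orb H l₀)]
    simp [n, Nat.card_eq_fintype_card, Fintype.card_subtype]
  have hfib' : ∀ o : Orb H, (Finset.univ.filter fun l : NP H => orb H l = o).card = n :=
    fun o => Nat.eq_of_mul_eq_mul_right Nat.card_pos ((hfibo o).trans hn.symm)
  set t := Fintype.card (Orb H) with ht
  have hat : a = n * t + 1 := by
    have h1 : Fintype.card (NP H) = n * t := by
      rw [← Finset.card_univ, Finset.card_eq_sum_card_fiberwise (f := orb H)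
        (t := Finset.univ) (fun _ _ => Finset.mem_univ _), Finset.sum_congr rfl (fun o _ => hfib' o),
        Finset.sum_const, Finset.card_univ, smul_eq_mul, mul_comm]
    have h2 := card_irrQ (H := H)
    rw [Nat.card_eq_fintype_card, Fintype.card_subtype_compl] at *
    simp only [Fintype.card_subtype_eq] at h1
    have : 0 < Fintype.card (Cfsg.IrrCharacter (Ab H)) := Fintype.card_pos_iff.mpr ⟨Char.principalIrr⟩
    omega
  have hnodd : Odd n := Odd.of_dvd_nat hodd
    (dvd_trans ⟨Nat.card H, hn.symm⟩ (Subgroup.card_subgroup_dvd_card _))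
  have hteven : Even t := by
    have : Odd a := (Odd.of_dvd_nat hodd (Subgroup.card_subgroup_dvd_card H)).of_dvd_nat
      (Dvd.intro_left k hHka.symm)
    rw [hat, Nat.odd_add_one, Nat.not_odd_iff_even, Nat.even_mul] at this
    exact this.resolve_left (Nat.not_even_iff_odd.mpr hnodd)
  have ht2 : 2 ≤ t := by
    have : 0 < t := Fintype.card_pos_iff.mpr ⟨orb H l₀⟩
    obtain ⟨c, hc⟩ := hteven
    omega
  have hEcard : E.card = t := by rw [Finset.card_image_of_injective _ hinj, Finset.card_univ]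
  have hmemE : ∀ φ, φ ∈ E ↔ ∃ o, μ o = φ := fun φ => by simp [E]
  have hδ0 : ∀ φ, φ ∉ E → ∀ l, δ φ l = 0 := fun φ hφ l =>
    if_neg fun h => hφ ((hmemE φ).mpr ⟨_, h⟩)
  have hclosed : ∀ φ ∈ E, CA.conjIrr φ ∈ E := by
    intro φ hφ
    obtain ⟨o, rfl⟩ := (hmemE φ).mp hφ
    obtain ⟨l, rfl⟩ := Quotient.exists_rep o
    exact (hmemE _).mpr ⟨_, hconjμ l⟩
  have hprin : Char.principalIrr ∉ E := by
    intro h
    obtain ⟨o, ho⟩ := (hmemE _).mp h
    obtain ⟨l, rfl⟩ := Quotient.exists_rep o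
    refine orb_conjNP_ne hH hodd l (hinj ?_)
    rw [hconjμ, ho]
    exact Subtype.ext (funext fun g => by simp [CA.conjIrr_apply])
  obtain ⟨b₀, hb₀⟩ := exists_of_ne_one hH
  have hoff : ∀ φ, φ ∉ E → ∀ q : Ab H, q ≠ 1 → fibSum H (φ : G → ℂ) q = (k : ℂ) * (X φ : ℂ) := by
    intro φ hφ q hq
    simp [hval φ q hq, Θ, hδ0 φ hφ]
  have hX1 : X Char.principalIrr = 1 := by
    have h := hoff _ hprin _ hb₀
    rw [fibSum, Finset.sum_congr rfl (fun (b : H) _ => Char.principalIrr_apply (b : G)), Finset.sum_const,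
      card_fib, nsmul_eq_mul, ← hk, mul_one] at h
    exact_mod_cast (mul_left_cancel₀ hkne (h.symm.trans (mul_one (k : ℂ)).symm) :
      (X Char.principalIrr : ℂ) = 1)
  have hXconj : ∀ φ, X (CA.conjIrr φ) = X φ := by
    intro φ
    have hΘ : Θ (CA.conjIrr φ) (Abelianization.of b₀) = conj (Θ φ (Abelianization.of b₀)) := by
      simp only [Θ, map_sum, map_mul]
      refine Fintype.sum_equiv ⟨conjNP, conjNP, fun l => Subtype.ext (CA.conjIrr_conjIrr _),
        fun l => Subtype.ext (CA.conjIrr_conjIrr _)⟩ _ _ fun l => ?_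
      simp only [δ, Equiv.coe_fn_mk]
      have hiff : μ (orb H l) = CA.conjIrr φ ↔ μ (orb H (conjNP l)) = φ := by
        rw [hconjμ]
        exact ⟨fun h => by rw [h, CA.conjIrr_conjIrr], fun h => by rw [← h, CA.conjIrr_conjIrr]⟩
      rw [if_congr hiff rfl rfl]
      split_ifs <;> simp [conjNP, CA.conjIrr_apply]
    have h1 := hval φ _ hb₀
    have h2 := hval (CA.conjIrr φ) _ hb₀
    have h3 : fibSum H (CA.conjIrr φ : G → ℂ) (Abelianization.of b₀) =
        conj (fibSum H (φ : G → ℂ) (Abelianization.of b₀)) := by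
      simp [fibSum, CA.conjIrr_apply, map_sum]
    rw [h3, h1, hΘ, map_mul, map_natCast, map_add, map_mul, map_intCast, map_intCast] at h2
    exact_mod_cast (add_right_cancel (mul_left_cancel₀ hkne h2)).symm
  have hsumΘ : ∀ b : Ab H, ∀ o, Θ (μ o) b =
      ∑ l ∈ Finset.univ.filter (fun l : NP H => orb H l = o), (l.1 : Ab H → ℂ) b := by
    intro b o
    simp only [Θ, δ, hinj.eq_iff, ite_mul, one_mul, zero_mul, Finset.sum_filter]
  -- second moments
  let Qs := (Finset.univ : Finset (Ab H)).erase 1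
  have hrow : ∀ r r' : Cfsg.IrrCharacter (Ab H),
      ∑ c : Ab H, (r : Ab H → ℂ) c * conj ((r' : Ab H → ℂ) c) = if r = r' then (a : ℂ) else 0 := by
    intro r r'
    have h := Char.classInner_irrCharacter r r'
    rw [Cfsg.classInner, inv_mul_eq_iff_eq_mul₀ hne] at h
    rw [h, mul_ite, mul_one, mul_zero]
  have hS1 : ∀ o, ∑ c ∈ Qs, Θ (μ o) c = -(n : ℂ) := by
    intro o
    simp only [hsumΘ]
    rw [Finset.sum_comm, ← hfib' o]
    have : ∀ l ∈ Finset.univ.filter (fun l : NP H => orb H l = o),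
        ∑ c ∈ Qs, (l.1 : Ab H → ℂ) c = -1 := by
      intro l _
      have h := hrow l.1 Char.principalIrr
      rw [if_neg l.2] at h
      simp only [Char.principalIrr_apply, map_one, mul_one] at h
      rw [← Finset.add_sum_erase _ _ (Finset.mem_univ (1 : Ab H)), irr_apply_one] at h
      linear_combination h
    rw [Finset.sum_congr rfl this, Finset.sum_const, nsmul_eq_mul]
    ring
  have hS2 : ∀ o, ∑ c ∈ Qs, Θ (μ o) c * conj (Θ (μ o) c) = (n : ℂ) * a - (n : ℂ) ^ 2 := by
    intro o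
    simp only [hsumΘ, map_sum, Finset.sum_mul_sum]
    rw [Finset.sum_comm]
    have : ∀ l ∈ Finset.univ.filter (fun l : NP H => orb H l = o),
        ∑ c ∈ Qs, ∑ r ∈ Finset.univ.filter (fun l : NP H => orb H l = o),
          (l.1 : Ab H → ℂ) c * conj ((r.1 : Ab H → ℂ) c) = (a : ℂ) - n := by
      intro l hl
      rw [Finset.sum_comm]
      have hr : ∀ r : NP H, ∑ c ∈ Qs, (l.1 : Ab H → ℂ) c * conj ((r.1 : Ab H → ℂ) c) =
          (if l = r then (a : ℂ) else 0) - 1 := by
        intro r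
        have h := hrow l.1 r.1
        rw [← Finset.add_sum_erase _ _ (Finset.mem_univ (1 : Ab H)), irr_apply_one,
          irr_apply_one, map_one, one_mul] at h
        rw [show (if l = r then (a : ℂ) else 0) = if l.1 = r.1 then (a : ℂ) else 0 from
          if_congr Subtype.ext_iff rfl rfl]
        linear_combination h
      rw [Finset.sum_congr rfl (fun r _ => hr r), Finset.sum_sub_distrib, Finset.sum_ite_eq,
        if_pos hl, Finset.sum_const, hfib' o, nsmul_eq_mul, mul_one]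
    rw [Finset.sum_congr rfl this, Finset.sum_const, hfib' o, nsmul_eq_mul]
    ring
  have hQs : (Qs.card : ℂ) = (n : ℂ) * t := by
    rw [Finset.card_erase_of_mem (Finset.mem_univ _), Finset.card_univ, ← Nat.card_eq_fintype_card,
      ← ha, hat]
    simp
  have hsq : ∀ φ : Cfsg.IrrCharacter G,
      ∑ q ∈ Qs, fibSum H (φ : G → ℂ) q * conj (fibSum H (φ : G → ℂ) q) =
      (k : ℂ) ^ 2 * ((n : ℂ) * t * (X φ : ℂ) ^ 2 +
        if φ ∈ E then (n : ℂ) * a - (n : ℂ) ^ 2 - 2 * (ε : ℂ) * n * (X φ : ℂ) else 0) := by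
    intro φ
    rw [Finset.sum_congr rfl (fun c hc => by rw [hval φ c (Finset.mem_erase.mp hc).1])]
    have hε2 : (ε : ℂ) * ε = 1 := by rcases hε with h | h <;> simp [h]
    by_cases hφ : φ ∈ E
    · obtain ⟨o, rfl⟩ := (hmemE φ).mp hφ
      rw [if_pos hφ]
      have hexp' : ∀ c : Ab H, ((k : ℂ) * ((X (μ o) : ℂ) + (ε : ℂ) * Θ (μ o) c)) *
          conj ((k : ℂ) * ((X (μ o) : ℂ) + (ε : ℂ) * Θ (μ o) c)) =
          (k : ℂ) ^ 2 * ((X (μ o) : ℂ) ^ 2 + (X (μ o) : ℂ) * (ε : ℂ) * Θ (μ o) c +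
            (X (μ o) : ℂ) * (ε : ℂ) * conj (Θ (μ o) c) + Θ (μ o) c * conj (Θ (μ o) c)) := by
        intro c
        rw [map_mul, map_natCast, map_add, map_mul, map_intCast, map_intCast]
        linear_combination ((k : ℂ) ^ 2 * (Θ (μ o) c * conj (Θ (μ o) c))) * hε2
      simp only [hexp', ← Finset.mul_sum, Finset.sum_add_distrib, Finset.sum_const, nsmul_eq_mul,
        hQs, ← map_sum, hS1, hS2, map_neg, map_natCast]
      ring
    · rw [if_neg hφ]
      simp only [Θ, hδ0 φ hφ, zero_mul, Finset.sum_const_zero, mul_zero, add_zero,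
        map_mul, map_natCast, map_intCast, Finset.sum_const, nsmul_eq_mul, hQs]
      ring
  have hge : ∀ x : ℤ, 0 ≤ (t : ℤ) * x ^ 2 - 2 * ε * x := by
    intro x
    have ht2' : (2 : ℤ) ≤ (t : ℤ) := by exact_mod_cast ht2
    rcases eq_or_ne x 0 with rfl | hx
    · simp
    · have hxx : |x| ≤ x ^ 2 := by
        rw [← sq_abs]
        have := Int.one_le_abs hx
        nlinarith
      have h2 : ε * x ≤ |x| := by
        rcases hε with h | h <;> rw [h]
        · simpa using le_abs_self x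
        · simpa using neg_le_abs x
      nlinarith
  -- the norm over `H \ H'` dominates
  have hsharp : ∀ φ : Cfsg.IrrCharacter G, ∀ r : ℝ,
      ((∑ q ∈ Qs, fibSum H (φ : G → ℂ) q * conj (fibSum H (φ : G → ℂ) q)) =
        (k : ℂ) ^ 2 * (r : ℂ)) →
      (k : ℝ) * r ≤ ∑ b ∈ CA.sharp H, ‖(φ : G → ℂ) b‖ ^ 2 := by
    intro φ r h
    have h' : ∑ q ∈ Qs, ‖fibSum H (φ : G → ℂ) q‖ ^ 2 = (k : ℝ) ^ 2 * r := by
      have : ((∑ q ∈ Qs, ‖fibSum H (φ : G → ℂ) q‖ ^ 2 : ℝ) : ℂ) = (((k : ℝ) ^ 2 * r : ℝ) : ℂ) := by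
        push_cast
        rw [← h]
        exact Finset.sum_congr rfl fun q _ => (Complex.mul_conj' _).symm
      exact_mod_cast this
    have hfw : ∑ q ∈ Qs, ∑ b ∈ fib H q, ‖(φ : G → ℂ) b‖ ^ 2 ≤
        ∑ b ∈ CA.sharp H, ‖(φ : G → ℂ) b‖ ^ 2 := by
      rw [← Finset.sum_biUnion (fun x _ y _ hxy => Finset.disjoint_left.mpr fun b hb hb' =>
          hxy ((mem_fib.mp hb).symm.trans (mem_fib.mp hb'))),
        ← Finset.sum_image (f := fun z : G => ‖(φ : G → ℂ) z‖ ^ 2)
          (g := fun b : H => (b : G)) (fun x _ y _ hxy => Subtype.ext hxy)]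
      refine Finset.sum_le_sum_of_subset_of_nonneg ?_ fun _ _ _ => sq_nonneg _
      intro z hz
      obtain ⟨b, hb, rfl⟩ := Finset.mem_image.mp hz
      refine CA.mem_sharp.mpr ⟨b.2, fun h1 => ?_⟩
      obtain ⟨q, hq, hbq⟩ := Finset.mem_biUnion.mp hb
      refine (Finset.mem_erase.mp hq).1 ?_
      rw [← mem_fib.mp hbq, show b = 1 from Subtype.ext h1, map_one]
    have hcs : ∑ q ∈ Qs, ‖fibSum H (φ : G → ℂ) q‖ ^ 2 ≤
        (k : ℝ) * ∑ q ∈ Qs, ∑ b ∈ fib H q, ‖(φ : G → ℂ) b‖ ^ 2 := by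
      rw [Finset.mul_sum]
      refine Finset.sum_le_sum fun q _ => ?_
      have := norm_sum_sq_le (fib H q) (fun b : H => (φ : G → ℂ) b)
      rwa [card_fib, ← hk] at this
    rw [h', sq, mul_assoc] at hcs
    exact (le_of_mul_le_mul_left hcs (Nat.cast_pos.mpr hkpos)).trans hfw
  have hHR : (Nat.card H : ℝ) = (k : ℝ) * a := by exact_mod_cast hHka
  have haR : (a : ℝ) ≠ 0 := Nat.cast_ne_zero.mpr Nat.card_pos.ne'
  refine ⟨E, X, n, t, hn, hat, ht2, hEcard, hprin, hclosed, hXconj, hX1, hoff, ?_, ?_, ?_, ?_⟩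
  · intro S hS hS1'
    have htot : ∑ φ : Cfsg.IrrCharacter G,
        ∑ q ∈ Qs, fibSum H (φ : G → ℂ) q * conj (fibSum H (φ : G → ℂ) q) =
        (k : ℂ) ^ 2 * ((n : ℂ) * t * a) := by
      rw [Finset.sum_comm, Finset.sum_congr rfl (g := fun _ => (k : ℂ) * (Nat.card H : ℂ)) ?_,
        Finset.sum_const, nsmul_eq_mul, hQs, hHka]
      · push_cast
        ring
      · intro q hq
        simp only [fibSum, map_sum, Finset.sum_mul_sum]
        rw [Finset.sum_comm]
        rw [Finset.sum_congr rfl (g := fun _ => (Nat.card H : ℂ)) ?_, Finset.sum_const, card_fib,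
          nsmul_eq_mul]
        intro u hu
        rw [Finset.sum_comm]
        exact sum_fib_column hH (Finset.mem_erase.mp hq).1 hu
    rw [Finset.sum_congr rfl (fun φ _ => hsq φ), ← Finset.mul_sum] at htot
    replace htot := mul_left_cancel₀ (pow_ne_zero 2 hkne) htot
    rw [Finset.sum_add_distrib, Finset.sum_ite_mem, Finset.univ_inter, ← Finset.mul_sum] at htot
    have htotZ : (n : ℤ) * t * (∑ φ, X φ ^ 2) +
        ∑ φ ∈ E, ((n : ℤ) * a - (n : ℤ) ^ 2 - 2 * ε * n * X φ) = (n : ℤ) * t * a := by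
      exact_mod_cast htot
    rw [Finset.sum_sub_distrib, Finset.sum_const, hEcard, nsmul_eq_mul] at htotZ
    have hsub : Disjoint (insert Char.principalIrr S) E := by
      rw [Finset.disjoint_insert_left]
      exact ⟨hprin, hS⟩
    have hle : ∑ φ ∈ insert Char.principalIrr S, X φ ^ 2 + ∑ φ ∈ E, X φ ^ 2 ≤ ∑ φ, X φ ^ 2 := by
      rw [← Finset.sum_union hsub]
      exact Finset.sum_le_sum_of_subset_of_nonneg (Finset.subset_univ _) (fun _ _ _ => sq_nonneg _)
    rw [Finset.sum_insert hS1', hX1] at hle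
    have hEnn : 0 ≤ ∑ φ ∈ E, ((t : ℤ) * X φ ^ 2 - 2 * ε * X φ) :=
      Finset.sum_nonneg fun φ _ => hge _
    rw [Finset.sum_sub_distrib, ← Finset.mul_sum, ← Finset.mul_sum] at hEnn
    rw [← Finset.mul_sum] at htotZ
    have hatZ : (a : ℤ) = n * t + 1 := by exact_mod_cast hat
    have hnpos : (0 : ℤ) < n := by
      rcases hnodd with ⟨c, hc⟩
      omega
    have htpos : (0 : ℤ) < t := by omega
    have h1 : (n : ℤ) * ((t : ℤ) * ∑ φ ∈ S, X φ ^ 2) ≤ (n : ℤ) * ((t : ℤ) * ((n : ℤ) - 1)) := by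
      nlinarith [mul_le_mul_of_nonneg_left hle (by positivity : (0 : ℤ) ≤ (n : ℤ) * t),
        mul_nonneg hnpos.le hEnn]
    exact le_of_mul_le_mul_left (le_of_mul_le_mul_left h1 hnpos) htpos
  · intro φ hφ
    refine le_trans ?_ (hsharp φ ((n : ℝ) * t * (X φ : ℝ) ^ 2 +
      ((n : ℝ) * a - (n : ℝ) ^ 2 - 2 * (ε : ℝ) * n * X φ)) ?_)
    · rw [hHR, mul_assoc]
      refine mul_le_mul_of_nonneg_left ?_ (Nat.cast_nonneg _)
      have hz : (0 : ℝ) ≤ (t : ℝ) * (X φ : ℝ) ^ 2 - 2 * (ε : ℝ) * (X φ : ℝ) := by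
        exact_mod_cast hge (X φ)
      rw [mul_sub, mul_div_cancel₀ _ haR]
      nlinarith [mul_nonneg (Nat.cast_nonneg' n : (0 : ℝ) ≤ n) hz]
    · rw [hsq φ, if_pos hφ]
      push_cast
      ring
  · intro φ hφ hX0
    refine le_trans ?_ (hsharp φ ((n : ℝ) * t * (X φ : ℝ) ^ 2) ?_)
    · rw [hHR, mul_assoc, mul_div_cancel₀ _ haR]
      refine mul_le_mul_of_nonneg_left (le_mul_of_one_le_right (by positivity) ?_) (Nat.cast_nonneg _)
      exact_mod_cast (Int.one_le_abs (pow_ne_zero 2 hX0)).trans_eq (abs_of_nonneg (sq_nonneg _))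
    · rw [hsq φ, if_neg hφ, add_zero]
      push_cast
      ring
  · intro φ hφ ψ hψ z hz
    obtain ⟨o, rfl⟩ := (hmemE φ).mp hφ
    obtain ⟨o', rfl⟩ := (hmemE ψ).mp hψ
    obtain ⟨l, rfl⟩ := Quotient.exists_rep o
    obtain ⟨l', rfl⟩ := Quotient.exists_rep o'
    have h := congrFun (hdiff l l') z
    have heq : Cfsg.indFun H (lam l.1) z = Cfsg.indFun H (lam l'.1) z := by
      simp only [Char.indFun_apply]
      congr 1
      refine Finset.sum_congr rfl fun y _ => ?_
      by_cases hy : y⁻¹ * z * y ∈ H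
      · rw [Char.extendByZero_apply_mem H _ hy, Char.extendByZero_apply_mem H _ hy,
          show (⟨y⁻¹ * z * y, hy⟩ : H) = 1 from Subtype.ext (hz y hy), lam_one, lam_one]
      · rw [Char.extendByZero_of_notMem H _ hy, Char.extendByZero_of_notMem H _ hy]
    rw [Pi.sub_apply, heq, sub_self, Pi.smul_apply, Pi.sub_apply, smul_eq_mul, eq_comm,
      mul_eq_zero, sub_eq_zero] at h
    exact h.resolve_left (by rcases hε with h | h <;> simp [h])

end CfsgLib.CN
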