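import Cfsg.Agent.Lib.CN.Nilpotent
import Cfsg.Prelude.Def_LieExceptional

/-!
# Maximal nilpotent subgroups of CN-groups
-/

set_option autoImplicit false

namespace CfsgLib.CN

open Subgroup

variable {G : Type*} [Group G] [Finite G]

/-- `H` is maximal among the nilpotent subgroups. -/
def IsMaxNil (H : Subgroup G) : Prop :=
  Group.IsNilpotent H ∧ ∀ L : Subgroup G, Group.IsNilpotent L → H ≤ L → L = H

theorem exists_isMaxNil_ge {L : Subgroup G} (hL : Group.IsNilpotent L) :
    ∃ H : Subgroup G, IsMaxNil H ∧ L ≤ H := by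
  obtain ⟨H, hle, hH⟩ := (Set.toFinite {H : Subgroup G | Group.IsNilpotent H}).exists_le_maximal hL
  exact ⟨H, ⟨hH.prop, fun M hM h => le_antisymm (hH.le_of_ge hM h) h⟩, hle⟩

variable {H : Subgroup G}

theorem IsMaxNil.map_conj (hH : IsMaxNil H) (g : G) :
    IsMaxNil (H.map (MulAut.conj g).toMonoidHom) := by
  refine ⟨?_, fun L hL hle => ?_⟩
  · haveI := hH.1
    exact Group.nilpotent_of_mulEquiv
      (Subgroup.equivMapOfInjective H _ (MulAut.conj g).injective)
  · have h := hH.2 (L.comap (MulAut.conj g).toMonoidHom) ?_ (Subgroup.map_le_iff_le_comap.mp hle)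
    · rw [← h, Subgroup.map_comap_eq_self_of_surjective (MulAut.conj g).surjective]
    · haveI := hL
      rw [Subgroup.comap_equiv_eq_map_symm']
      exact Group.nilpotent_of_mulEquiv
        (Subgroup.equivMapOfInjective L _ (MulAut.conj g).symm.injective)

theorem IsMaxNil.ne_bot (hH : IsMaxNil H) [Nontrivial G] : H ≠ ⊥ := by
  obtain ⟨x, hx⟩ := exists_ne (1 : G)
  intro h
  exact hx (zpowers_eq_bot.mp ((hH.2 _ (isNilpotent_zpowers x) (h ▸ bot_le)).trans h))

/-- Every prime dividing `|H|` is the order of a central element. -/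
theorem IsMaxNil.exists_central (hH : IsMaxNil H) {s : ℕ} (hs : s.Prime) (hd : s ∣ Nat.card H) :
    ∃ u ∈ H, u ≠ 1 ∧ orderOf u = s ∧ ∀ h ∈ H, h * u = u * h := by
  haveI := Fact.mk hs
  obtain ⟨u, ⟨huH, huc⟩, hu⟩ := OddOrder.exists_center_orderOf_eq hH.1 hd
  exact ⟨u, huH, ne_one_of_orderOf_eq hs hu, hu, fun h hh => huc h hh⟩

variable (hCN : Cfsg.IsCNGroup G)
include hCN

theorem IsMaxNil.centralizer_central (hH : IsMaxNil H) {u : G} (hu1 : u ≠ 1)
    (hc : ∀ h ∈ H, h * u = u * h) : centralizer ({u} : Set G) = H :=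
  hH.2 _ (hCN u hu1) fun h hh => mem_centralizer_singleton_iff.mpr (hc h hh)

/-- If two primes divide `|H|` then centralisers of its nonidentity elements lie in it. -/
theorem IsMaxNil.centralizer_le_of_two_primes (hH : IsMaxNil H)
    (h2 : ∀ r : ℕ, ∃ s : ℕ, s.Prime ∧ s ∣ Nat.card H ∧ s ≠ r)
    {x : G} (hx : x ∈ H) (hx1 : x ≠ 1) : centralizer ({x} : Set G) ≤ H := by
  intro y hy
  refine mem_of_pElem_pow fun r m hr hrm => ?_
  obtain ⟨s, hs, hsd, hsr⟩ := h2 r
  obtain ⟨u, huH, hu1, hu, huc⟩ := hH.exists_central hs hsd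
  haveI := Fact.mk hr
  haveI := Fact.mk hs
  rw [← hH.centralizer_central hCN hu1 huc, mem_centralizer_singleton_iff]
  exact commute_of_nilpotent hsr.symm (hCN x hx1) (pow_mem hy m)
    (mem_centralizer_singleton_iff.mpr (huc x hx).symm) hrm (pElem_of_orderOf_eq hu)

omit hCN in
theorem two_primes_of_not_isPrimePow {n : ℕ} (hn : n ≠ 1) (hn0 : n ≠ 0) (h : ¬ IsPrimePow n)
    (r : ℕ) : ∃ s : ℕ, s.Prime ∧ s ∣ n ∧ s ≠ r := by
  by_contra hcon
  push Not at hcon
  refine h ?_
  obtain ⟨s, hs, hsd⟩ := Nat.exists_prime_and_dvd hn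
  obtain rfl := hcon s hs hsd
  exact (isPrimePow_nat_iff n).mpr ⟨s, n.primeFactorsList.length, hs,
    List.length_pos_of_mem ((Nat.mem_primeFactorsList hn0).mpr ⟨hs, hsd⟩),
    (Nat.eq_prime_pow_of_unique_prime_dvd hn0 fun {d} hd hdd => hcon d hd hdd).symm⟩

/-- `C_G(x) ≤ H` on `H` forces `H` to meet its conjugates trivially. -/
theorem IsMaxNil.eq_of_mem_mem {K : Subgroup G} (hH : IsMaxNil H) (hK : IsMaxNil K)
    (hcK : ∀ x ∈ K, x ≠ 1 → centralizer ({x} : Set G) ≤ K)
    {x : G} (hx : x ∈ H) (hxK : x ∈ K) (hx1 : x ≠ 1) : H = K := by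
  have hne : Nat.card H ≠ 1 := by
    rw [Ne, Subgroup.card_eq_one]
    exact fun h => hx1 (mem_bot.mp (h ▸ hx))
  obtain ⟨s, hs, hsd⟩ := Nat.exists_prime_and_dvd hne
  obtain ⟨u, huH, hu1, hu, huc⟩ := hH.exists_central hs hsd
  have huK : u ∈ K := hcK x hxK hx1 (mem_centralizer_singleton_iff.mpr (huc x hx).symm)
  exact (hH.2 K hK.1 ((hH.centralizer_central hCN hu1 huc).ge.trans (hcK u huK hu1))).symm

/-- Maximal nilpotent subgroups are Hall subgroups. -/
theorem IsMaxNil.coprime (hH : IsMaxNil H) : (Nat.card H).Coprime H.index := by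
  by_cases h1 : Nat.card H = 1
  · rw [h1]; exact Nat.coprime_one_left _
  by_cases hpp : IsPrimePow (Nat.card H)
  · obtain ⟨p, k, hp, -, hk⟩ := (isPrimePow_nat_iff _).mp hpp
    haveI := Fact.mk hp
    obtain ⟨P, hP⟩ := (IsPGroup.of_card hk.symm).exists_le_sylow
    rw [← hH.2 P P.2.isNilpotent hP]
    exact P.card_coprime_index
  · refine Nat.coprime_of_dvd fun p hp hpd hpi => ?_
    haveI := Fact.mk hp
    obtain ⟨u, huH, hu1, hu, huc⟩ := hH.exists_central hp hpd
    obtain ⟨P, hP⟩ := (IsPGroup.of_card (n := 1) (G := zpowers u)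
      (by rw [Nat.card_zpowers, hu, pow_one])).exists_le_sylow
    haveI : Nontrivial (P : Subgroup G) :=
      (nontrivial_iff_ne_bot _).mpr fun h => hu1 (mem_bot.mp (h ▸ hP (mem_zpowers u)))
    haveI := P.2.center_nontrivial
    obtain ⟨z, hz⟩ := exists_ne (1 : center (P : Subgroup G))
    have hz1 : ((z : (P : Subgroup G)) : G) ≠ 1 := fun h => hz (Subtype.ext (Subtype.ext h))
    have hzc : ∀ y ∈ (P : Subgroup G), y * ((z : (P : Subgroup G)) : G) =
        ((z : (P : Subgroup G)) : G) * y :=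
      fun y hy => congrArg Subtype.val (mem_center_iff.mp z.2 ⟨y, hy⟩)
    have hzH : ((z : (P : Subgroup G)) : G) ∈ H := by
      rw [← hH.centralizer_central hCN hu1 huc, mem_centralizer_singleton_iff]
      exact (hzc u (hP (mem_zpowers u))).symm
    have hPH : (P : Subgroup G) ≤ H := fun y hy =>
      hH.centralizer_le_of_two_primes hCN
        (two_primes_of_not_isPrimePow h1 Nat.card_pos.ne' hpp) hzH hz1
        (mem_centralizer_singleton_iff.mpr (hzc y hy))
    exact P.not_dvd_index' (Subgroup.index_ne_zero_of_finite)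
      (hpi.trans (Subgroup.index_dvd_of_le hPH))

/-- In the prime power case centralisers are `p`-groups. -/
theorem IsMaxNil.isPGroup_centralizer {p : ℕ} [hp : Fact p.Prime] (hH : IsMaxNil H)
    (hHp : IsPGroup p H) {x : G} (hx : x ∈ H) (hx1 : x ≠ 1) :
    IsPGroup p (centralizer ({x} : Set G)) := by
  refine isPGroup_of_forall fun q hq y hy hyq => ?_
  by_contra hqp
  haveI := Fact.mk hq
  obtain ⟨M, hM, hle⟩ := exists_isMaxNil_ge (hCN x hx1)
  have hyM : y ∈ M := hle hy
  have hxM : x ∈ M := hle (mem_centralizer_singleton_iff.mpr rfl)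
  have hqd : q ∣ Nat.card M := hyq ▸ OddOrder.orderOf_dvd_card_of_mem hyM
  have hpd : p ∣ Nat.card M := by
    obtain ⟨s, m, hs, hsm⟩ := exists_pow_prime_order hx1
    have := (pElem_of_mem hHp hx).pow m
    rw [← (this.orderOf_dvd hs (dvd_of_eq hsm.symm) : s = p), ← hsm]
    exact OddOrder.orderOf_dvd_card_of_mem (pow_mem hxM m)
  -- `M` contains a Sylow `p`-subgroup of `G`, which is conjugate to `H`
  obtain ⟨P⟩ := (inferInstance : Nonempty (Sylow p M))
  obtain ⟨S, hS⟩ := (P.2.map M.subtype).exists_le_sylow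
  obtain ⟨Q, hQ⟩ := hHp.exists_le_sylow
  obtain rfl : (Q : Subgroup G) = H := hH.2 Q Q.2.isNilpotent hQ
  have hcard : Nat.card (S : Subgroup G) ∣ Nat.card M := by
    have h1 := Subgroup.card_mul_index M
    have h2 : (Nat.card (S : Subgroup G)).Coprime M.index := by
      obtain ⟨k, hk⟩ := S.2.exists_card_eq
      rw [hk]
      exact Nat.Coprime.pow_left k ((hM.coprime hCN).coprime_dvd_left hpd)
    exact h2.dvd_of_dvd_mul_right (h1.symm ▸ Subgroup.card_subgroup_dvd_card _)
  have hSM : (S : Subgroup G) ≤ M := by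
    have h1 : (P : Subgroup M).map M.subtype = S := by
      refine Subgroup.eq_of_le_of_card_ge hS ?_
      obtain ⟨k, hk⟩ := S.2.exists_card_eq
      rw [hk] at hcard ⊢
      rw [Subgroup.card_map_of_injective M.subtype_injective, Sylow.card_eq_multiplicity]
      exact Nat.pow_le_pow_right hp.out.pos
        ((hp.out.pow_dvd_iff_le_factorization Nat.card_pos.ne').mp hcard)
    exact h1 ▸ map_subtype_le _
  obtain ⟨g, hg⟩ := MulAction.exists_smul_eq G Q S
  have hSmax : IsMaxNil (S : Subgroup G) := by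
    rw [← hg]
    exact hH.map_conj g
  obtain rfl : M = S := hSmax.2 M hM.1 hSM
  exact hqp (((Nat.prime_dvd_prime_iff_eq hq hp.out).mp
    (hq.dvd_of_dvd_pow (S.2.exists_card_eq.choose_spec ▸ hqd))))

end CfsgLib.CN
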