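import Cfsg.Agent.Lib.CN.Lift
import Cfsg.Agent.Lib.Solvable.Core
import Cfsg.Prelude.Def_LieExceptional

/-!
# A minimal non-solvable CN-group of odd order has no normal p-subgroup
-/

set_option autoImplicit false

namespace CfsgLib.CN

open Subgroup

universe u

theorem subsingleton_of_solvable_perfect {K : Type*} [Group K] [Group.IsSolvable K]
    (h : commutator K = ⊤) : Subsingleton K := by
  by_contra hcon
  rw [not_subsingleton_iff_nontrivial] at hcon
  exact (Group.IsSolvable.commutator_lt_top_of_nontrivial K).ne h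

theorem isSolvable_of_nilpotent_top {K : Type*} [Group K] {C : Subgroup K}
    (hC : Group.IsNilpotent C) (h : C = ⊤) : Group.IsSolvable K := by
  subst h
  haveI := hC
  exact Group.isSolvable_of_isSolvable_injective (f := (Subgroup.topEquiv (G := K)).symm.toMonoidHom)
    (Subgroup.topEquiv (G := K)).symm.injective

variable {G : Type u} [Group G] [Finite G] (hCN : Cfsg.IsCNGroup G)
include hCN

/-- An element fixing a nonidentity element of an abelian `p`-group of coprime order centralises it. -/
theorem mem_centralizer_of_fix {p r : ℕ} [Fact p.Prime] [Fact r.Prime] (hpr : p ≠ r)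
    {V : Subgroup G} (hV : IsPGroup p V) [IsMulCommutative V] {y v : G} (hy : PElem r y)
    (hv : v ∈ V) (hv1 : v ≠ 1) (h : y * v = v * y) : y ∈ centralizer (V : Set G) := fun w hw =>
  commute_of_nilpotent hpr (hCN v hv1)
    (mem_centralizer_singleton_iff.mpr (setLike_mul_comm (S := Subgroup G) (s := V) hw hv))
    (mem_centralizer_singleton_iff.mpr h) (pElem_of_mem hV hw) hy

omit hCN in
theorem exists_pow_ne_one_fix {V : Type*} [Group V] {K : Type*} [Group K] (α : K →* MulAut V)
    {v : V} {k : K} (h : α k v = v) (m : ℕ) : α (k ^ m) v = v := by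
  induction m with
  | zero => simp
  | succ m ih => rw [pow_succ, map_mul, MulAut.mul_apply, h, ih]

/-- For each prime dividing the order of the largest normal nilpotent subgroup `C` there is a
normal abelian subgroup of prime power order with centraliser `C`. -/
theorem exists_normal_abelian {s : ℕ} [hs : Fact s.Prime]
    (hd : s ∣ Nat.card (Cfsg.fittingSubgroup G)) :
    ∃ V : Subgroup G, V.Normal ∧ IsPGroup s V ∧ IsMulCommutative V ∧ V ≠ ⊥ ∧
      centralizer (V : Set G) = Cfsg.fittingSubgroup G := by
  set C := Cfsg.fittingSubgroup G with hC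
  haveI hCn : C.Normal := Solvable.fittingSubgroup_normal G
  have hnil : Group.IsNilpotent C := Solvable.fittingSubgroup_isNilpotent G
  set X : Subgroup G := C ⊓ centralizer (C : Set G) with hX
  haveI : X.Normal := Subgroup.normal_inf_normal _ _
  set V := Cfsg.piCoreOf {s} X with hV
  have hVX : V ≤ X := OddOrder.piCoreOf_le _ _
  haveI hVn : V.Normal := normalizer_eq_top_iff.mp (top_le_iff.mp
    ((normalizer_eq_top_iff.mpr (inferInstance : X.Normal)).ge.trans
      (OddOrder.normalizer_le_normalizer_piCoreOf _ _)))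
  obtain ⟨z, hz, hzo⟩ := OddOrder.exists_center_orderOf_eq hnil hd
  have hzV : z ∈ V := OddOrder.mem_piCoreOf_of_nilpotent (isNilpotent_of_le hnil inf_le_left) hz
    fun t ht htd => (Nat.prime_dvd_prime_iff_eq ht hs.out).mp (hzo ▸ htd)
  have hz1 : z ≠ 1 := ne_one_of_orderOf_eq hs.out hzo
  refine ⟨V, hVn, OddOrder.piCoreOf_singleton_isPGroup s X,
    IsMulCommutative.of_setLike_mul_comm fun a ha b hb => ((hVX hb).2 a (hVX ha).1),
    fun h => hz1 (mem_bot.mp (h ▸ hzV)), le_antisymm ?_ ?_⟩
  · refine Solvable.le_fittingSubgroup inferInstance (isNilpotent_of_le (hCN z hz1) ?_)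
    exact Subgroup.centralizer_le (Set.singleton_subset_iff.mpr hzV)
  · intro c hc v hv
    exact ((hVX hv).2 c hc).symm

variable (hodd : Odd (Nat.card G)) (hperf : commutator G = ⊤)
  (ih : ∀ (K : Type u) [Group K] [Finite K], Nat.card K < Nat.card G → Odd (Nat.card K) →
    Cfsg.IsCNGroup K → Group.IsSolvable K)
include hodd hperf ih

/-- A minimal non-solvable CN-group of odd order has no nontrivial normal `p`-subgroup. -/
theorem eq_bot_of_normal_pGroup {p : ℕ} [hp : Fact p.Prime] {P : Subgroup G} (hPn : P.Normal)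
    (hP : IsPGroup p P) : P = ⊥ := by
  by_contra hP1
  set C := Cfsg.fittingSubgroup G with hC
  haveI hCn : C.Normal := Solvable.fittingSubgroup_normal G
  have hnil : Group.IsNilpotent C := Solvable.fittingSubgroup_isNilpotent G
  have hPC : P ≤ C := Solvable.le_fittingSubgroup hPn hP.isNilpotent
  have hpC : p ∣ Nat.card C := by
    obtain ⟨k, hk⟩ := hP.exists_card_eq
    refine (dvd_pow_self p fun h0 => hP1 ?_).trans (hk.symm ▸ Subgroup.card_dvd_of_le hPC)
    rw [← Subgroup.card_eq_one, hk, h0, pow_zero]
  have hsub : ¬ Group.IsSolvable (G ⧸ C) := by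
    intro hs
    have := subsingleton_of_solvable_perfect (K := G ⧸ C) (by
      rw [commutator_def, ← Subgroup.map_top_of_surjective (QuotientGroup.mk' C)
          (QuotientGroup.mk'_surjective C), ← Subgroup.map_commutator, ← commutator_def, hperf])
    have htop : C = ⊤ := QuotientGroup.subsingleton_iff.mp this
    have := isSolvable_of_nilpotent_top hnil htop
    have := subsingleton_of_solvable_perfect (K := G) hperf
    exact hP1 (Subsingleton.elim _ _)
  have hodd' : Odd (Nat.card (G ⧸ C)) := hodd.of_dvd_nat C.card_quotient_dvd_card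
  have hfpf : ∀ {s : ℕ} [Fact s.Prime] (V : Subgroup G) [V.Normal] [IsMulCommutative V],
      IsPGroup s V → centralizer (V : Set G) = C → ∀ (r : ℕ) [Fact r.Prime], s ≠ r →
      ∀ y : G, PElem r y → ∀ v ∈ V, v ≠ 1 → y * v = v * y → y ∈ C := by
    intro s _ V _ _ hVs hcV r _ hsr y hy v hv hv1 h
    rw [← hcV]
    exact mem_centralizer_of_fix hCN hsr hVs hy hv hv1 h
  by_cases hone : ∀ q : ℕ, q.Prime → q ∣ Nat.card C → q = p
  · -- `C` is a `p`-group and `G / C` is a CN-group
    obtain ⟨V, hVn, hVp, hVc, hV1, hcV⟩ := exists_normal_abelian hCN hpC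
    haveI := hVn
    haveI := hVc
    have hCp : IsPGroup p C := isPGroup_of_forall fun s hs y hy hys =>
      hone s hs (hys ▸ OddOrder.orderOf_dvd_card_of_mem hy)
    refine hsub (ih _ ?_ hodd' ?_)
    · rw [← Subgroup.index_eq_card, ← C.index_mul_card]
      refine lt_mul_of_one_lt_right (Nat.pos_of_ne_zero Subgroup.index_ne_zero_of_finite) ?_
      exact hp.out.one_lt.trans_le (Nat.le_of_dvd Nat.card_pos hpC)
    intro g hg
    obtain ⟨r, m, hr, hgm⟩ := exists_pow_prime_order hg
    haveI := Fact.mk hr
    have hle : centralizer ({g} : Set (G ⧸ C)) ≤ centralizer ({g ^ m} : Set (G ⧸ C)) := fun a ha =>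
      mem_centralizer_singleton_iff.mpr
        (Commute.pow_right (show Commute a g from mem_centralizer_singleton_iff.mp ha) m)
    refine isNilpotent_of_le ?_ hle
    by_cases hrp : r = p
    · subst hrp
      refine IsPGroup.isNilpotent (p := r) (isPGroup_of_forall fun q hq z hz hzq => ?_)
      by_contra hqr
      haveI := Fact.mk hq
      obtain ⟨z₀, rfl⟩ := QuotientGroup.mk'_surjective C z
      obtain ⟨k, hk, hk1⟩ := exists_pow_pElem (QuotientGroup.mk' C)
        (ne_one_of_orderOf_eq hq hzq) (pElem_of_orderOf_eq hzq)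
      obtain ⟨x, hx⟩ := QuotientGroup.mk'_surjective C (g ^ m)
      have hcop : (orderOf (z₀ ^ k)).Coprime (Nat.card C) := Nat.coprime_of_dvd fun t ht h1 h2 => by
        rw [hk.orderOf_dvd ht h1] at h2
        exact hqr (hone q hq h2)
      obtain ⟨c, hc, hcx⟩ := exists_commute_lift C (x := x) hcop (by
        rw [hx, map_pow]
        exact ((show Commute (QuotientGroup.mk' C z₀) (g ^ m) from
          mem_centralizer_singleton_iff.mp hz).pow_left k).symm)
      have hcx' : QuotientGroup.mk' C (c * x) = g ^ m := by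
        rw [map_mul, hx, (QuotientGroup.eq_one_iff c).mpr hc |> (fun h => show QuotientGroup.mk' C c = 1 from h),
          one_mul]
      have hcxp : PElem r (c * x) := by
        obtain ⟨l, hl⟩ := hCp ⟨(c * x) ^ r, by
          rw [← QuotientGroup.eq_one_iff]
          show QuotientGroup.mk' C ((c * x) ^ r) = 1
          rw [map_pow, hcx', ← hgm, pow_orderOf_eq_one]⟩
        exact ⟨l + 1, by rw [pow_succ', pow_mul]; exact congrArg Subtype.val hl⟩
      obtain ⟨v, hv, hv1, hfix⟩ := exists_fixed hVp hV1 hcxp
        (le_normalizer_of_normal (mem_top (c * x)))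
      have hcx1 : c * x ≠ 1 := fun h =>
        ne_one_of_orderOf_eq hr hgm (by rw [← hcx', h, map_one])
      have hcom : z₀ ^ k * v = v * z₀ ^ k :=
        commute_of_nilpotent hqr (hCN _ hcx1) (mem_centralizer_singleton_iff.mpr hcx.symm)
          (mem_centralizer_singleton_iff.mpr hfix.symm) hk (pElem_of_mem hVp hv)
      refine hk1 ((QuotientGroup.eq_one_iff _).mpr ?_)
      exact hfpf V hVp hcV q (Ne.symm hqr) _ hk v hv hv1 hcom
    · obtain ⟨y₀, hy₀⟩ := QuotientGroup.mk'_surjective C (g ^ m)
      obtain ⟨k, hk, hk1⟩ := exists_pow_pElem (QuotientGroup.mk' C) (y := y₀) (r := r)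
        (hy₀ ▸ ne_one_of_orderOf_eq hr hgm) (hy₀ ▸ pElem_of_orderOf_eq hgm)
      have hy1 : y₀ ^ k ≠ 1 := fun h => hk1 (by rw [h, map_one])
      haveI := hCN _ hy1
      have hnilimg : Group.IsNilpotent ((centralizer ({y₀ ^ k} : Set G)).map (QuotientGroup.mk' C)) :=
        Group.nilpotent_of_surjective _ ((QuotientGroup.mk' C).subgroupMap_surjective _)
      refine isNilpotent_of_le hnilimg fun a ha => ?_
      obtain ⟨x, rfl⟩ := QuotientGroup.mk'_surjective C a
      have hcop : (orderOf (y₀ ^ k)).Coprime (Nat.card C) := Nat.coprime_of_dvd fun t ht h1 h2 => by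
        rw [hk.orderOf_dvd ht h1] at h2
        exact hrp (hone r hr h2)
      obtain ⟨c, hc, hcx⟩ := exists_commute_lift C (x := x) hcop (by
        rw [map_pow, hy₀]
        exact (show Commute (QuotientGroup.mk' C x) (g ^ m) from
          mem_centralizer_singleton_iff.mp ha).pow_right k)
      refine ⟨c * x, mem_centralizer_singleton_iff.mpr hcx, ?_⟩
      rw [map_mul, show QuotientGroup.mk' C c = 1 from (QuotientGroup.eq_one_iff c).mpr hc, one_mul]
  · -- two primes divide `|C|`: every Sylow subgroup of `G / C` is cyclic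
    push Not at hone
    obtain ⟨q, hq, hqC, hqp⟩ := hone
    haveI := Fact.mk hq
    refine hsub ?_
    haveI : IsZGroup (G ⧸ C) := by
      refine ⟨fun r hr R => ?_⟩
      haveI := Fact.mk hr
      by_cases hR : Subsingleton (R : Subgroup (G ⧸ C))
      · infer_instance
      obtain ⟨s, hs, hsr, hsC⟩ : ∃ s : ℕ, s.Prime ∧ s ≠ r ∧ s ∣ Nat.card C := by
        by_cases h : p = r
        · exact ⟨q, hq, fun h' => hqp (h'.trans h.symm), hqC⟩
        · exact ⟨p, hp.out, h, hpC⟩
      haveI := Fact.mk hs
      obtain ⟨V, hVn, hVp, hVc, hV1, hcV⟩ := exists_normal_abelian hCN hsC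
      haveI := hVn
      haveI := hVc
      letI : CommGroup V :=
        { (inferInstance : Group V) with
          mul_comm := fun a b => Subtype.ext (setLike_mul_comm a.2 b.2) }
      haveI : Nontrivial V := (nontrivial_iff_ne_bot V).mpr hV1
      let α₀ : (G ⧸ C) →* MulAut V := QuotientGroup.lift C MulAut.conjNormal (fun c hc => by
        refine MonoidHom.mem_ker.mpr (MulEquiv.ext fun v => Subtype.ext ?_)
        rw [MulAut.conjNormal_apply]
        rw [← (hcV.ge hc : c ∈ centralizer (V : Set G)) v v.2]
        simp)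
      have hr2 : r ≠ 2 := by
        rintro rfl
        obtain ⟨k, hk⟩ := R.2.exists_card_eq
        have h2 : 2 ∣ Nat.card (G ⧸ C) := by
          refine (dvd_pow_self 2 fun h0 => hR ?_).trans
            (hk.symm ▸ Subgroup.card_subgroup_dvd_card (R : Subgroup (G ⧸ C)))
          rw [h0, pow_zero, Nat.card_eq_one_iff_unique] at hk
          exact hk.1
        exact (Nat.not_even_iff_odd.mpr hodd') (even_iff_two_dvd.mpr h2)
      refine isCyclic_of_fpf_action (V := V) hr2 R.2 (fun hd => ?_)
        (α₀.comp (R : Subgroup (G ⧸ C)).subtype) fun k v hv hfix => ?_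
      · obtain ⟨n, hn⟩ := hVp.exists_card_eq
        rw [hn] at hd
        exact hsr.symm ((Nat.prime_dvd_prime_iff_eq hr hs).mp (hr.dvd_of_dvd_pow hd))
      · by_contra hk1
        obtain ⟨g, hg⟩ := QuotientGroup.mk'_surjective C (k : G ⧸ C)
        obtain ⟨m, hm, hm1⟩ := exists_pow_pElem (QuotientGroup.mk' C) (y := g) (r := r)
          (by rw [hg]; exact fun h => hk1 (Subtype.ext h))
          (by rw [hg]; exact pElem_of_mem R.2 k.2)
        have h1 : α₀ ((QuotientGroup.mk' C g) ^ m) v = v :=
          exists_pow_ne_one_fix α₀ (by rw [hg]; exact hfix) m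
        rw [← map_pow] at h1
        have h2 : g ^ m * v * (g ^ m)⁻¹ = v := congrArg Subtype.val h1
        exact hm1 ((QuotientGroup.eq_one_iff _).mpr (hfpf V hVp hcV r hsr _ hm v v.2
          (fun h => hv (Subtype.ext h)) (mul_inv_eq_iff_eq_mul.mp h2)))
    infer_instance

end CfsgLib.CN
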