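import Cfsg.Agent.Lib.CN.Local
import Cfsg.Agent.Lib.Transfer.Focal

/-!
# Sylow subgroups are TI when centralisers of p-elements are p-groups
-/

set_option autoImplicit false

namespace CfsgLib.CN

open Subgroup
open scoped Pointwise

variable {G : Type*} [Group G]

/-- The join of the abelian subgroups of largest order. -/
abbrev Jab (D : Subgroup G) : Subgroup G := PLoc.joinMaxAb 0 D

theorem isMaxAb_map {K : Type*} [Group K] {f : G →* K} (hf : Function.Injective f)
    {D A : Subgroup G} (hA : PLoc.IsMaxAb 0 D A) : PLoc.IsMaxAb 0 (D.map f) (A.map f) := by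
  haveI := hA.comm
  refine ⟨map_mono hA.le, map_isMulCommutative A (f := f), fun a _ => pow_zero a, fun B hB hBc _ => ?_⟩
  have hBeq : (B.comap f).map f = B :=
    Subgroup.map_comap_eq_self ((hB.trans (map_le_range _ _)))
  have hcomm : IsMulCommutative (B.comap f) :=
    IsMulCommutative.of_setLike_mul_comm fun a ha b hb => hf (by
      rw [map_mul, map_mul]
      exact setLike_mul_comm (S := Subgroup K) (s := B) ha hb)
  rw [Subgroup.card_map_of_injective hf, ← hBeq, Subgroup.card_map_of_injective hf]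
  refine hA.max _ (fun x hx => ?_) hcomm fun a _ => pow_zero a
  obtain ⟨d, hd, hde⟩ := hB hx
  exact hf hde ▸ hd

theorem jab_map {K : Type*} [Group K] [Finite G] {f : G →* K} (hf : Function.Injective f)
    (D : Subgroup G) : Jab (D.map f) = (Jab D).map f := by
  refine le_antisymm (sSup_le fun B hB => ?_) ?_
  · have hBeq : (B.comap f).map f = B :=
      Subgroup.map_comap_eq_self ((hB.le.trans (map_le_range _ _)))
    rw [← hBeq]
    refine map_mono (PLoc.le_joinMaxAb ⟨fun x hx => ?_, ?_, fun a _ => pow_zero a, fun C hC hCc _ => ?_⟩)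
    · obtain ⟨d, hd, hde⟩ := hB.le hx
      exact hf hde ▸ hd
    · haveI := hB.comm
      exact IsMulCommutative.of_setLike_mul_comm fun a ha b hb => hf (by
        rw [map_mul, map_mul]
        exact setLike_mul_comm (S := Subgroup K) (s := B) ha hb)
    · haveI := hCc
      have := hB.max (C.map f) (map_mono hC) (map_isMulCommutative C (f := f)) fun a _ => pow_zero a
      rwa [← hBeq, Subgroup.card_map_of_injective hf, Subgroup.card_map_of_injective hf] at this
  · rw [Jab, PLoc.joinMaxAb, (Subgroup.gc_map_comap f).l_sSup]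
    exact iSup₂_le fun A hA => le_sSup (isMaxAb_map hf hA)

theorem mem_normalizer_of_map_conj_eq {g : G} {K : Subgroup G}
    (h : K.map (MulAut.conj g).toMonoidHom = K) : g ∈ normalizer (K : Set G) := by
  rw [mem_normalizer_iff]
  intro x
  conv_rhs => rw [← h]
  simp only [mem_map, MulEquiv.coe_toMonoidHom, MulAut.conj_apply]
  constructor
  · exact fun hx => ⟨x, hx, rfl⟩
  · rintro ⟨y, hy, hyx⟩
    rwa [← mul_left_cancel (mul_right_cancel hyx)]

theorem map_conj_eq_of_mem_normalizer {g : G} {K : Subgroup G}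
    (h : g ∈ normalizer (K : Set G)) : K.map (MulAut.conj g).toMonoidHom = K := by
  ext x
  simp only [mem_map, MulEquiv.coe_toMonoidHom, MulAut.conj_apply]
  constructor
  · rintro ⟨y, hy, rfl⟩
    exact (mem_normalizer_iff.mp h y).mp hy
  · intro hx
    exact ⟨g⁻¹ * x * g, (mem_normalizer_iff''.mp h x).mp hx, by group⟩

variable [Finite G]

theorem normalizer_le_normalizer_jab (D : Subgroup G) :
    normalizer (D : Set G) ≤ normalizer (Jab D : Set G) := fun g hg => by
  refine mem_normalizer_of_map_conj_eq ?_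
  rw [← jab_map (MulAut.conj g).injective, map_conj_eq_of_mem_normalizer hg]

theorem jab_ne_bot {D : Subgroup G} (hD : D ≠ ⊥) : Jab D ≠ ⊥ := by
  intro h
  obtain ⟨A, hA⟩ := PLoc.exists_isMaxAb 0 D
  rw [Subgroup.ne_bot_iff_exists_ne_one] at hD
  obtain ⟨x, hx⟩ := hD
  have hle := hA.max (zpowers (x : G)) (zpowers_le.mpr x.2) inferInstance (fun a _ => pow_zero a)
  rw [Subgroup.card_eq_one.mpr (eq_bot_iff.mpr ((PLoc.le_joinMaxAb hA).trans h.le)),
    Nat.card_zpowers] at hle
  refine hx (Subtype.ext (orderOf_eq_one_iff.mp ?_))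
  have := orderOf_pos (x : G)
  omega

/-- A subgroup properly inside a `p`-group is normalised by an element outside it. -/
theorem exists_normalizing {p : ℕ} [Fact p.Prime] {D P : Subgroup G} (hP : IsPGroup p P)
    (hDP : D ≤ P) (hne : D ≠ P) : ∃ x ∈ P, x ∉ D ∧ x ∈ normalizer (D : Set G) := by
  haveI := hP.isNilpotent
  have hlt : D.subgroupOf P < ⊤ := lt_top_iff_ne_top.mpr fun h =>
    hne (le_antisymm hDP (subgroupOf_eq_top.mp h))
  obtain ⟨x, hx, hxD⟩ := SetLike.exists_of_lt (Group.normalizerCondition_of_isNilpotent _ hlt)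
  refine ⟨x, x.2, fun h => hxD h, mem_normalizer_iff.mpr fun a => ?_⟩
  constructor
  · exact fun ha => (mem_normalizer_iff.mp hx ⟨a, hDP ha⟩).mp ha
  · intro ha
    have haP : a ∈ P := by
      simpa [mul_assoc] using mul_mem (mul_mem (inv_mem x.2) (hDP ha)) x.2
    exact (mem_normalizer_iff.mp hx ⟨a, haP⟩).mpr ha

/-- The standing hypotheses of this file. -/
structure Setting (G : Type*) [Group G] (p : ℕ) : Prop where
  two : p ≠ 2
  odd : Odd (Nat.card G)
  perfect : commutator G = ⊤
  solvable : ∀ K : Subgroup G, K ≠ ⊤ → Group.IsSolvable K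
  noNormal : ∀ P : Subgroup G, P.Normal → IsPGroup p P → P = ⊥
  cent : ∀ v y : G, v ≠ 1 → PElem p v → y * v = v * y → PElem p y

variable {p : ℕ} [hp : Fact p.Prime]

theorem Setting.normalizer_ne_top (h : Setting G p) {B : Subgroup G} (hB : IsPGroup p B)
    (hB1 : B ≠ ⊥) : normalizer (B : Set G) ≠ ⊤ := fun he =>
  hB1 (h.noNormal B (normalizer_eq_top_iff.mp he) hB)

theorem Setting.subgroup_hc (h : Setting G p) (L : Subgroup G) :
    ∀ v y : L, v ≠ 1 → PElem p v → y * v = v * y → PElem p y := by
  rintro v y hv ⟨k, hk⟩ hvy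
  obtain ⟨m, hm⟩ := h.cent v y (fun hh => hv (Subtype.ext hh)) ⟨k, congrArg Subtype.val hk⟩
    (congrArg Subtype.val hvy)
  exact ⟨m, Subtype.ext hm⟩

/-- In the normaliser of a `p`-subgroup all Sylow subgroups have the same normal `J`. -/
theorem Setting.local_jab (h : Setting G p) {B : Subgroup G} (hB : IsPGroup p B) (hB1 : B ≠ ⊥) :
    ∃ J₀ : Subgroup G, normalizer (B : Set G) ≤ normalizer (J₀ : Set G) ∧
      ∀ S : Sylow p (normalizer (B : Set G)),
        B ≤ (S : Subgroup (normalizer (B : Set G))).map (normalizer (B : Set G)).subtype ∧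
        Jab ((S : Subgroup (normalizer (B : Set G))).map (normalizer (B : Set G)).subtype) = J₀ := by
  set L := normalizer (B : Set G) with hL
  haveI := h.solvable L (h.normalizer_ne_top hB hB1)
  have hBn : (B.subgroupOf L).Normal := (normal_subgroupOf_iff_le_normalizer le_normalizer).mpr le_rfl
  have hBle : B.subgroupOf L ≤ Cfsg.pCore p L := Solvable.le_pCore hBn
    (hB.comap_of_injective _ L.subtype_injective)
  have hR : Cfsg.pCore p L ≠ ⊥ := fun hh => hB1 (by
    rw [← (subgroupOf_map_subtype B L).trans (inf_eq_left.mpr le_normalizer),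
      eq_bot_iff.mpr (hBle.trans hh.le), Subgroup.map_bot])
  set R₀ := (Cfsg.pCore p L).map L.subtype with hR₀
  refine ⟨Jab R₀, fun g hg => ?_, fun S => ⟨?_, ?_⟩⟩
  · refine normalizer_le_normalizer_jab R₀ ?_
    rw [mem_normalizer_iff]
    intro x
    constructor
    · rintro ⟨r, hr, rfl⟩
      exact ⟨⟨g, hg⟩ * r * ⟨g, hg⟩⁻¹, (Solvable.pCore_normal p L).conj_mem r hr _, rfl⟩
    · rintro ⟨r, hr, hrx⟩
      refine ⟨⟨g, hg⟩⁻¹ * r * ⟨g, hg⟩, (Solvable.pCore_normal p L).conj_mem' r hr _, ?_⟩
      have : (r : G) = g * x * g⁻¹ := hrx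
      simp [this, mul_assoc]
  · rw [← (subgroupOf_map_subtype B L).trans (inf_eq_left.mpr le_normalizer)]
    exact map_mono (hBle.trans (Solvable.pCore_le_sylow S))
  · rw [jab_map L.subtype_injective, hR₀, jab_map L.subtype_injective]
    congr 1
    have hle : ∀ A, PLoc.IsMaxAb 0 (S : Subgroup L) A → A ≤ Cfsg.pCore p L := fun A hA =>
      le_pCore_of_isMaxAb h.two (h.odd.of_dvd_nat (Subgroup.card_subgroup_dvd_card L))
        (h.subgroup_hc L) hR S.2 (Solvable.pCore_le_sylow S) hA
    obtain ⟨A₁, hA₁⟩ := PLoc.exists_isMaxAb 0 (S : Subgroup L)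
    refine le_antisymm (sSup_le fun A hA => ?_) (sSup_le fun A hA => ?_)
    · exact PLoc.le_joinMaxAb ⟨hle A hA, hA.comm, hA.exp, fun C hC hc he =>
        hA.max C (hC.trans (Solvable.pCore_le_sylow S)) hc he⟩
    · refine PLoc.le_joinMaxAb ⟨hA.le.trans (Solvable.pCore_le_sylow S), hA.comm, hA.exp,
        fun C hC hc he => ?_⟩
      exact (hA₁.max C hC hc he).trans (hA.max A₁ (hle A₁ hA₁) hA₁.comm hA₁.exp)

/-- Sylow subgroups of a local subgroup extend to Sylow subgroups with equal `J`. -/
theorem Setting.exists_extend (h : Setting G p) :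
    ∀ (n : ℕ) (B : Subgroup G), IsPGroup p B → B ≠ ⊥ → ∀ (S S' : Sylow p (normalizer (B : Set G))),
      Nat.card G < Nat.card (S : Subgroup (normalizer (B : Set G))) + n →
      ∃ P Q : Sylow p G,
        (S : Subgroup (normalizer (B : Set G))).map (normalizer (B : Set G)).subtype ≤ P ∧
        (S' : Subgroup (normalizer (B : Set G))).map (normalizer (B : Set G)).subtype ≤ Q ∧
        Jab (P : Subgroup G) = Jab (Q : Subgroup G) := by
  intro n
  induction n with
  | zero =>
    intro B _ _ S _ hn
    have h1 := Subgroup.card_le_card_group (S : Subgroup (normalizer (B : Set G)))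
    have h2 := Subgroup.card_le_card_group (normalizer (B : Set G))
    omega
  | succ n ih =>
    intro B hB hB1
    obtain ⟨J₀, hJn, hJ⟩ := h.local_jab hB hB1
    set L := normalizer (B : Set G) with hL
    intro S S' hn
    set S₀ := (S : Subgroup L).map L.subtype with hS₀
    set S₀' := (S' : Subgroup L).map L.subtype with hS₀'
    have hS₀p : IsPGroup p S₀ := S.2.map _
    have hS₀'p : IsPGroup p S₀' := S'.2.map _
    obtain ⟨P₁, hP₁⟩ := hS₀p.exists_le_sylow
    by_cases heq : S₀ = (P₁ : Subgroup G)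
    · obtain ⟨Q, hQ⟩ := hS₀'p.exists_le_sylow
      have hQ' : S₀' = (Q : Subgroup G) := by
        refine Subgroup.eq_of_le_of_card_ge hQ (le_of_eq ?_)
        rw [Q.card_eq_multiplicity, ← P₁.card_eq_multiplicity, ← heq, hS₀, hS₀',
          Subgroup.card_map_of_injective L.subtype_injective,
          Subgroup.card_map_of_injective L.subtype_injective, S.card_eq_multiplicity,
          S'.card_eq_multiplicity]
      refine ⟨P₁, Q, hP₁, hQ, ?_⟩
      rw [← heq, ← hQ', (hJ S).2, (hJ S').2]
    · have hS₀1 : S₀ ≠ ⊥ := fun hh => hB1 (eq_bot_iff.mpr ((hJ S).1.trans hh.le))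
      have hJ₀1 : J₀ ≠ ⊥ := (hJ S).2 ▸ jab_ne_bot hS₀1
      have hJ₀p : IsPGroup p J₀ := (hJ S).2 ▸ hS₀p.to_le (PLoc.joinMaxAb_le 0 S₀)
      set L' := normalizer (J₀ : Set G) with hL'
      obtain ⟨x, hxP, hxS, hxn⟩ := exists_normalizing P₁.2 hP₁ heq
      have hxL' : x ∈ L' := by
        rw [hL', ← (hJ S).2]
        exact normalizer_le_normalizer_jab S₀ hxn
      have hS₀L' : S₀ ≤ L' := (map_subtype_le _).trans hJn
      have hS₀'L' : S₀' ≤ L' := (map_subtype_le _).trans hJn
      obtain ⟨T, hT⟩ := (P₁.2.comap_of_injective L'.subtype L'.subtype_injective).exists_le_sylow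
      obtain ⟨T', hT'⟩ :=
        (hS₀'p.comap_of_injective L'.subtype L'.subtype_injective).exists_le_sylow
      have hsub : S₀ ≤ (T : Subgroup L').map L'.subtype := fun s hs =>
        ⟨⟨s, hS₀L' hs⟩, hT (hP₁ hs), rfl⟩
      have hsub' : S₀' ≤ (T' : Subgroup L').map L'.subtype := fun s hs =>
        ⟨⟨s, hS₀'L' hs⟩, hT' hs, rfl⟩
      have hlt : Nat.card (S : Subgroup L) < Nat.card (T : Subgroup L') := by
        rw [← Subgroup.card_map_of_injective L.subtype_injective,
          ← Subgroup.card_map_of_injective L'.subtype_injective (K := (T : Subgroup L')), ← hS₀]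
        refine lt_of_le_of_ne (Subgroup.card_le_of_le hsub) fun hh => hxS ?_
        rw [Subgroup.eq_of_le_of_card_ge hsub hh.ge]
        exact ⟨⟨x, hxL'⟩, hT hxP, rfl⟩
      obtain ⟨P, Q, hP, hQ, hPQ⟩ := ih J₀ hJ₀p hJ₀1 T T'
        (show Nat.card G < Nat.card (T : Subgroup L') + n by omega)
      exact ⟨P, Q, hsub.trans hP, hsub'.trans hQ, hPQ⟩

/-- Sylow subgroups meeting nontrivially have the same `J`. -/
theorem Setting.jab_eq (h : Setting G p) : ∀ (n : ℕ) (P Q : Sylow p G),
    Nat.card G < Nat.card ((P : Subgroup G) ⊓ Q : Subgroup G) + n →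
    (P : Subgroup G) ⊓ Q ≠ ⊥ → Jab (P : Subgroup G) = Jab (Q : Subgroup G) := by
  intro n
  induction n with
  | zero =>
    intro P Q hn
    have := Subgroup.card_le_card_group ((P : Subgroup G) ⊓ Q)
    omega
  | succ n ih =>
    intro P Q hn hne
    by_cases heq : (P : Subgroup G) = Q
    · rw [heq]
    set D := (P : Subgroup G) ⊓ Q with hD
    set L := normalizer (D : Set G) with hL
    have hDp : IsPGroup p D := P.2.to_le inf_le_left
    have hDP : D ≠ P := fun hh =>
      heq (P.is_maximal' Q.2 (inf_eq_left.mp (hD ▸ hh))).symm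
    have hDQ : D ≠ Q := fun hh =>
      heq (Q.is_maximal' P.2 (inf_eq_right.mp (hD ▸ hh)))
    have hstep : ∀ R : Sylow p G, D ≤ R → D ≠ R → ∃ S : Sylow p L,
        ∀ R' : Sylow p G, (S : Subgroup L).map L.subtype ≤ R' →
          Jab (R : Subgroup G) = Jab (R' : Subgroup G) := by
      intro R hDR hDR'
      obtain ⟨S, hS⟩ := (R.2.comap_of_injective L.subtype L.subtype_injective).exists_le_sylow
      refine ⟨S, fun R' hR' => ih R R' ?_ ?_⟩
      · obtain ⟨x, hxR, hxD, hxn⟩ := exists_normalizing R.2 hDR hDR'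
        have hle : D ≤ (R : Subgroup G) ⊓ R' := fun d hd => Subgroup.mem_inf.mpr
          ⟨hDR hd, hR' ⟨⟨d, le_normalizer hd⟩, hS (hDR hd), rfl⟩⟩
        have hlt : Nat.card D < Nat.card ((R : Subgroup G) ⊓ R' : Subgroup G) := by
          refine lt_of_le_of_ne (Subgroup.card_le_of_le hle) fun hh => hxD ?_
          rw [Subgroup.eq_of_le_of_card_ge hle hh.ge]
          exact Subgroup.mem_inf.mpr ⟨hxR, hR' ⟨⟨x, hxn⟩, hS hxR, rfl⟩⟩
        omega
      · exact fun hh => hne (eq_bot_iff.mpr fun d hd => hh.le (Subgroup.mem_inf.mpr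
          ⟨hDR hd, hR' ⟨⟨d, le_normalizer hd⟩, hS (hDR hd), rfl⟩⟩))
    obtain ⟨S, hS⟩ := hstep P inf_le_left hDP
    obtain ⟨S', hS'⟩ := hstep Q inf_le_right hDQ
    obtain ⟨P', Q', hP', hQ', hPQ⟩ := h.exists_extend (Nat.card G + 1) D hDp hne S S'
      (by have : 0 < Nat.card (S : Subgroup L) := Nat.card_pos; omega)
    exact ((hS P' hP').trans hPQ).trans (hS' Q' hQ').symm

/-- Sylow subgroups meeting nontrivially are equal. -/
theorem Setting.sylow_eq (h : Setting G p) (P Q : Sylow p G)
    (hne : (P : Subgroup G) ⊓ Q ≠ ⊥) : P = Q := by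
  have hJ : ∀ R : Sylow p G, (P : Subgroup G) ⊓ R ≠ ⊥ → Jab (R : Subgroup G) = Jab (P : Subgroup G) :=
    fun R hR => (h.jab_eq (Nat.card G + 1) P R (by
      have : 0 < Nat.card ((P : Subgroup G) ⊓ R : Subgroup G) := Nat.card_pos; omega) hR).symm
  set M := normalizer (Jab (P : Subgroup G) : Set G) with hM
  have hmemM : ∀ (g : G) (R : Sylow p G), g • P = R → (P : Subgroup G) ⊓ R ≠ ⊥ → g ∈ M := by
    intro g R hg hR
    refine mem_normalizer_of_map_conj_eq ?_
    rw [← jab_map (MulAut.conj g).injective]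
    rw [show (P : Subgroup G).map (MulAut.conj g).toMonoidHom = (R : Subgroup G) by rw [← hg]; rfl]
    exact hJ R hR
  obtain ⟨g, hg⟩ := MulAction.exists_smul_eq G P Q
  have hgM := hmemM g Q hg hne
  have hP1 : (P : Subgroup G) ≠ ⊥ := fun hh => hne (by rw [hh, bot_inf_eq])
  have hPM : (P : Subgroup G) ≤ M :=
    le_normalizer.trans (normalizer_le_normalizer_jab (P : Subgroup G))
  suffices hn : ((P : Subgroup G).subgroupOf M).Normal by
    rw [← hg]
    refine (Sylow.ext ?_).symm
    show (P : Subgroup G).map (MulAut.conj g).toMonoidHom = P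
    exact map_conj_eq_of_mem_normalizer ((normal_subgroupOf_iff_le_normalizer hPM).mp hn hgM)
  -- `P ≤ [P, M]`
  have hfoc : (P : Subgroup G) ≤ ⁅(P : Subgroup G), M⁆ := by
    refine le_trans (le_of_eq ?_) (Transfer.focalSubgroup_le_of_controls fun x hx u hu => ?_)
    · rw [← Transfer.commutator_inf_eq_focal_of_coprime (Transfer.coprime_card_quotient_focal
        (Transfer.coprime_card_index_sylow P)), h.perfect, top_inf_eq]
    · by_cases hx1 : x = 1
      · exact ⟨1, one_mem _, by simp [hx1]⟩
      refine ⟨u, hmemM u (u • P) rfl fun hh => ?_, rfl⟩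
      have : u * x * u⁻¹ ∈ (⊥ : Subgroup G) :=
        hh ▸ Subgroup.mem_inf.mpr ⟨hu, ⟨x, hx, rfl⟩⟩
      exact hx1 (conj_eq_one_iff.mp (mem_bot.mp this))
  have hJp : IsPGroup p (Jab (P : Subgroup G)) := P.2.to_le (PLoc.joinMaxAb_le 0 _)
  have hJ1 : Jab (P : Subgroup G) ≠ ⊥ := jab_ne_bot hP1
  haveI := h.solvable M (h.normalizer_ne_top hJp hJ1)
  have hoddM : Odd (Nat.card M) := h.odd.of_dvd_nat (Subgroup.card_subgroup_dvd_card M)
  set PM := (P : Subgroup G).subgroupOf M with hPMdef
  have hPMp : IsPGroup p PM := P.2.comap_of_injective _ M.subtype_injective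
  set R := Cfsg.pCore p M with hRdef
  haveI hRn : R.Normal := Solvable.pCore_normal p M
  have hRp : IsPGroup p R := Solvable.pCore_isPGroup p M
  have hR1 : R ≠ ⊥ := by
    intro hh
    have hle : (Jab (P : Subgroup G)).subgroupOf M ≤ R := Solvable.le_pCore
      ((normal_subgroupOf_iff_le_normalizer le_normalizer).mpr le_rfl)
      (hJp.comap_of_injective _ M.subtype_injective)
    refine hJ1 ?_
    rw [← (subgroupOf_map_subtype (Jab (P : Subgroup G)) M).trans (inf_eq_left.mpr le_normalizer),
      eq_bot_iff.mpr (hle.trans hh.le), Subgroup.map_bot]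
  set F := Cfsg.fittingSubgroup (M ⧸ R) with hFdef
  haveI hFn : F.Normal := Solvable.fittingSubgroup_normal _
  haveI hFnil : Group.IsNilpotent F := Solvable.fittingSubgroup_isNilpotent _
  -- `F` is a `p'`-group
  have hFp : ∀ z ∈ F, PElem p z → z = 1 := by
    intro z hz hzp
    have hn : (Cfsg.piCoreOf {p} F).Normal := normalizer_eq_top_iff.mp (top_le_iff.mp
      ((normalizer_eq_top_iff.mpr hFn).ge.trans (OddOrder.normalizer_le_normalizer_piCoreOf _ _)))
    have := Solvable.le_pCore hn (OddOrder.piCoreOf_singleton_isPGroup p F)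
      (OddOrder.mem_piCoreOf_of_nilpotent hFnil hz fun s hs hd => hzp.orderOf_dvd hs hd)
    rwa [Solvable.pCore_quotient_eq_bot R rfl, mem_bot] at this
  -- `F` is cyclic
  haveI : IsCyclic F := by
    haveI : IsZGroup F := by
      refine ⟨fun q hq T => ?_⟩
      haveI := Fact.mk hq
      by_cases hT : Subsingleton (T : Subgroup F)
      · infer_instance
      have hqp : q ≠ p := by
        rintro rfl
        refine hT ⟨fun a b => ?_⟩
        have hone : ∀ c : (T : Subgroup F), c = 1 := fun c => by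
          obtain ⟨k, hk⟩ := T.2 c
          exact Subtype.ext (Subtype.ext (hFp ((c : F) : M ⧸ R) (c : F).2
            ⟨k, congrArg Subtype.val (congrArg Subtype.val hk)⟩))
        rw [hone a, hone b]
      have hq2 : q ≠ 2 := by
        rintro rfl
        obtain ⟨k, hk⟩ := T.2.exists_card_eq
        have h2 : 2 ∣ Nat.card M := by
          refine (dvd_pow_self 2 fun h0 => hT ?_).trans (hk.symm ▸
            (Subgroup.card_subgroup_dvd_card (T : Subgroup F)).trans
              ((Subgroup.card_subgroup_dvd_card F).trans R.card_quotient_dvd_card))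
          rw [h0, pow_zero, Nat.card_eq_one_iff_unique] at hk
          exact hk.1
        exact (Nat.not_even_iff_odd.mpr hoddM) (even_iff_two_dvd.mpr h2)
      set V : Subgroup M := (center R).map R.subtype with hV
      haveI : V.Normal := inferInstance
      have hVR : V ≤ R := map_subtype_le _
      have hVc : ∀ v ∈ V, ∀ r ∈ R, r * v = v * r := by
        rintro _ ⟨v, hv, rfl⟩ r hr
        exact congrArg Subtype.val (mem_center_iff.mp hv ⟨r, hr⟩)
      have hV1 : V ≠ ⊥ := by
        haveI : Nontrivial R := (nontrivial_iff_ne_bot R).mpr hR1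
        haveI := hRp.center_nontrivial
        intro hh
        exact (nontrivial_iff_ne_bot (center R)).mp ‹_›
          ((Subgroup.map_eq_bot_iff_of_injective _ R.subtype_injective).mp hh)
      letI : CommGroup V :=
        { (inferInstance : Group V) with
          mul_comm := fun a b => Subtype.ext (hVc b b.2 a (hVR a.2)) }
      haveI : Nontrivial V := (nontrivial_iff_ne_bot V).mpr hV1
      let α : (M ⧸ R) →* MulAut V := QuotientGroup.lift R MulAut.conjNormal (fun r hr => by
        refine MonoidHom.mem_ker.mpr (MulEquiv.ext fun v => Subtype.ext ?_)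
        rw [MulAut.conjNormal_apply, hVc v v.2 r hr]
        simp)
      refine isCyclic_of_fpf_action (V := V) hq2 T.2 ?_
        ((α.comp F.subtype).comp (T : Subgroup F).subtype) fun c v hv hfix => ?_
      · intro hd
        obtain ⟨k, hk⟩ := (hRp.to_le hVR).exists_card_eq
        rw [hk] at hd
        exact hqp ((Nat.prime_dvd_prime_iff_eq hq hp.out).mp (hq.dvd_of_dvd_pow hd))
      · obtain ⟨t, ht⟩ := QuotientGroup.mk'_surjective R ((c : F) : M ⧸ R)
        have hfix' : (MulAut.conjNormal t : MulAut V) v = v := by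
          have h1 : α ((c : F) : M ⧸ R) v = v := hfix
          rwa [← ht] at h1
        obtain ⟨k, hk⟩ := h.subgroup_hc M v t (fun hh => hv (Subtype.ext hh))
          (pElem_of_mem hRp (hVR v.2))
          (mul_inv_eq_iff_eq_mul.mp (congrArg Subtype.val hfix'))
        exact Subtype.ext (Subtype.ext (hFp _ (c : F).2 ⟨k, by rw [← ht, ← map_pow, hk, map_one]⟩))
    infer_instance
  have hMF : commutator (M ⧸ R) ≤ F := by
    have hker : (MulAut.conjNormal : M ⧸ R →* MulAut F).ker ≤ F := by
      intro c hc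
      refine Solvable.centralizer_fittingSubgroup_le fun f hf => ?_
      have := congrArg Subtype.val (MulEquiv.congr_fun (MonoidHom.mem_ker.mp hc) ⟨f, hf⟩)
      rw [MulAut.conjNormal_apply, MulAut.one_apply] at this
      exact (mul_inv_eq_iff_eq_mul.mp this).symm
    refine le_trans ?_ hker
    rw [commutator_def, Subgroup.commutator_le]
    intro a _ b _
    rw [MonoidHom.mem_ker, map_commutatorElement, commutatorElement_eq_one_iff_mul_comm]
    refine MulEquiv.ext fun f => ?_
    obtain ⟨m, hm⟩ := MonoidHom.map_cyclic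
      ((MulAut.conjNormal a : MulAut F) : F →* F)
    obtain ⟨k, hk⟩ := MonoidHom.map_cyclic
      ((MulAut.conjNormal b : MulAut F) : F →* F)
    simp only [MonoidHom.coe_coe] at hm hk
    rw [MulAut.mul_apply, MulAut.mul_apply, hm, hk, hk, hm, ← zpow_mul, ← zpow_mul, mul_comm]
  have hPR : PM ≤ R := by
    intro x hx
    have hxc : x ∈ commutator M := by
      have h1 : (x : G) ∈ ⁅M, M⁆ := Subgroup.commutator_mono hPM le_rfl (hfoc hx)
      rw [← map_subtype_commutator] at h1
      obtain ⟨y, hy, hyx⟩ := h1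
      rwa [← Subtype.ext hyx]
    have hxF : QuotientGroup.mk' R x ∈ F := by
      refine hMF ?_
      rw [commutator_def, ← Subgroup.map_top_of_surjective (QuotientGroup.mk' R)
        (QuotientGroup.mk'_surjective R), ← Subgroup.map_commutator, ← commutator_def]
      exact mem_map_of_mem _ hxc
    obtain ⟨k, hk⟩ := pElem_of_mem hPMp hx
    exact (QuotientGroup.eq_one_iff x).mp (hFp _ hxF ⟨k, by
      show (QuotientGroup.mk' R x) ^ p ^ k = 1
      rw [← map_pow, hk, map_one]⟩)
  have hRP : R ≤ PM := by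
    intro r hr
    obtain ⟨T, hT⟩ := hPMp.exists_le_sylow
    have hTeq : PM = T := by
      refine Subgroup.eq_of_le_of_card_ge hT ?_
      obtain ⟨S, hS⟩ := (T.2.map M.subtype).exists_le_sylow
      have := Subgroup.card_le_of_le hS
      rw [S.card_eq_multiplicity, ← P.card_eq_multiplicity,
        Subgroup.card_map_of_injective M.subtype_injective] at this
      rwa [hPMdef, Nat.card_congr (subgroupOfEquivOfLe hPM).toEquiv]
    rw [hTeq]
    exact Solvable.pCore_le_sylow T hr
  rw [le_antisymm hPR hRP]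
  exact hRn

end CfsgLib.CN
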