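import Cfsg.Agent.Lib.CN.NilCent
import Cfsg.Agent.Lib.CN.Maximal
import Cfsg.Agent.Lib.CN.Reduction
import Cfsg.Agent.Lib.CN.SinglePrime

/-!
# The structure of a minimal non-solvable CN-group of odd order
-/

set_option autoImplicit false

namespace CfsgLib.CN

open Subgroup
open scoped Pointwise

universe u

theorem isCNGroup_subgroup {G : Type*} [Group G] [Finite G] (hCN : Cfsg.IsCNGroup G)
    (K : Subgroup G) : Cfsg.IsCNGroup K := by
  intro g hg
  haveI := isNilpotent_of_le (hCN g fun h => hg (Subtype.ext h))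
    (map_le_iff_le_comap.mpr fun a ha => mem_centralizer_singleton_iff.mpr
      (congrArg Subtype.val (mem_centralizer_singleton_iff.mp ha)) :
      (centralizer ({g} : Set K)).map K.subtype ≤ centralizer ({(g : G)} : Set G))
  exact Group.nilpotent_of_mulEquiv
    (equivMapOfInjective (centralizer ({g} : Set K)) _ K.subtype_injective).symm

variable {G : Type u} [Group G] [Finite G] (hCN : Cfsg.IsCNGroup G) (hodd : Odd (Nat.card G))
  (hperf : commutator G = ⊤)
  (ih : ∀ (K : Type u) [Group K] [Finite K], Nat.card K < Nat.card G → Odd (Nat.card K) →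
    Cfsg.IsCNGroup K → Group.IsSolvable K)
include hCN hodd hperf ih

/-- Every nonidentity element lies in a nilpotent subgroup containing the centralisers of its
nonidentity elements. -/
theorem exists_nilCent {z : G} (hz : z ≠ 1) : ∃ H : Subgroup G, NilCent H ∧ z ∈ H := by
  haveI : Nontrivial G := ⟨⟨z, 1, hz⟩⟩
  obtain ⟨H, hH, hzH⟩ := exists_isMaxNil_ge (isNilpotent_zpowers z)
  refine ⟨H, ⟨hH.1, hH.ne_bot, fun x hx hx1 => ?_⟩, hzH (mem_zpowers z)⟩
  by_cases hpp : IsPrimePow (Nat.card H)
  · obtain ⟨p, k, hp, hk0, hk⟩ := (isPrimePow_nat_iff _).mp hpp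
    haveI := Fact.mk hp
    have hHp : IsPGroup p H := IsPGroup.of_card hk.symm
    obtain ⟨P, hP⟩ := hHp.exists_le_sylow
    obtain rfl : (P : Subgroup G) = H := hH.2 P P.2.isNilpotent hP
    have hset : Setting G p := by
      refine ⟨?_, hodd, hperf, fun K hK => ?_, fun N hN hNp => ?_, fun v y hv hvp hvy => ?_⟩
      · rintro rfl
        have h2 : 2 ∣ Nat.card G :=
          (dvd_pow_self 2 hk0.ne').trans (hk ▸ Subgroup.card_subgroup_dvd_card _)
        exact (Nat.not_even_iff_odd.mpr hodd) (even_iff_two_dvd.mpr h2)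
      · exact ih K (lt_of_le_of_ne (Subgroup.card_le_card_group K)
          fun h => hK (Subgroup.eq_top_of_card_eq _ h))
          (hodd.of_dvd_nat (Subgroup.card_subgroup_dvd_card K)) (isCNGroup_subgroup hCN K)
      · exact eq_bot_of_normal_pGroup hCN hodd hperf ih hN hNp
      · obtain ⟨l, hl⟩ := hvp
        obtain ⟨j, -, hj⟩ := (Nat.dvd_prime_pow hp).mp (orderOf_dvd_of_pow_eq_one hl)
        obtain ⟨R, hR⟩ := (IsPGroup.of_card (n := j) (G := zpowers v)
          (by rw [Nat.card_zpowers, hj])).exists_le_sylow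
        obtain ⟨g, hg⟩ := MulAction.exists_smul_eq G P R
        have hRmax : IsMaxNil (R : Subgroup G) := by
          rw [← hg]
          exact hH.map_conj g
        exact pElem_of_mem (hRmax.isPGroup_centralizer hCN R.2 (hR (mem_zpowers v)) hv)
          (mem_centralizer_singleton_iff.mpr hvy)
    obtain ⟨R, hR⟩ := (hH.isPGroup_centralizer hCN hHp hx hx1).exists_le_sylow
    refine hR.trans (le_of_eq ?_)
    congr 1
    refine (hset.sylow_eq P R fun h => hx1 ?_).symm
    exact mem_bot.mp (h ▸ Subgroup.mem_inf.mpr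
      ⟨hx, hR (mem_centralizer_singleton_iff.mpr rfl)⟩)
  · refine hH.centralizer_le_of_two_primes hCN
      (two_primes_of_not_isPrimePow ?_ Nat.card_pos.ne' hpp) hx hx1
    rw [Ne, Subgroup.card_eq_one]
    exact fun h => hx1 (mem_bot.mp (h ▸ hx))

end CfsgLib.CN
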