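import Cfsg.Agent.Lib.CN.Classes
import Cfsg.Agent.Lib.CN.Family
import Cfsg.Agent.Lib.CN.Structure
import Cfsg.Agent.Lib.CA.Suzuki
import Cfsg.Agent.Lib.Transfer.PGroup

/-!
# The Feit–Hall–Thompson theorem: CN-groups of odd order are solvable
-/

set_option autoImplicit false

open scoped ComplexConjugate

namespace CfsgLib.CN

universe u

theorem kc_eq_one_of_prime {G : Type*} [Group G] [Finite G] {H : Subgroup G}
    (hH : Group.IsNilpotent H) {p : ℕ} (hp : p.Prime) (hcard : Nat.card (Ab H) = p) : kc H = 1 := by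
  haveI := hH
  haveI := Fact.mk hp
  haveI : Nontrivial (Ab H) := Finite.one_lt_card_iff_nontrivial.mp (hcard ▸ hp.one_lt)
  obtain ⟨q, hq⟩ := exists_ne (1 : Ab H)
  obtain ⟨h, rfl⟩ := of_surjective H q
  have htop : Subgroup.zpowers h = ⊤ := by
    refine Transfer.eq_top_of_sup_commutator (eq_top_iff.mpr fun b _ => ?_)
    obtain ⟨i, hi⟩ := Subgroup.mem_zpowers_iff.mp
      (mem_zpowers_of_prime_card (g' := Abelianization.of b) hcard hq)
    rw [show b = h ^ i * ((h ^ i)⁻¹ * b) by group]
    refine Subgroup.mul_mem_sup (zpow_mem (Subgroup.mem_zpowers h) i)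
      ((QuotientGroup.eq_one_iff _).mp ?_)
    show Abelianization.of ((h ^ i)⁻¹ * b) = 1
    rw [map_mul, map_inv, map_zpow, hi, inv_mul_cancel]
  have hc : IsMulCommutative H := ⟨⟨fun a b => by
    obtain ⟨i, hi⟩ := Subgroup.mem_zpowers_iff.mp (htop ▸ Subgroup.mem_top a)
    obtain ⟨j, hj⟩ := Subgroup.mem_zpowers_iff.mp (htop ▸ Subgroup.mem_top b)
    rw [← hi, ← hj, ← zpow_add, ← zpow_add, add_comm]⟩⟩
  rw [kc, (commutator_eq_bot_iff H).mpr hc, Subgroup.card_bot]

/-- The numerical contradiction when the distinguished family is large. -/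
theorem final_large {a g n self out inn : ℝ} (hn : 3 ≤ n) (hg : 0 < g) (ha : 4 * n + 1 ≤ a)
    (hself : self ≤ 1 / n) (hin : inn ≤ (n - 1) / (2 * n))
    (hout : out ≤ (2 * n + 1) / (2 * n) * (n / a - 4 / g))
    (htot : 1 - 1 / g = self + inn + out) : False := by
  have h1 : n / a ≤ n / (4 * n + 1) :=
    div_le_div_of_nonneg_left (by linarith) (by linarith) ha
  have h2 : out ≤ (2 * n + 1) / (2 * n) * (n / (4 * n + 1)) - 4 / g := by
    have hc : 1 ≤ (2 * n + 1) / (2 * n) := by rw [le_div_iff₀ (by linarith)]; linarith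
    have h4 : 0 ≤ 4 / g := by positivity
    nlinarith
  have h3 : 1 / n + (n - 1) / (2 * n) + (2 * n + 1) / (2 * n) * (n / (4 * n + 1)) ≤ 1 := by
    field_simp
    nlinarith
  have h5 : 1 / g < 4 / g := div_lt_div_of_pos_right (by norm_num) hg
  linarith

/-- The numerical contradiction when the distinguished family has two members. -/
theorem final_small {g n self out inn : ℝ} (hn : 0 < n) (hg : 0 < g)
    (hsum : self + inn ≤ 1 / 2)
    (hout : out ≤ (2 * n + 1) / (2 * n) * (n / (2 * n + 1) - 4 / g))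
    (htot : 1 - 1 / g = self + inn + out) : False := by
  have hc : 1 ≤ (2 * n + 1) / (2 * n) := by rw [le_div_iff₀ (by linarith)]; linarith
  have h4 : 0 ≤ 4 / g := by positivity
  have h2 : (2 * n + 1) / (2 * n) * (n / (2 * n + 1)) = 1 / 2 := by
    field_simp
  have h5 : 1 / g < 4 / g := div_lt_div_of_pos_right (by norm_num) hg
  nlinarith

theorem one_div_le_of_family {nl n tl : ℝ} (hn : 3 ≤ n) (hnl : n ≤ nl) (htl : 2 ≤ tl)
    (h : n + 2 ≤ nl ∨ 4 ≤ tl) : 1 / nl ≤ tl / (2 * (n + 2)) := by
  rw [div_le_div_iff₀ (by linarith) (by linarith)]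
  rcases h with h | h <;> nlinarith

variable {G : Type u} [Group G]

/-- No nontrivial perfect group of odd order is covered by nilpotent subgroups containing the
centralisers of their nonidentity elements. -/
theorem subsingleton_of_perfect [Finite G] (hodd : Odd (Nat.card G)) (hperf : commutator G = ⊤)
    (hcov : ∀ z : G, z ≠ 1 → ∃ H : Subgroup G, NilCent H ∧ z ∈ H) : Subsingleton G := by
  classical
  cases nonempty_fintype G
  by_contra hcon
  rw [not_subsingleton_iff_nontrivial] at hcon
  obtain ⟨z₁, hz₁⟩ := exists_ne (1 : G)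
  obtain ⟨i₁, -⟩ := exists_inClass hcov hz₁
  have hsc := fun i : ClassIdx G => rep_nilCent i
  letI : ∀ i : ClassIdx G, Fintype (rep i) := fun i => Fintype.ofFinite _
  letI : ∀ i : ClassIdx G, Fintype (Ab (rep i)) := fun i => Fintype.ofFinite _
  choose E X n t hn hat ht2 hEc hprin hclosed hXc hX1 hoff hcol hown hother hvan using
    fun i : ClassIdx G => exists_family (hsc i) hodd
  choose b hb using fun i : ClassIdx G => exists_of_ne_one (hsc i)
  have hfibne : ∀ i, ∀ c ∈ fib (rep i) (Abelianization.of (b i)), (c : G) ≠ 1 := by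
    intro i c hc h
    refine hb i ?_
    rw [← mem_fib.mp hc, show c = 1 from Subtype.ext h, map_one]
  have hnotin : ∀ {i l : ClassIdx G}, i ≠ l → ∀ c : rep i, (c : G) ≠ 1 → ¬ InClass l (c : G) := by
    intro i l hil c hc hin
    exact hil (inClass_unique hc ⟨1, by simp⟩ hin)
  have hvan' : ∀ l, ∀ φ ∈ E l, ∀ ψ ∈ E l, ∀ c : G, ¬ InClass l c →
      (φ : G → ℂ) c = (ψ : G → ℂ) c := fun l φ hφ ψ hψ c hc =>
    hvan l φ hφ ψ hψ c fun y hy => absurd ⟨y, hy⟩ hc
  have hdisj : ∀ {i l : ClassIdx G}, i ≠ l → Disjoint (E i) (E l) := by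
    intro i l hil
    rw [Finset.disjoint_left]
    intro φ hi hl
    refine hprin i (CA.eq_principal_of_conjIrr_eq hodd φ (Subtype.ext (funext fun c => ?_)) ▸ hi)
    by_cases h1 : c = 1
    · exact hvan i _ (hclosed i φ hi) φ hi c fun y _ => by rw [h1]; simp
    by_cases hc : InClass i c
    · exact hvan' l _ (hclosed l φ hl) φ hl c fun h => hil (inClass_unique h1 hc h)
    · exact hvan' i _ (hclosed i φ hi) φ hi c hc
  have hkne : ∀ i : ClassIdx G, (kc (rep i) : ℂ) ≠ 0 := fun i =>
    Nat.cast_ne_zero.mpr (Nat.card_pos (α := commutator (rep i))).ne'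
  -- constancy of the values of a family on the other classes
  have hconst : ∀ {i l : ClassIdx G}, i ≠ l → ∀ φ ∈ E l, ∀ ψ ∈ E l, X i φ = X i ψ := by
    intro i l hil φ hφ ψ hψ
    have h : fibSum (rep i) (φ : G → ℂ) (Abelianization.of (b i)) =
        fibSum (rep i) (ψ : G → ℂ) (Abelianization.of (b i)) :=
      Finset.sum_congr rfl fun c hc => hvan' l φ hφ ψ hψ c (hnotin hil c (hfibne i c hc))
    rw [hoff i φ (fun h => Finset.disjoint_left.mp (hdisj hil) h hφ) _ (hb i),
      hoff i ψ (fun h => Finset.disjoint_left.mp (hdisj hil) h hψ) _ (hb i)] at h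
    exact_mod_cast mul_left_cancel₀ (hkne i) h
  have hne : ∀ i, ∃ φ, φ ∈ E i := fun i => Finset.card_pos.mp (by rw [hEc]; linarith [ht2 i])
  choose φ₀ hφ₀ using hne
  -- for two classes one of the cross values is nonzero
  have hcross : ∀ {i l : ClassIdx G}, i ≠ l → X i (φ₀ l) ≠ 0 ∨ X l (φ₀ i) ≠ 0 := by
    intro i l hil
    by_contra h
    push Not at h
    obtain ⟨hil0, hli0⟩ := h
    have hzero : ∑ φ : Cfsg.IrrCharacter G, fibSum (rep i) (φ : G → ℂ) (Abelianization.of (b i)) *
        conj (fibSum (rep l) (φ : G → ℂ) (Abelianization.of (b l))) = 0 := by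
      simp only [fibSum, map_sum, Finset.sum_mul_sum]
      rw [Finset.sum_comm]
      refine Finset.sum_eq_zero fun c hc => ?_
      rw [Finset.sum_comm]
      refine Finset.sum_eq_zero fun d hd => ?_
      rw [Char.sum_mul_conj, if_neg]
      intro hconj
      obtain ⟨y, hy⟩ := isConj_iff.mp hconj
      refine hnotin hil c (hfibne i c hc) ⟨y⁻¹, ?_⟩
      rw [inv_inv, hy]
      exact d.2
    set R : Finset (Cfsg.IrrCharacter G) :=
      Finset.univ.filter (fun φ => φ ≠ Char.principalIrr ∧ φ ∉ E i ∧ φ ∉ E l) with hR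
    have hterm : ∀ φ : Cfsg.IrrCharacter G,
        fibSum (rep i) (φ : G → ℂ) (Abelianization.of (b i)) *
          conj (fibSum (rep l) (φ : G → ℂ) (Abelianization.of (b l))) =
        (kc (rep i) : ℂ) * (kc (rep l) : ℂ) *
          (((if φ = Char.principalIrr then 1 else 0) + if φ ∈ R then X i φ * X l φ else 0 : ℤ) : ℂ) := by
      intro φ
      by_cases hφi : φ ∈ E i
      · have hnl : φ ∉ E l := Finset.disjoint_left.mp (hdisj hil) hφi
        have hnp : φ ≠ Char.principalIrr := fun h => hprin i (h ▸ hφi)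
        have hnR : φ ∉ R := fun h => (Finset.mem_filter.mp h).2.2.1 hφi
        rw [hoff l φ hnl _ (hb l), hconst hil.symm φ hφi _ (hφ₀ i), hli0, if_neg hnp, if_neg hnR]
        simp
      by_cases hφl : φ ∈ E l
      · have hnp : φ ≠ Char.principalIrr := fun h => hprin l (h ▸ hφl)
        have hnR : φ ∉ R := fun h => (Finset.mem_filter.mp h).2.2.2 hφl
        rw [hoff i φ hφi _ (hb i), hconst hil φ hφl _ (hφ₀ l), hil0, if_neg hnp, if_neg hnR]
        simp
      rw [hoff i φ hφi _ (hb i), hoff l φ hφl _ (hb l), map_mul, map_natCast, map_intCast]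
      by_cases hp : φ = Char.principalIrr
      · subst hp
        have hnR : Char.principalIrr ∉ R := fun h => (Finset.mem_filter.mp h).2.1 rfl
        rw [if_pos rfl, if_neg hnR, hX1, hX1]
        simp
      · have hmR : φ ∈ R := Finset.mem_filter.mpr ⟨Finset.mem_univ _, hp, hφi, hφl⟩
        rw [if_neg hp, if_pos hmR, zero_add]
        push_cast
        ring
    rw [Finset.sum_congr rfl (fun φ _ => hterm φ), ← Finset.mul_sum,
      mul_eq_zero_iff_left (mul_ne_zero (hkne i) (hkne l)), ← Int.cast_sum, Int.cast_eq_zero,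
      Finset.sum_add_distrib, Finset.sum_ite_eq', if_pos (Finset.mem_univ _), Finset.sum_ite_mem,
      Finset.univ_inter] at hzero
    have heven : Even (∑ φ ∈ R, X i φ * X l φ) := by
      refine CA.even_sum_of_conj_invariant hodd R (fun φ hφ => ?_) (by simp [hR]) _
        (fun φ => by rw [hXc, hXc])
      simp only [hR, Finset.mem_filter, Finset.mem_univ, true_and] at hφ ⊢
      refine ⟨fun h => hφ.1 ?_, fun h => hφ.2.1 ?_, fun h => hφ.2.2 ?_⟩
      · rw [← CA.conjIrr_conjIrr φ, h]
        exact Subtype.ext (funext fun g => by simp [CA.conjIrr_apply])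
      · rw [← CA.conjIrr_conjIrr φ]; exact hclosed i _ h
      · rw [← CA.conjIrr_conjIrr φ]; exact hclosed l _ h
    obtain ⟨k, hk⟩ := heven
    omega
  -- numerical facts
  have hnodd : ∀ l : ClassIdx G, Odd (n l) := fun l => hodd.of_dvd_nat
    (dvd_trans ⟨_, (hn l).symm⟩ (Subgroup.card_subgroup_dvd_card _))
  have hteven : ∀ l : ClassIdx G, Even (t l) := by
    intro l
    have h1 : Odd (Nat.card (Ab (rep l))) :=
      (hodd.of_dvd_nat (Subgroup.card_subgroup_dvd_card (rep l))).of_dvd_nat
        (Dvd.intro_left _ (card_eq_kc_mul (rep l)).symm)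
    rw [hat l, Nat.odd_add_one, Nat.not_odd_iff_even, Nat.even_mul] at h1
    exact h1.resolve_left (Nat.not_even_iff_odd.mpr (hnodd l))
  have hn3N : ∀ l : ClassIdx G, 3 ≤ n l := by
    intro l
    obtain ⟨c, hc⟩ := hnodd l
    by_contra h
    have h1 : n l = 1 := by omega
    obtain ⟨x, hx, hxH⟩ := (hsc l).exists_normalizer_notMem hperf
    have h2 := hn l
    rw [h1, one_mul] at h2
    exact hxH ((Subgroup.eq_of_le_of_card_ge Subgroup.le_normalizer h2.ge).ge hx)
  obtain ⟨i₀, -, hmin⟩ := Finset.exists_min_image Finset.univ n ⟨i₁, Finset.mem_univ _⟩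
  let φ := φ₀ i₀
  set g := (Nat.card G : ℝ) with hg
  have hgpos : (0 : ℝ) < g := Nat.cast_pos.mpr Nat.card_pos
  have hn3 : ∀ l : ClassIdx G, (3 : ℝ) ≤ n l := fun l => by exact_mod_cast hn3N l
  have ht2R : ∀ l : ClassIdx G, (2 : ℝ) ≤ t l := fun l => by exact_mod_cast ht2 l
  have hnle : ∀ l : ClassIdx G, (n i₀ : ℝ) ≤ n l := fun l => by
    exact_mod_cast hmin l (Finset.mem_univ l)
  have ha' : ∀ l : ClassIdx G, (Nat.card (Ab (rep l)) : ℝ) = (n l : ℝ) * t l + 1 := fun l => by
    exact_mod_cast hat l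
  have hidx : ∀ l, ((Subgroup.normalizer (rep l : Set G)).index : ℝ) *
      ((n l : ℝ) * Nat.card (rep l)) = g := by
    intro l
    rw [hg, ← (Subgroup.normalizer (rep l : Set G)).index_mul_card, ← hn l]
    push_cast
    ring
  have hapos : ∀ l : ClassIdx G, (0 : ℝ) < Nat.card (rep l) := fun l =>
    Nat.cast_pos.mpr Nat.card_pos
  have hscale : ∀ (l : ClassIdx G) (c : ℝ),
      ((Subgroup.normalizer (rep l : Set G)).index : ℝ) * ((Nat.card (rep l) : ℝ) * c) =
        g * (c / n l) := by
    intro l c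
    rw [← hidx l]
    have := hn3 l
    field_simp
  let w : ClassIdx G → ℝ := fun l =>
    ((Nat.card (rep l) : ℝ) - 1) / ((n l : ℝ) * Nat.card (rep l))
  have hwle : ∀ l, w l ≤ 1 / (n l : ℝ) := by
    intro l
    have := hn3 l
    have := hapos l
    simp only [w]
    rw [div_le_div_iff₀ (by positivity) (by linarith)]
    nlinarith
  have hclass : 1 - 1 / g = ∑ l : ClassIdx G, w l := by
    have h := sum_classes hcov (fun _ : G => (1 : ℝ)) (fun _ _ => rfl)
    rw [Finset.sum_const, Finset.card_erase_of_mem (Finset.mem_univ _), Finset.card_univ,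
      nsmul_eq_mul, mul_one, Nat.cast_sub Fintype.card_pos] at h
    have hrs : ∀ l : ClassIdx G, ((Subgroup.normalizer (rep l : Set G)).index : ℝ) *
        ∑ _c ∈ repSharp l, (1 : ℝ) = g * w l := by
      intro l
      have h1 : (repSharp l).card + 1 = Nat.card (rep l) := by
        have h2 : repSharp l = (Finset.univ.filter (fun c => c ∈ rep l)).erase 1 := by
          ext c
          simp [repSharp, and_comm]
        rw [h2, Finset.card_erase_add_one (by simp), Nat.card_eq_fintype_card, Fintype.card_subtype]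
      have h3 : ((repSharp l).card : ℝ) = (Nat.card (rep l) : ℝ) - 1 := by
        rw [← h1]; push_cast; ring
      rw [Finset.sum_const, nsmul_eq_mul, mul_one, h3, ← hidx l]
      have := hn3 l
      have := hapos l
      simp only [w]
      field_simp
    rw [Finset.sum_congr rfl (fun l _ => hrs l), ← Finset.mul_sum, ← Nat.card_eq_fintype_card,
      ← hg, Nat.cast_one] at h
    rw [eq_comm, ← sub_eq_zero]
    have : g * (∑ l, w l - (1 - 1 / g)) = 0 := by
      field_simp
      linarith
    exact (mul_eq_zero.mp this).resolve_left hgpos.ne'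
  obtain ⟨d, hd0, hd⟩ := Char.IsIrrCharacter.exists_degree φ.2
  have hd2 : 2 ≤ d := by
    by_contra h
    have hd1 : d = 1 := by omega
    rw [hd1, Nat.cast_one] at hd
    obtain ⟨f, hf⟩ := Char.IsCharacter.exists_linear (Char.IsIrrCharacter.isCharacter φ.2) hd
    refine hprin i₀ ((Subtype.ext (funext fun c => ?_) : φ = Char.principalIrr) ▸ hφ₀ i₀)
    have hker : commutator G ≤ MonoidHom.ker f := Abelianization.commutator_subset_ker f
    rw [hf, Char.principalIrr_apply, MonoidHom.mem_ker.mp (hker (hperf ▸ Subgroup.mem_top c)),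
      Units.val_one]
  have h4 : (4 : ℝ) ≤ (d : ℝ) ^ 2 := by
    have : (2 : ℝ) ≤ d := by exact_mod_cast hd2
    nlinarith
  -- the row estimate
  have hrow : g = (d : ℝ) ^ 2 + ∑ l : ClassIdx G, ((Subgroup.normalizer (rep l : Set G)).index : ℝ) *
      ∑ c ∈ CA.sharp (rep l), ‖(φ : G → ℂ) c‖ ^ 2 := by
    have htot : ∑ c : G, ‖(φ : G → ℂ) c‖ ^ 2 = g := by
      have h := Char.classInner_irr_self φ.2
      rw [Cfsg.classInner, inv_mul_eq_iff_eq_mul₀ (Nat.cast_ne_zero.mpr Nat.card_pos.ne'), mul_one] at h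
      have h' : ((∑ c : G, ‖(φ : G → ℂ) c‖ ^ 2 : ℝ) : ℂ) = ((g : ℝ) : ℂ) := by
        rw [hg, Complex.ofReal_natCast, ← h]
        push_cast
        exact Finset.sum_congr rfl fun c _ => (Complex.mul_conj' _).symm
      exact_mod_cast h'
    rw [← htot, ← Finset.add_sum_erase _ _ (Finset.mem_univ (1 : G)), hd, Complex.norm_natCast,
      sum_classes hcov (fun c => ‖(φ : G → ℂ) c‖ ^ 2) (fun c h => by
        rw [Char.IsIrrCharacter.isClassFunction φ.2 c h])]
    congr 1
  set J := (Finset.univ : Finset (ClassIdx G)).erase i₀ with hJ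
  set In := J.filter (fun l => X i₀ (φ₀ l) ≠ 0) with hIn
  set Out := J.filter (fun l => ¬ X i₀ (φ₀ l) ≠ 0) with hOut
  have hrowle : ((d : ℝ) ^ 2) + g * (1 - (n i₀ : ℝ) / Nat.card (Ab (rep i₀))) +
      ∑ l ∈ Out, g * ((t l : ℝ) / Nat.card (Ab (rep l))) ≤ g := by
    conv_rhs => rw [hrow, ← Finset.add_sum_erase _ _ (Finset.mem_univ i₀), ← hJ]
    have hself' : g * (1 - (n i₀ : ℝ) / Nat.card (Ab (rep i₀))) ≤
        ((Subgroup.normalizer (rep i₀ : Set G)).index : ℝ) *
          ∑ c ∈ CA.sharp (rep i₀), ‖(φ : G → ℂ) c‖ ^ 2 := by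
      refine le_trans (le_of_eq ?_)
        (mul_le_mul_of_nonneg_left (hown i₀ φ (hφ₀ i₀)) (Nat.cast_nonneg _))
      rw [hscale]
      have := hn3 i₀
      congr 1
      field_simp
    have hother' : ∑ l ∈ Out, g * ((t l : ℝ) / Nat.card (Ab (rep l))) ≤
        ∑ l ∈ J, ((Subgroup.normalizer (rep l : Set G)).index : ℝ) *
          ∑ c ∈ CA.sharp (rep l), ‖(φ : G → ℂ) c‖ ^ 2 := by
      refine le_trans (Finset.sum_le_sum fun l hl => ?_) (Finset.sum_le_sum_of_subset_of_nonneg
        (Finset.filter_subset _ _) fun l _ _ => mul_nonneg (Nat.cast_nonneg _)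
          (Finset.sum_nonneg fun c _ => sq_nonneg _))
      obtain ⟨hlJ, hl0⟩ := Finset.mem_filter.mp hl
      have hli : l ≠ i₀ := (Finset.mem_erase.mp hlJ).1
      have hx : X l φ ≠ 0 := (hcross hli.symm).resolve_left hl0
      refine le_trans (le_of_eq ?_) (mul_le_mul_of_nonneg_left (hother l φ
        (fun h => Finset.disjoint_left.mp (hdisj hli) h (hφ₀ i₀)) hx) (Nat.cast_nonneg _))
      rw [hscale]
      have := hn3 l
      congr 1
      field_simp
    linarith
  have hIncard : (∑ l ∈ In, (t l : ℝ)) ≤ (n i₀ : ℝ) - 1 := by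
    have hS : ∀ S, S = In.biUnion E → (∑ l ∈ In, (t l : ℤ)) ≤ (n i₀ : ℤ) - 1 := by
      intro S hS
      have h1 : Disjoint S (E i₀) := by
        rw [hS, Finset.disjoint_biUnion_left]
        exact fun l hl => hdisj (Finset.mem_erase.mp (Finset.mem_filter.mp hl).1).1
      have h2 : Char.principalIrr ∉ S := by
        rw [hS, Finset.mem_biUnion]
        rintro ⟨l, -, h⟩
        exact hprin l h
      refine le_trans ?_ (hcol i₀ S h1 h2)
      rw [hS, Finset.sum_biUnion (fun x _ y _ hxy => hdisj hxy)]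
      refine Finset.sum_le_sum fun l hl => ?_
      rw [← hEc l, ← mul_one ((E l).card : ℤ), ← nsmul_eq_mul, ← Finset.sum_const]
      refine Finset.sum_le_sum fun ψ hψ => ?_
      have hne := (Finset.mem_filter.mp hl).2
      rw [← hconst (Finset.mem_erase.mp (Finset.mem_filter.mp hl).1).1.symm ψ hψ _ (hφ₀ l)] at hne
      exact (Int.one_le_abs (pow_ne_zero 2 hne)).trans_eq (abs_of_nonneg (sq_nonneg _))
    have := hS _ rfl
    exact_mod_cast this
  rw [← Finset.add_sum_erase _ _ (Finset.mem_univ i₀), ← hJ,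
    ← Finset.sum_filter_add_sum_filter_not J (fun l => X i₀ (φ₀ l) ≠ 0), ← hIn, ← hOut] at hclass
  set a₀ := (Nat.card (Ab (rep i₀)) : ℝ) with ha₀
  set N := (n i₀ : ℝ) with hN
  have hN3 : 3 ≤ N := hn3 i₀
  have hout : ∑ l ∈ Out, w l ≤ (2 * N + 1) / (2 * N) * (N / a₀ - 4 / g) := by
    have h1 : ∑ l ∈ Out, (t l : ℝ) / Nat.card (Ab (rep l)) ≤ N / a₀ - 4 / g := by
      have h2 := hrowle
      rw [← Finset.mul_sum] at h2
      have h3 : g * (∑ l ∈ Out, (t l : ℝ) / Nat.card (Ab (rep l)) - (N / a₀ - 4 / g)) ≤ 0 := by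
        rw [mul_sub, mul_sub, mul_div_cancel₀ _ hgpos.ne']
        linarith
      exact sub_nonpos.mp ((mul_nonpos_iff.mp h3).elim (fun h => h.2) (fun h => absurd h.1 (not_le.mpr hgpos)))
    refine le_trans (Finset.sum_le_sum (g := fun l =>
      (2 * N + 1) / (2 * N) * ((t l : ℝ) / Nat.card (Ab (rep l)))) fun l _ => ?_) ?_
    · refine (hwle l).trans ?_
      have := hn3 l
      have := ht2R l
      have := hnle l
      rw [ha' l, div_mul_div_comm, div_le_div_iff₀ (by linarith) (by positivity)]
      nlinarith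
    · rw [← Finset.mul_sum]
      exact mul_le_mul_of_nonneg_left h1 (by positivity)
  have hclass' : 1 - 1 / g = w i₀ + ∑ l ∈ In, w l + ∑ l ∈ Out, w l := by linarith
  by_cases ht4 : 4 ≤ t i₀
  · refine final_large hN3 hgpos ?_ (hwle i₀) ?_ hout hclass'
    · rw [ha₀, ha' i₀, ← hN]
      have : (4 : ℝ) ≤ t i₀ := by exact_mod_cast ht4
      nlinarith
    · refine le_trans (Finset.sum_le_sum (g := fun l => (t l : ℝ) / (2 * N)) fun l _ => ?_) ?_
      · refine (hwle l).trans ?_
        have := hn3 l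
        have := ht2R l
        have := hnle l
        rw [div_le_div_iff₀ (by linarith) (by linarith)]
        nlinarith
      · rw [← Finset.sum_div]
        exact div_le_div_of_nonneg_right hIncard (by linarith)
  · have ht0 : t i₀ = 2 := by
      obtain ⟨c, hc⟩ := hteven i₀
      have := ht2 i₀
      omega
    have ha0 : a₀ = 2 * N + 1 := by
      rw [ha₀, ha' i₀, ← hN, ht0]
      push_cast
      ring
    rw [ha0] at hout
    refine final_small (by linarith) hgpos ?_ hout hclass'
    have hin : ∑ l ∈ In, w l ≤ (N - 1) / (2 * (N + 2)) := by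
      refine le_trans (Finset.sum_le_sum (g := fun l => (t l : ℝ) / (2 * (N + 2))) fun l hl => ?_) ?_
      · refine (hwle l).trans (one_div_le_of_family hN3 (hnle l) (ht2R l) ?_)
        by_cases hnl : n i₀ = n l
        · right
          have hli : l ≠ i₀ := (Finset.mem_erase.mp (Finset.mem_filter.mp hl).1).1
          have ht : t l ≠ 2 := by
            intro ht
            apply hli
            have hcop : ¬ (Nat.card (rep l)).Coprime (Nat.card (rep i₀)) := by
              intro hco
              have h1 : Nat.card (Ab (rep l)) = 1 := Nat.eq_one_of_dvd_coprimes hco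
                (Dvd.intro_left _ (card_eq_kc_mul (rep l)).symm)
                (by rw [hat l, ht, ← hnl, ← ht0, ← hat i₀]
                    exact Dvd.intro_left _ (card_eq_kc_mul (rep i₀)).symm)
              have := hat l
              rw [ht] at this
              have := hn3N l
              omega
            obtain ⟨y, hy⟩ := (hsc l).exists_conj_eq (hsc i₀) hcop
            rw [← Quotient.out_eq l, ← Quotient.out_eq i₀]
            exact Quotient.sound ⟨y, hy⟩
          obtain ⟨c, hc⟩ := hteven l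
          have := ht2 l
          exact_mod_cast (show 4 ≤ t l by omega)
        · left
          obtain ⟨c, hc⟩ := hnodd i₀
          obtain ⟨c', hc'⟩ := hnodd l
          have := hmin l (Finset.mem_univ l)
          rw [hN]
          exact_mod_cast (show n i₀ + 2 ≤ n l by omega)
      · rw [← Finset.sum_div]
        exact div_le_div_of_nonneg_right hIncard (by linarith)
    by_cases hn5 : 5 ≤ n i₀
    · have h5 : (5 : ℝ) ≤ N := by rw [hN]; exact_mod_cast hn5
      have h6 : 1 / N + (N - 1) / (2 * (N + 2)) ≤ 1 / 2 := by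
        field_simp
        nlinarith
      linarith [hwle i₀]
    · have hn0 : n i₀ = 3 := by
        obtain ⟨c, hc⟩ := hnodd i₀
        have := hn3N i₀
        omega
      have h7 : Nat.card (Ab (rep i₀)) = 7 := by rw [hat i₀, ht0, hn0]
      have h8 : Nat.card (rep i₀) = 7 := by
        rw [card_eq_kc_mul, kc_eq_one_of_prime (hsc i₀).nilpotent (by norm_num) h7, h7, one_mul]
      have hN' : N = 3 := by rw [hN, hn0]; norm_num
      have hw0 : w i₀ = 2 / 7 := by
        simp only [w, h8, hn0]
        norm_num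
      rw [hN'] at hin
      rw [hw0]
      norm_num at hin ⊢
      linarith

/-- The Feit–Hall–Thompson CN theorem. -/
theorem isSolvable_of_cn [Finite G] (hodd : Odd (Nat.card G)) (hCN : Cfsg.IsCNGroup G) :
    Group.IsSolvable G := by
  induction hN : Nat.card G using Nat.strong_induction_on generalizing G with
  | _ N ih =>
    have ih' : ∀ (K : Type u) [Group K] [Finite K], Nat.card K < Nat.card G → Odd (Nat.card K) →
        Cfsg.IsCNGroup K → Group.IsSolvable K := fun K _ _ h h1 h2 => ih _ (hN ▸ h) h1 h2 rfl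
    by_cases hperf : commutator G = ⊤
    · have := subsingleton_of_perfect hodd hperf fun z hz => exists_nilCent hCN hodd hperf ih' hz
      infer_instance
    · have : Group.IsSolvable (commutator G) := ih' _ (lt_of_le_of_ne (Subgroup.card_le_card_group _)
          (fun h => hperf (Subgroup.eq_top_of_card_eq _ h)))
        (hodd.of_dvd_nat (Subgroup.card_subgroup_dvd_card _)) (isCNGroup_subgroup hCN _)
      exact Group.isSolvable_of_ker_le_range (commutator G).subtype (Abelianization.of (G := G))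
        (by rw [Subgroup.range_subtype, Abelianization.ker_of])

end CfsgLib.CN
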