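import Cfsg.Agent.Lib.CN.Reduction
import Cfsg.Agent.Lib.CN.Structure
import Cfsg.Agent.Lib.Frobenius.ComplementSylow
import Cfsg.Prelude.Def_OddOrderLocal

/-!
# CN-groups with a normal Sylow subgroup, fixed-point-free complements in CN-groups
-/

set_option autoImplicit false
set_option linter.style.haveILetI false

namespace CfsgLib.CN

open Subgroup

/-- A finite nilpotent group all of whose Sylow subgroups are cyclic or (at `2`) generalised
quaternion is cyclic or the product of a cyclic group of odd order and a quaternion group. -/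
theorem cyclic_or_quaternion {E : Type*} [Group E] [Finite E] [Group.IsNilpotent E]
    (h : ∀ (r : ℕ) [Fact r.Prime] (P : Subgroup E), IsPGroup r P →
      IsCyclic P ∨ (r = 2 ∧ ∃ n : ℕ, Nonempty (P ≃* QuaternionGroup (2 ^ n)))) :
    IsCyclic E ∨ ∃ C Q : Subgroup E, C ⊔ Q = ⊤ ∧ (∀ a ∈ C, ∀ b ∈ Q, a * b = b * a) ∧ IsCyclic C ∧
      Odd (Nat.card C) ∧ ∃ n : ℕ, Nonempty (Q ≃* QuaternionGroup (2 ^ n)) := by
  haveI : Fact (Nat.Prime 2) := ⟨Nat.prime_two⟩
  let S : Sylow 2 E := default
  rcases h 2 (S : Subgroup E) S.2 with hc | ⟨-, n, hn⟩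
  · left
    haveI : IsZGroup E := ⟨fun r hr P => by
      haveI := Fact.mk hr
      rcases h r (P : Subgroup E) P.2 with h' | ⟨rfl, -⟩
      · exact h'
      · haveI := hc
        obtain ⟨g, hg⟩ := MulAction.exists_smul_eq E S P
        exact (Sylow.equiv S P).isCyclic.mp hc⟩
    infer_instance
  · right
    haveI : (S : Subgroup E).Normal := inferInstance
    obtain ⟨C, hC⟩ := Subgroup.exists_right_complement'_of_coprime S.card_coprime_index
    have hCodd : Odd (Nat.card C) := by
      rw [← hC.symm.index_eq_card, ← Nat.not_even_iff_odd, even_iff_two_dvd]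
      exact S.not_dvd_index
    haveI : IsZGroup C := ⟨fun r hr P => by
      haveI := Fact.mk hr
      rcases h r ((P : Subgroup C).map C.subtype) (P.2.map _) with h' | ⟨rfl, -⟩
      · exact (equivMapOfInjective (P : Subgroup C) _ C.subtype_injective).isCyclic.mpr h'
      · haveI : Subsingleton (P : Subgroup C) := by
          rw [← Finite.card_le_one_iff_subsingleton]
          obtain ⟨k, hk⟩ := P.2.exists_card_eq
          rw [hk]
          rcases Nat.eq_zero_or_pos k with h0 | h0
          · simp [h0]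
          · exact absurd (((dvd_pow_self 2 h0.ne').trans (hk ▸ Subgroup.card_subgroup_dvd_card _)))
              fun hd => Nat.not_even_iff_odd.mpr hCodd (even_iff_two_dvd.mpr hd)
        infer_instance⟩
    refine ⟨C, S, ?_, ?_, inferInstance, hCodd, n, hn⟩
    · rw [sup_comm, hC.sup_eq_top]
    · intro a ha b hb
      have : a ∈ centralizer ({b} : Set E) := mem_of_pElem_pow fun r m hr hrm => by
        haveI := Fact.mk hr
        rw [mem_centralizer_singleton_iff]
        rcases eq_or_ne r 2 with rfl | hr2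
        · have h1 : orderOf (a ^ m) ∣ Nat.card C :=
            Subgroup.orderOf_dvd_natCard C (pow_mem ha m)
          obtain ⟨k, hk⟩ := hrm
          obtain ⟨j, -, hj⟩ := (Nat.dvd_prime_pow hr).mp (orderOf_dvd_of_pow_eq_one hk)
          rcases Nat.eq_zero_or_pos j with hj0 | hj0
          · rw [hj0, pow_zero, orderOf_eq_one_iff] at hj
            rw [hj, one_mul, mul_one]
          · exact absurd ((dvd_pow_self 2 hj0.ne').trans (hj ▸ h1))
              fun hd => Nat.not_even_iff_odd.mpr hCodd (even_iff_two_dvd.mpr hd)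
        · haveI : Group.IsNilpotent (⊤ : Subgroup E) :=
            Group.nilpotent_of_mulEquiv topEquiv.symm
          exact commute_of_nilpotent hr2 (N := ⊤) inferInstance (mem_top _) (mem_top _) hrm
            (pElem_of_mem S.2 hb)
      exact mem_centralizer_singleton_iff.mp this

variable {G : Type*} [Group G] [Finite G] (hCN : Cfsg.IsCNGroup G)
include hCN

/-- A fixed-point-free complement in a CN-group is nilpotent, with cyclic or quaternion Sylow
subgroups; so it is cyclic or the product of a cyclic group of odd order and a quaternion group. -/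
theorem complement_structure {K E : Subgroup G} [K.Normal] (hc : Subgroup.IsComplement' K E)
    (hK : K ≠ ⊥) (hE : E ≠ ⊥) (hfpf : ∀ e ∈ E, e ≠ 1 → K ⊓ centralizer ({e} : Set G) = ⊥) :
    Group.IsNilpotent E ∧
      (IsCyclic E ∨ ∃ C Q : Subgroup G, C ⊔ Q = E ∧ (∀ a ∈ C, ∀ b ∈ Q, a * b = b * a) ∧ IsCyclic C ∧
        Odd (Nat.card C) ∧ ∃ n : ℕ, Nonempty (Q ≃* QuaternionGroup (2 ^ n))) := by
  obtain ⟨⟨z, hzE⟩, hzc, hz1⟩ := ((Subgroup.center E).bot_or_exists_ne_one).resolve_left
    (Frobenius.center_ne_bot hc hK hE hfpf)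
  have hnil : Group.IsNilpotent E :=
    isNilpotent_of_le (hCN z fun h => hz1 (Subtype.ext h)) fun e he =>
      mem_centralizer_singleton_iff.mpr (congrArg Subtype.val (mem_center_iff.mp hzc ⟨e, he⟩))
  haveI := hnil
  refine ⟨hnil, ?_⟩
  rcases cyclic_or_quaternion (E := E) (fun r _ P hP =>
    Frobenius.sylow_cyclic_or_quaternion hc hK hfpf P hP) with h | ⟨C, Q, hCQ, hcomm, hC, hodd, n, ⟨e⟩⟩
  · exact Or.inl h
  · refine Or.inr ⟨C.map E.subtype, Q.map E.subtype, ?_, ?_, ?_, ?_, n,
      ⟨(equivMapOfInjective Q _ E.subtype_injective).symm.trans e⟩⟩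
    · rw [← Subgroup.map_sup, hCQ, ← MonoidHom.range_eq_map, E.range_subtype]
    · rintro _ ⟨a, ha, rfl⟩ _ ⟨b, hb, rfl⟩
      exact congrArg Subtype.val (hcomm a ha b hb)
    · exact (equivMapOfInjective C _ E.subtype_injective).isCyclic.mp hC
    · rwa [Subgroup.card_map_of_injective E.subtype_injective]

/-- In a CN-group with a nontrivial normal Sylow `p`-subgroup, an element of order a power of another
prime commuting with a nontrivial element of the Fitting subgroup lies in it. -/
theorem mem_fitting_of_commute {p r : ℕ} [Fact p.Prime] [Fact r.Prime] (hrp : r ≠ p)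
    (P : Sylow p G) [(P : Subgroup G).Normal] (hP1 : (P : Subgroup G) ≠ ⊥) {e x : G}
    (he : PElem r e) (hx : x ∈ Cfsg.fittingSubgroup G) (hx1 : x ≠ 1) (hex : e * x = x * e) :
    e ∈ Cfsg.fittingSubgroup G := by
  have hPF : (P : Subgroup G) ≤ Cfsg.fittingSubgroup G :=
    Solvable.le_fittingSubgroup inferInstance P.2.isNilpotent
  have hF := Solvable.fittingSubgroup_isNilpotent G
  obtain ⟨z₀, hz₀P, hz₀1⟩ := ((P : Subgroup G).bot_or_exists_ne_one).resolve_left hP1
  -- the centraliser of `P` is contained in the Fitting subgroup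
  have hC : centralizer ((P : Subgroup G) : Set G) ≤ Cfsg.fittingSubgroup G :=
    Solvable.le_fittingSubgroup inferInstance (isNilpotent_of_le (hCN z₀ hz₀1)
      (centralizer_le (Set.singleton_subset_iff.mpr hz₀P)))
  refine hC fun y hy => (?_ : y * e = e * y)
  have hyp : PElem p y := pElem_of_mem P.2 hy
  obtain ⟨s, m, hs, hsm⟩ := exists_pow_prime_order hx1
  haveI := Fact.mk hs
  have hx'1 : x ^ m ≠ 1 := ne_one_of_orderOf_eq hs hsm
  have hex' : e * x ^ m = x ^ m * e := ((show Commute e x from hex).pow_right m).eq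
  have hxe : e ∈ centralizer ({x ^ m} : Set G) := mem_centralizer_singleton_iff.mpr hex'
  rcases eq_or_ne s p with rfl | hsp
  · have hxP : x ^ m ∈ (P : Subgroup G) := by
      obtain ⟨Q, hQ⟩ := (IsPGroup.of_card (n := 1) (G := zpowers (x ^ m))
        (by rw [Nat.card_zpowers, hsm, pow_one])).exists_le_sylow
      haveI : Subsingleton (Sylow s G) := (Sylow.unique_of_normal P inferInstance).instSubsingleton
      rw [Subsingleton.elim Q P] at hQ
      exact hQ (mem_zpowers _)
    haveI : Nontrivial (P : Subgroup G) := (nontrivial_iff_ne_bot _).mpr hP1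
    haveI := P.2.center_nontrivial
    obtain ⟨z, hz⟩ := exists_ne (1 : center (P : Subgroup G))
    have hz1 : ((z : (P : Subgroup G)) : G) ≠ 1 := fun h => hz (Subtype.ext (Subtype.ext h))
    have hzc : ∀ y ∈ (P : Subgroup G), y * ((z : (P : Subgroup G)) : G) =
        ((z : (P : Subgroup G)) : G) * y :=
      fun y hy => congrArg Subtype.val (mem_center_iff.mp z.2 ⟨y, hy⟩)
    have h1 : e * ((z : (P : Subgroup G)) : G) = ((z : (P : Subgroup G)) : G) * e :=
      commute_of_nilpotent hrp (hCN _ hx'1) hxe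
        (mem_centralizer_singleton_iff.mpr (hzc _ hxP).symm) he (pElem_of_mem P.2 (z : (P : Subgroup G)).2)
    exact commute_of_nilpotent hrp.symm (hCN _ hz1)
      (mem_centralizer_singleton_iff.mpr (hzc y hy)) (mem_centralizer_singleton_iff.mpr h1) hyp he
  · exact commute_of_nilpotent hrp.symm (hCN _ hx'1)
      (mem_centralizer_singleton_iff.mpr (commute_of_nilpotent hsp.symm hF (hPF hy) (pow_mem hx m)
        hyp (pElem_of_orderOf_eq hsm))) hxe hyp he

/-- A CN-group with a nontrivial normal Sylow subgroup has a Hall Fitting subgroup. -/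
theorem fitting_coprime_index {p : ℕ} [Fact p.Prime] (P : Sylow p G) [(P : Subgroup G).Normal]
    (hP1 : (P : Subgroup G) ≠ ⊥) :
    (Nat.card (Cfsg.fittingSubgroup G)).Coprime (Cfsg.fittingSubgroup G).index := by
  haveI := Solvable.fittingSubgroup_normal G
  have hF := Solvable.fittingSubgroup_isNilpotent G
  have hPF : (P : Subgroup G) ≤ Cfsg.fittingSubgroup G :=
    Solvable.le_fittingSubgroup inferInstance P.2.isNilpotent
  refine Nat.coprime_of_dvd fun r hr hd hi => ?_
  haveI := Fact.mk hr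
  have hrp : r ≠ p := by
    rintro rfl
    exact P.not_dvd_index' index_ne_zero_of_finite (hi.trans (index_dvd_of_le hPF))
  obtain ⟨R⟩ := (inferInstance : Nonempty (Sylow r G))
  set V := Cfsg.piCoreOf {r} (Cfsg.fittingSubgroup G) with hV
  haveI hVn : V.Normal := normalizer_eq_top_iff.mp (top_le_iff.mp
    ((normalizer_eq_top_iff.mpr inferInstance).ge.trans
      (OddOrder.normalizer_le_normalizer_piCoreOf _ _)))
  obtain ⟨w, hw, hwo⟩ := exists_prime_orderOf hr hd
  have hwV : w ∈ V := OddOrder.mem_piCoreOf_of_nilpotent hF hw fun t ht htd =>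
    (Nat.prime_dvd_prime_iff_eq ht hr).mp (hwo ▸ htd)
  have hVp := OddOrder.piCoreOf_singleton_isPGroup r (Cfsg.fittingSubgroup G)
  have hV1 : V.subgroupOf (R : Subgroup G) ≠ ⊥ := by
    rw [Ne, subgroupOf_eq_bot, disjoint_iff]
    intro h
    have hVR : V ≤ R := hVp.le_sylow_of_normal R
    rw [inf_eq_left.mpr hVR] at h
    exact ne_one_of_orderOf_eq hr hwo (mem_bot.mp (h ▸ hwV))
  haveI := R.2.isNilpotent
  have h := Transfer.inf_center_ne_bot (N := V.subgroupOf (R : Subgroup G)) hV1
  obtain ⟨⟨v, hvR⟩, ⟨hv, hvc⟩, hv1⟩ :=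
    ((V.subgroupOf (R : Subgroup G) ⊓ center (R : Subgroup G)).bot_or_exists_ne_one).resolve_left h
  have hvF : v ∈ Cfsg.fittingSubgroup G := OddOrder.piCoreOf_le _ _ hv
  have hRF : (R : Subgroup G) ≤ Cfsg.fittingSubgroup G := fun y hy =>
    mem_fitting_of_commute hCN hrp P hP1 (pElem_of_mem R.2 hy) hvF
      (fun h1 => hv1 (Subtype.ext h1)) (congrArg Subtype.val (mem_center_iff.mp hvc ⟨y, hy⟩))
  exact R.not_dvd_index' index_ne_zero_of_finite (hi.trans (index_dvd_of_le hRF))

/-- A CN-group, not nilpotent, with a nontrivial normal Sylow subgroup is a Frobenius group with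
kernel its Fitting subgroup, which equals its largest normal nilpotent Hall subgroup. -/
theorem frobenius_of_normal_sylow (hnn : ¬ Group.IsNilpotent G) {p : ℕ} [Fact p.Prime]
    (P : Sylow p G) (hP1 : (P : Subgroup G) ≠ ⊥) (hPn : (P : Subgroup G).Normal) :
    ∃ F E : Subgroup G, F.Normal ∧ Cfsg.fittingHall G = F ∧ F ≠ ⊥ ∧ F ≠ ⊤ ∧ E ≠ ⊥ ∧
      Subgroup.IsComplement' F E ∧ Cfsg.IsFrobeniusComplement E ∧
      ∀ e ∈ E, e ≠ 1 → F ⊓ centralizer ({e} : Set G) = ⊥ := by
  haveI := hPn
  haveI hFn := Solvable.fittingSubgroup_normal G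
  have hF := Solvable.fittingSubgroup_isNilpotent G
  have hPF : (P : Subgroup G) ≤ Cfsg.fittingSubgroup G :=
    Solvable.le_fittingSubgroup inferInstance P.2.isNilpotent
  have hF1 : Cfsg.fittingSubgroup G ≠ ⊥ := fun h => hP1 (le_bot_iff.mp (h ▸ hPF))
  have hFtop : Cfsg.fittingSubgroup G ≠ ⊤ := fun h => hnn (by
    rw [h] at hF
    exact Group.nilpotent_of_mulEquiv Subgroup.topEquiv)
  have hcop := fitting_coprime_index hCN P hP1
  obtain ⟨E, hE⟩ := Subgroup.exists_right_complement'_of_coprime hcop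
  have hE1 : E ≠ ⊥ := by
    rintro rfl
    exact hFtop (Subgroup.isComplement'_bot_right.mp hE)
  have hdis : ∀ y ∈ E, y ∈ Cfsg.fittingSubgroup G → y = 1 := fun y hy hyF =>
    mem_bot.mp (hE.disjoint.le_bot ⟨hyF, hy⟩)
  have hfpf : ∀ e ∈ E, e ≠ 1 → Cfsg.fittingSubgroup G ⊓ centralizer ({e} : Set G) = ⊥ := by
    intro e he he1
    rw [eq_bot_iff]
    intro x hx
    by_contra hx1
    obtain ⟨r, m, hr, hrm⟩ := exists_pow_prime_order he1
    haveI := Fact.mk hr
    refine ne_one_of_orderOf_eq hr hrm (hdis _ (pow_mem he m) ?_)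
    rcases eq_or_ne r p with rfl | hrp
    · haveI : Subsingleton (Sylow r G) := (Sylow.unique_of_normal P inferInstance).instSubsingleton
      obtain ⟨Q, hQ⟩ := (IsPGroup.of_card (n := 1) (G := zpowers (e ^ m))
        (by rw [Nat.card_zpowers, hrm, pow_one])).exists_le_sylow
      rw [Subsingleton.elim Q P] at hQ
      exact hPF (hQ (mem_zpowers _))
    · exact mem_fitting_of_commute hCN hrp P hP1 (pElem_of_orderOf_eq hrm)
        (Subgroup.mem_inf.mp hx).1 (fun h => hx1 (by rw [h]; exact one_mem _))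
        (((show Commute x e from mem_centralizer_singleton_iff.mp (Subgroup.mem_inf.mp hx).2).symm).pow_left m).eq
  have hFH : Cfsg.fittingHall G = Cfsg.fittingSubgroup G :=
    le_antisymm (sSup_le fun N hN => Solvable.le_fittingSubgroup hN.1 hN.2.1)
      (le_sSup ⟨hFn, hF, hcop⟩)
  exact ⟨_, E, hFn, hFH, hF1, hFtop, hE1, hE,
    Frobenius.isFrobeniusComplement_of_fpf hE hF1 hE1 hfpf, hfpf⟩

end CfsgLib.CN
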