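import Cfsg.Agent.Lib.CN.Lift
import Cfsg.Agent.Lib.Solvable.Core
import Cfsg.Agent.Lib.PLocal.Families
import Mathlib.GroupTheory.SpecificGroups.Cyclic

/-!
# Abelian subgroups of maximal order in solvable groups with p-centralisers
-/

set_option autoImplicit false

namespace CfsgLib.CN

open Subgroup

theorem card_sup_mul_card_inf {L : Type*} [Group L] (H K : Subgroup L) [K.Normal] :
    Nat.card (H ⊔ K : Subgroup L) * Nat.card (H ⊓ K : Subgroup L) = Nat.card H * Nat.card K := by
  have h1 := Subgroup.relIndex_mul_relIndex (⊥ : Subgroup L) K (H ⊔ K) bot_le le_sup_right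
  have h2 := Subgroup.relIndex_mul_relIndex (⊥ : Subgroup L) (K ⊓ H) H bot_le inf_le_right
  rw [relIndex_bot_left, relIndex_bot_left, relIndex_sup_right] at h1
  rw [relIndex_bot_left, relIndex_bot_left, inf_relIndex_right, inf_comm] at h2
  rw [← h1, ← h2]
  ring

/-- The arithmetic at the end of the local lemma. -/
theorem arith_contradiction {p q i j : ℕ} (hp : p.Prime) (hp2 : p ≠ 2) (hq : q.Prime) (hq2 : q ≠ 2)
    (hj : 1 ≤ j) (hi : 1 ≤ i) (hij : i ≤ 2 * j) (hdvd : p ^ j ∣ q - 1) (hq' : q ∣ p ^ i - 1) :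
    False := by
  obtain ⟨m, hm⟩ := hdvd
  obtain ⟨c, hc⟩ := hq'
  have hpi : 1 < p ^ i := Nat.one_lt_pow (by omega) hp.one_lt
  have hpj : 1 < p ^ j := Nat.one_lt_pow (by omega) hp.one_lt
  have hq1 : q = p ^ j * m + 1 := by have := hq.two_le; omega
  have hm2 : 2 ≤ m := by
    rcases Nat.lt_or_ge m 2 with h | h
    · exfalso
      interval_cases m
      · simp at hq1; exact hq.ne_one hq1
      · have h1 : Odd (p ^ j) := (hp.odd_of_ne_two hp2).pow
        have h2 : Odd q := hq.odd_of_ne_two hq2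
        rw [hq1, mul_one, Nat.odd_add_one] at h2
        exact h2 h1
    · exact h
  have hc1 : 1 ≤ c := by
    rcases Nat.eq_zero_or_pos c with h | h
    · rw [h, mul_zero] at hc; omega
    · exact h
  have hqle : q ≤ p ^ i - 1 := hc ▸ Nat.le_mul_of_pos_right q hc1
  have hji : j < i := by
    by_contra h
    have := Nat.pow_le_pow_right hp.pos (not_lt.mp h)
    have : p ^ j * 2 ≤ p ^ j * m := Nat.mul_le_mul_left _ hm2
    omega
  obtain ⟨e, rfl⟩ : ∃ e, i = j + e := ⟨i - j, by omega⟩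
  have hle : p ^ e ≤ p ^ j := Nat.pow_le_pow_right hp.pos (by omega)
  have heq : c * q + 1 = p ^ j * p ^ e := by rw [← pow_add, mul_comm]; omega
  have hdc : p ^ j ∣ c + 1 := by
    have h1 : p ^ j ∣ c * q + 1 := ⟨_, heq⟩
    rw [hq1, show c * (p ^ j * m + 1) + 1 = p ^ j * (c * m) + (c + 1) by ring] at h1
    exact (Nat.dvd_add_right (dvd_mul_right _ _)).mp h1
  have hcge : p ^ j ≤ c + 1 := Nat.le_of_dvd (by omega) hdc
  have h3 : (p ^ j - 1) * (p ^ j * 2 + 1) ≤ c * q := by
    rw [hq1]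
    exact Nat.mul_le_mul (by omega) (Nat.add_le_add_right (Nat.mul_le_mul_left _ hm2) 1)
  have h4 : c * q + 1 ≤ p ^ j * p ^ j := heq.trans_le (Nat.mul_le_mul_left _ hle)
  obtain ⟨d, hd⟩ : ∃ d, p ^ j = d + 2 := ⟨p ^ j - 2, by omega⟩
  rw [hd, show d + 2 - 1 = d + 1 by omega] at h3
  rw [hd] at h4
  nlinarith

variable {L : Type*} [Group L] [Finite L] {p : ℕ}

/-- Thompson's argument: abelian subgroups of largest order lie in `O_p(L)`. -/
theorem le_pCore_of_isMaxAb [hp : Fact p.Prime] [Group.IsSolvable L] (hp2 : p ≠ 2)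
    (hodd : Odd (Nat.card L))
    (hc : ∀ v y : L, v ≠ 1 → PElem p v → y * v = v * y → PElem p y)
    (hR : Cfsg.pCore p L ≠ ⊥) {S : Subgroup L} (hS : IsPGroup p S) (hRS : Cfsg.pCore p L ≤ S)
    {A : Subgroup L} (hA : PLoc.IsMaxAb 0 S A) : A ≤ Cfsg.pCore p L := by
  by_contra hAR
  set R := Cfsg.pCore p L with hRdef
  haveI hRn : R.Normal := Solvable.pCore_normal p L
  have hRp : IsPGroup p R := Solvable.pCore_isPGroup p L
  have hAp : IsPGroup p A := hS.to_le hA.le
  haveI hAc := hA.comm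
  haveI : Nontrivial (L ⧸ R) := by
    rw [← not_subsingleton_iff_nontrivial]
    intro h
    exact hAR ((QuotientGroup.subsingleton_iff.mp h).symm ▸ le_top)
  obtain ⟨N, hNn, hN1, -, hNmin⟩ := Solvable.exists_minimal_normal_le (⊤ : Subgroup (L ⧸ R)) top_ne_bot
  haveI := hNn
  obtain ⟨hNc, q, hq, hNq⟩ := Solvable.minimal_normal_elementary_abelian N hN1 hNmin
  haveI := Fact.mk hq
  have hNqp : IsPGroup q N := fun x => ⟨1, Subtype.ext (by rw [pow_one]; exact hNq x x.2)⟩
  have hqp : q ≠ p := by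
    rintro rfl
    exact hN1 (eq_bot_iff.mpr
      ((Solvable.le_pCore hNn hNqp).trans (Solvable.pCore_quotient_eq_bot R rfl).le))
  have hq2 : q ≠ 2 := by
    rintro rfl
    obtain ⟨k, hk⟩ := hNqp.exists_card_eq
    have h2 : 2 ∣ Nat.card L := (dvd_pow_self 2 fun h0 => hN1 (by
        rw [← Subgroup.card_eq_one, hk, h0, pow_zero])).trans
      (hk.symm ▸ (Subgroup.card_subgroup_dvd_card N).trans R.card_quotient_dvd_card)
    exact (Nat.not_even_iff_odd.mpr hodd) (even_iff_two_dvd.mpr h2)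
  -- no element of `N` but `1` fixes a nonidentity element of `R`
  have hfpf : ∀ t v : L, QuotientGroup.mk' R t ∈ N → v ∈ R → v ≠ 1 → t * v = v * t →
      QuotientGroup.mk' R t = 1 := by
    intro t v ht hv hv1 h
    obtain ⟨k, hk⟩ := hc v t hv1 (pElem_of_mem hRp hv) h
    exact PElem.eq_one (p := p) (q := q) hqp.symm ⟨k, by rw [← map_pow, hk, map_one]⟩
      (pElem_of_mem hNqp ht)
  set V : Subgroup L := (center R).map R.subtype with hV
  haveI : V.Normal := inferInstance
  have hVR : V ≤ R := map_subtype_le _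
  have hVc : ∀ v ∈ V, ∀ r ∈ R, r * v = v * r := by
    rintro _ ⟨v, hv, rfl⟩ r hr
    exact congrArg Subtype.val (mem_center_iff.mp hv ⟨r, hr⟩)
  have hV1 : V ≠ ⊥ := by
    haveI : Nontrivial R := (nontrivial_iff_ne_bot R).mpr hR
    haveI := hRp.center_nontrivial
    intro h
    exact (nontrivial_iff_ne_bot (center R)).mp ‹_›
      ((Subgroup.map_eq_bot_iff_of_injective _ R.subtype_injective).mp h)
  letI : CommGroup V :=
    { (inferInstance : Group V) with
      mul_comm := fun a b => Subtype.ext (hVc b b.2 a (hVR a.2)) }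
  haveI : Nontrivial V := (nontrivial_iff_ne_bot V).mpr hV1
  let α : (L ⧸ R) →* MulAut V := QuotientGroup.lift R MulAut.conjNormal (fun r hr => by
    refine MonoidHom.mem_ker.mpr (MulEquiv.ext fun v => Subtype.ext ?_)
    rw [MulAut.conjNormal_apply, hVc v v.2 r hr]
    simp)
  have hαfix : ∀ n ∈ N, ∀ v : V, v ≠ 1 → α n v = v → n = 1 := by
    intro n hn v hv h
    obtain ⟨t, rfl⟩ := QuotientGroup.mk'_surjective R n
    exact hfpf t v hn (hVR v.2) (fun h' => hv (Subtype.ext h'))
      (mul_inv_eq_iff_eq_mul.mp (congrArg Subtype.val h))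
  have hVq : ¬ q ∣ Nat.card V := by
    intro hd
    obtain ⟨k, hk⟩ := (hRp.to_le hVR).exists_card_eq
    rw [hk] at hd
    exact hqp ((Nat.prime_dvd_prime_iff_eq hq hp.out).mp (hq.dvd_of_dvd_pow hd))
  haveI hNcyc : IsCyclic N := isCyclic_of_fpf_action hq2 hNqp hVq (α.comp N.subtype)
    (fun n v hv h => Subtype.ext (hαfix n n.2 v hv h))
  obtain ⟨g, hg⟩ := hNcyc.exists_generator
  have hg1 : (g : L ⧸ R) ≠ 1 := by
    intro h
    refine hN1 (eq_bot_iff.mpr fun x hx => ?_)
    obtain ⟨k, hk⟩ := Subgroup.mem_zpowers_iff.mp (hg ⟨x, hx⟩)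
    rw [mem_bot, ← show ((g ^ k : N) : L ⧸ R) = x from congrArg Subtype.val hk,
      Subgroup.coe_zpow, h, one_zpow]
  have hcardN : Nat.card N = q := by
    rw [← orderOf_eq_card_of_forall_mem_zpowers hg, ← Subgroup.orderOf_coe]
    exact orderOf_eq_prime (hNq g g.2) hg1
  set Ab := A.map (QuotientGroup.mk' R) with hAb
  have hAbp : IsPGroup p Ab := hAp.map _
  -- `Ab` acts faithfully on `N`
  have hfaith : ∀ a ∈ A, QuotientGroup.mk' R a * g = g * QuotientGroup.mk' R a →
      QuotientGroup.mk' R a = 1 := by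
    intro a ha hcomm
    by_contra ha1
    obtain ⟨y₀, hy₀⟩ := QuotientGroup.mk'_surjective R (g : L ⧸ R)
    obtain ⟨k, hk, hk1⟩ := exists_pow_pElem (QuotientGroup.mk' R) (y := y₀) (r := q)
      (hy₀ ▸ hg1) (hy₀ ▸ pElem_of_mem hNqp g.2)
    have hcop : (orderOf (y₀ ^ k)).Coprime (Nat.card R) := Nat.coprime_of_dvd fun t ht h1 h2 => by
      obtain ⟨l, hl⟩ := hRp.exists_card_eq
      rw [hk.orderOf_dvd ht h1, hl] at h2
      exact hqp ((Nat.prime_dvd_prime_iff_eq hq hp.out).mp (hq.dvd_of_dvd_pow h2))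
    obtain ⟨c, hcR, hcx⟩ := exists_commute_lift R (x := a) hcop (by
      rw [map_pow, hy₀]
      exact (show Commute (QuotientGroup.mk' R a) (g : L ⧸ R) from hcomm).pow_right k)
    have himg : QuotientGroup.mk' R (c * a) = QuotientGroup.mk' R a := by
      rw [map_mul, show QuotientGroup.mk' R c = 1 from (QuotientGroup.eq_one_iff c).mpr hcR, one_mul]
    have hcap : PElem p (c * a) := by
      obtain ⟨i, hi⟩ := pElem_of_mem hAp ha
      obtain ⟨l, hl⟩ := hRp ⟨(c * a) ^ p ^ i, by
        rw [← QuotientGroup.eq_one_iff]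
        show QuotientGroup.mk' R ((c * a) ^ p ^ i) = 1
        rw [map_pow, himg, ← map_pow, hi, map_one]⟩
      exact ⟨i + l, by rw [pow_add, pow_mul]; exact congrArg Subtype.val hl⟩
    have hy := hc _ _ (fun h => ha1 (by rw [← himg, h, map_one])) hcap hcx.symm
    exact hk1 (by rw [PElem.eq_one (p := p) (q := q) hqp.symm hy hk, map_one])
  obtain ⟨j, hj⟩ := hAbp.exists_card_eq
  have hjq : p ^ j ∣ q - 1 := by
    let β : Ab →* MulAut N := MulAut.conjNormal.comp Ab.subtype
    have hβ : Function.Injective β := by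
      rw [injective_iff_map_eq_one]
      rintro ⟨_, a, ha, rfl⟩ h
      refine Subtype.ext (hfaith a ha ?_)
      have := congrArg Subtype.val (MulEquiv.congr_fun h g)
      simp only [β, MonoidHom.coe_comp, Function.comp_apply, Subgroup.coe_subtype,
        MulAut.conjNormal_apply, MulAut.one_apply] at this
      exact mul_inv_eq_iff_eq_mul.mp this
    have := Subgroup.card_dvd_of_injective β hβ
    rwa [IsCyclic.card_mulAut, hcardN, Nat.totient_prime hq, hj] at this
  have hj1 : 1 ≤ j := by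
    by_contra h
    have hbot : Ab = ⊥ := by
      rw [← Subgroup.card_eq_one, hj, show j = 0 by omega, pow_zero]
    refine hAR fun a ha => ?_
    exact (QuotientGroup.eq_one_iff a).mp (mem_bot.mp (hbot ▸ mem_map_of_mem _ ha))
  obtain ⟨i, hi⟩ := (hRp.to_le hVR).exists_card_eq
  have hi1 : 1 ≤ i := by
    by_contra h
    exact hV1 (by rw [← Subgroup.card_eq_one, hi, show i = 0 by omega, pow_zero])
  -- `|V : V ∩ A| ≤ |Ab|`
  have hstep : Nat.card V ≤ p ^ j * Nat.card (A ⊓ V : Subgroup L) := by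
    have hsupc : IsMulCommutative ((A ⊓ R) ⊔ V : Subgroup L) := by
      rw [Subgroup.sup_eq_closure]
      refine Subgroup.isMulCommutative_closure ?_
      rintro u (hu | hu) v (hv | hv)
      · exact setLike_mul_comm (S := Subgroup L) (s := A) hu.1 hv.1
      · exact hVc v hv u hu.2
      · exact (hVc u hu v hv.2).symm
      · exact hVc v hv u (hVR hu)
    have hle := hA.max ((A ⊓ R) ⊔ V) (sup_le (inf_le_left.trans hA.le) (hVR.trans hRS)) hsupc
      (fun a _ => pow_zero a)
    have hprod := card_sup_mul_card_inf (A ⊓ R) V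
    rw [inf_assoc, inf_eq_right.mpr hVR] at hprod
    have hAcard : Nat.card A = Nat.card (A ⊓ R : Subgroup L) * p ^ j := by
      have h2 := Subgroup.relIndex_mul_relIndex (⊥ : Subgroup L) (R ⊓ A) A bot_le inf_le_right
      rw [relIndex_bot_left, relIndex_bot_left, inf_relIndex_right] at h2
      have h3 : R.relIndex A = p ^ j := by
        rw [← hj, hAb, ← relIndex_ker, QuotientGroup.ker_mk']
      rw [← h2, h3, inf_comm]
    rw [hAcard] at hle
    have hpos : 0 < Nat.card (A ⊓ R : Subgroup L) := Nat.card_pos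
    refine Nat.le_of_mul_le_mul_left ?_ hpos
    calc _ = Nat.card ((A ⊓ R) ⊔ V : Subgroup L) * Nat.card (A ⊓ V : Subgroup L) := hprod.symm
      _ ≤ _ := by rw [← mul_assoc]; exact Nat.mul_le_mul_right _ hle
  -- conjugating by a lift of a generator of `N`
  obtain ⟨y, hy⟩ := QuotientGroup.mk'_surjective R (g : L ⧸ R)
  have hdis : (A ⊓ V) ⊓ (A ⊓ V).map (MulAut.conj y).toMonoidHom = ⊥ := by
    rw [Subgroup.eq_bot_iff_forall]
    rintro u ⟨⟨huA, huV⟩, w, ⟨hwA, -⟩, hw⟩
    by_contra hu1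
    obtain ⟨a, ha, haR⟩ := SetLike.not_le_iff_exists.mp hAR
    have hw' : y * w * y⁻¹ = u := hw
    have h1 : Commute a u := setLike_mul_comm (S := Subgroup L) (s := A) ha huA
    have h2 : Commute (y * a⁻¹ * y⁻¹) u := by
      have h3 : Commute a⁻¹ w := setLike_mul_comm (S := Subgroup L) (s := A) (inv_mem ha) hwA
      have := congrArg (MulAut.conj y) h3.eq
      rw [map_mul, map_mul] at this
      simpa [MulAut.conj_apply, hw', Commute, SemiconjBy] using this
    have ha1 : QuotientGroup.mk' R a ≠ 1 := fun h => haR ((QuotientGroup.eq_one_iff a).mp h)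
    have himg : QuotientGroup.mk' R (a * (y * a⁻¹ * y⁻¹)) =
        QuotientGroup.mk' R a * g * (QuotientGroup.mk' R a)⁻¹ * (g : L ⧸ R)⁻¹ := by
      simp only [map_mul, map_inv, hy]
      group
    have hmem : QuotientGroup.mk' R (a * (y * a⁻¹ * y⁻¹)) ∈ N := by
      rw [himg]
      exact mul_mem (hNn.conj_mem _ g.2 _) (inv_mem g.2)
    have := hfpf _ u hmem (hVR huV) hu1 (h1.mul_left h2).eq
    rw [himg, mul_inv_eq_one] at this
    exact ha1 (hfaith a ha (mul_inv_eq_iff_eq_mul.mp this))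
  have hsq : Nat.card (A ⊓ V : Subgroup L) * Nat.card (A ⊓ V : Subgroup L) ≤ Nat.card V := by
    have hUV : (A ⊓ V).map (MulAut.conj y).toMonoidHom ≤ V := by
      rintro _ ⟨w, ⟨-, hwV⟩, rfl⟩
      exact (inferInstance : V.Normal).conj_mem w hwV y
    have hinj : Function.Injective
        (fun z : (A ⊓ V : Subgroup L) × ((A ⊓ V).map (MulAut.conj y).toMonoidHom : Subgroup L) =>
          (⟨(z.1 : L) * z.2, mul_mem z.1.2.2 (hUV z.2.2)⟩ : V)) := fun z w h =>
      Subgroup.mul_injective_of_disjoint (disjoint_iff.mpr hdis)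
        (congrArg Subtype.val h)
    have := Nat.card_le_card_of_injective _ hinj
    rwa [Nat.card_prod, Subgroup.card_map_of_injective (MulAut.conj y).injective] at this
  have hij : i ≤ 2 * j := by
    rw [hi] at hstep hsq
    have h1 : p ^ i * p ^ i ≤ p ^ (2 * j) * p ^ i := by
      calc p ^ i * p ^ i
          ≤ (p ^ j * Nat.card (A ⊓ V : Subgroup L)) * (p ^ j * Nat.card (A ⊓ V : Subgroup L)) :=
            Nat.mul_le_mul hstep hstep
        _ = p ^ (2 * j) * (Nat.card (A ⊓ V : Subgroup L) * Nat.card (A ⊓ V : Subgroup L)) := by ring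
        _ ≤ _ := Nat.mul_le_mul_left _ hsq
    exact (Nat.pow_le_pow_iff_right hp.out.one_lt).mp
      (Nat.le_of_mul_le_mul_right h1 (Nat.pow_pos hp.out.pos))
  -- `q` divides `|V| - 1`
  have hqi : q ∣ p ^ i - 1 := by
    letI : MulAction N V := MulAction.compHom V (α.comp N.subtype)
    have hfix : MulAction.fixedPoints N V = {1} := by
      ext v
      constructor
      · intro hv
        by_contra hv1
        exact hg1 (hαfix g g.2 v hv1 (hv g))
      · rintro rfl n
        exact map_one (α n)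
    have h := hNqp.card_modEq_card_fixedPoints V
    rw [hfix, Nat.card_coe_set_eq, Set.ncard_singleton, hi] at h
    exact (Nat.modEq_iff_dvd' (Nat.one_le_pow _ _ hp.out.pos)).mp h.symm
  exact arith_contradiction hp.out hp2 hq hq2 hj1 hi1 hij hjq hqi

end CfsgLib.CN
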