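import Cfsg.Agent.Lib.CN.Nilpotent
import Cfsg.Agent.Lib.Transfer.Focal

/-!
# Nilpotent subgroups containing the centralisers of their nonidentity elements
-/

set_option autoImplicit false

namespace CfsgLib.CN

open Subgroup
open scoped Pointwise

variable {G : Type*} [Group G]

/-- `H` is nilpotent, nontrivial and contains the centraliser of each nonidentity element. -/
structure NilCent (H : Subgroup G) : Prop where
  nilpotent : Group.IsNilpotent H
  ne_bot : H ≠ ⊥
  centralizer_le : ∀ x ∈ H, x ≠ 1 → centralizer ({x} : Set G) ≤ H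

namespace NilCent

variable {H : Subgroup G}

theorem exists_ne_one (hH : NilCent H) : ∃ a ∈ H, a ≠ (1 : G) := by
  by_contra h
  push Not at h
  exact hH.ne_bot (eq_bot_iff.mpr fun a ha => mem_bot.mpr (h a ha))

theorem mem_of_commute (hH : NilCent H) {a g : G} (ha : a ∈ H) (ha1 : a ≠ 1)
    (h : g * a = a * g) : g ∈ H :=
  hH.centralizer_le a ha ha1 (mem_centralizer_singleton_iff.mpr h)

theorem map_conj (hH : NilCent H) (g : G) : NilCent (H.map (MulAut.conj g).toMonoidHom) := by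
  refine ⟨?_, ?_, ?_⟩
  · haveI := hH.nilpotent
    exact Group.nilpotent_of_mulEquiv (equivMapOfInjective H _ (MulAut.conj g).injective)
  · rw [Ne, map_eq_bot_iff_of_injective _ (MulAut.conj g).injective]
    exact hH.ne_bot
  · rintro _ ⟨x, hx, rfl⟩ h1 y hy
    have hx1 : x ≠ 1 := fun h => h1 (by rw [h, map_one])
    have hy' : y * (g * x * g⁻¹) = g * x * g⁻¹ * y := mem_centralizer_singleton_iff.mp hy
    refine ⟨g⁻¹ * y * g, hH.mem_of_commute hx hx1 ?_, by simp [mul_assoc]⟩
    have := congrArg (fun z => g⁻¹ * z * g) hy'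
    simpa [mul_assoc] using this

variable [Finite G]

theorem exists_central (hH : NilCent H) :
    ∃ u ∈ H, u ≠ 1 ∧ ∀ h ∈ H, h * u = u * h := by
  have hne : Nat.card H ≠ 1 := fun h => hH.ne_bot (Subgroup.card_eq_one.mp h)
  obtain ⟨s, hs, hsd⟩ := Nat.exists_prime_and_dvd hne
  haveI := Fact.mk hs
  obtain ⟨u, ⟨huH, huc⟩, hu⟩ := OddOrder.exists_center_orderOf_eq hH.nilpotent hsd
  exact ⟨u, huH, ne_one_of_orderOf_eq hs hu, fun h hh => huc h hh⟩

/-- Two such subgroups with a common nonidentity element are equal. -/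
theorem eq_of_mem_mem {K : Subgroup G} (hH : NilCent H) (hK : NilCent K) {x : G} (hx : x ∈ H)
    (hxK : x ∈ K) (hx1 : x ≠ 1) : H = K := by
  obtain ⟨u, hu, hu1, huc⟩ := hH.exists_central
  obtain ⟨v, hv, hv1, hvc⟩ := hK.exists_central
  have huK : u ∈ K := hK.mem_of_commute hxK hx1 (huc x hx).symm
  have hvH : v ∈ H := hH.mem_of_commute hx hx1 (hvc x hxK).symm
  exact le_antisymm (fun h hh => hK.mem_of_commute huK hu1 (huc h hh))
    (fun k hk => hH.mem_of_commute hvH hv1 (hvc k hk))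

theorem mem_normalizer_of_conj_mem (hH : NilCent H) {g x : G} (hx : x ∈ H) (hx1 : x ≠ 1)
    (hgx : g * x * g⁻¹ ∈ H) : g ∈ normalizer (H : Set G) := by
  have he : H.map (MulAut.conj g).toMonoidHom = H :=
    (hH.map_conj g).eq_of_mem_mem hH ⟨x, hx, rfl⟩ hgx (fun h => hx1 (conj_eq_one_iff.mp h))
  rw [mem_normalizer_iff]
  intro a
  conv_rhs => rw [← he]
  simp only [mem_map, MulEquiv.coe_toMonoidHom, MulAut.conj_apply]
  constructor
  · exact fun ha => ⟨a, ha, rfl⟩
  · rintro ⟨b, hb, hba⟩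
    rwa [← mul_left_cancel (mul_right_cancel hba)]

/-- Such a subgroup contains a Sylow subgroup for each prime dividing its order. -/
theorem exists_sylow_le (hH : NilCent H) {p : ℕ} [hp : Fact p.Prime] (hd : p ∣ Nat.card H) :
    ∃ P : Sylow p G, (P : Subgroup G) ≤ H ∧ (P : Subgroup G) ≠ ⊥ := by
  obtain ⟨z, hz, hzo⟩ := exists_prime_orderOf hp.out hd
  have hz1 := ne_one_of_orderOf_eq hp.out hzo
  obtain ⟨P, hP⟩ := (IsPGroup.of_card (n := 1) (G := zpowers z)
    (by rw [Nat.card_zpowers, hzo, pow_one])).exists_le_sylow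
  have hP1 : (P : Subgroup G) ≠ ⊥ := fun h => hz1 (mem_bot.mp (h ▸ hP (mem_zpowers z)))
  haveI : Nontrivial (P : Subgroup G) := (nontrivial_iff_ne_bot _).mpr hP1
  haveI := P.2.center_nontrivial
  obtain ⟨c, hc⟩ := exists_ne (1 : center (P : Subgroup G))
  have hcc : ∀ y ∈ (P : Subgroup G), y * ((c : (P : Subgroup G)) : G) = (c : (P : Subgroup G)) * y :=
    fun y hy => congrArg Subtype.val (mem_center_iff.mp c.2 ⟨y, hy⟩)
  have hcH : ((c : (P : Subgroup G)) : G) ∈ H :=
    hH.mem_of_commute hz hz1 (hcc z (hP (mem_zpowers z))).symm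
  exact ⟨P, fun y hy => hH.mem_of_commute hcH (fun h => hc (Subtype.ext (Subtype.ext h))) (hcc y hy),
    hP1⟩

theorem coprime (hH : NilCent H) : (Nat.card H).Coprime H.index := by
  refine Nat.coprime_of_dvd fun p hp hpd hpi => ?_
  haveI := Fact.mk hp
  obtain ⟨P, hP, -⟩ := hH.exists_sylow_le hpd
  exact P.not_dvd_index' Subgroup.index_ne_zero_of_finite
    (hpi.trans (Subgroup.index_dvd_of_le hP))

/-- Non-conjugate such subgroups have coprime orders. -/
theorem exists_conj_eq (hH : NilCent H) {K : Subgroup G} (hK : NilCent K)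
    (h : ¬ (Nat.card H).Coprime (Nat.card K)) :
    ∃ g : G, H.map (MulAut.conj g).toMonoidHom = K := by
  obtain ⟨p, hp, hpH, hpK⟩ := Nat.Prime.not_coprime_iff_dvd.mp h
  haveI := Fact.mk hp
  obtain ⟨P, hP, hP1⟩ := hH.exists_sylow_le hpH
  obtain ⟨Q, hQ, -⟩ := hK.exists_sylow_le hpK
  obtain ⟨g, hg⟩ := MulAction.exists_smul_eq G P Q
  rw [Subgroup.ne_bot_iff_exists_ne_one] at hP1
  obtain ⟨x, hx⟩ := hP1
  refine ⟨g, (hH.map_conj g).eq_of_mem_mem hK (mem_map_of_mem _ (hP x.2)) (hQ ?_) ?_⟩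
  · rw [← hg]
    exact ⟨x, x.2, rfl⟩
  · exact fun h => hx (Subtype.ext (conj_eq_one_iff.mp h))

/-- In a perfect group such a subgroup is not its own normaliser. -/
theorem exists_normalizer_notMem (hH : NilCent H) (hperf : commutator G = ⊤) :
    ∃ x ∈ normalizer (H : Set G), x ∉ H := by
  by_contra hcon
  push Not at hcon
  have hfoc : H ≤ ⁅H, H⁆ := by
    refine le_trans (le_of_eq ?_) (Transfer.focalSubgroup_le_of_controls fun x hx g hg => ?_)
    · rw [← Transfer.commutator_inf_eq_focal_of_coprime (Transfer.coprime_card_quotient_focal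
        (Transfer.coprime_index_relIndex_of_coprime_card hH.coprime)), hperf, top_inf_eq]
    · by_cases hx1 : x = 1
      · exact ⟨1, one_mem _, by simp [hx1]⟩
      · exact ⟨g, hcon g (hH.mem_normalizer_of_conj_mem hx hx1 hg), rfl⟩
  haveI := hH.nilpotent
  haveI : Nontrivial H := (nontrivial_iff_ne_bot H).mpr hH.ne_bot
  refine (Group.IsSolvable.commutator_lt_top_of_nontrivial H).ne ?_
  rw [← map_subtype_commutator] at hfoc
  refine eq_top_iff.mpr fun a _ => ?_
  obtain ⟨b, hb, hba⟩ := hfoc a.2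
  rwa [← Subtype.ext hba]

end NilCent

end CfsgLib.CN
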