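import Cfsg.Agent.Lib.CN.FrobeniusKernel
import Cfsg.Agent.Lib.OddOrder.CNQuotient

/-!
# Solvable CN-groups
-/

set_option autoImplicit false
set_option linter.style.haveILetI false

namespace CfsgLib.CN

open Subgroup

variable {G : Type*} [Group G] [Finite G] (hCN : Cfsg.IsCNGroup G)
include hCN

/-- If two primes divide the order of the Fitting subgroup, it contains the elements of order a power
of either of them. -/
theorem mem_fitting_of_two_primes {p q : ℕ} [Fact p.Prime] [Fact q.Prime] (hpq : p ≠ q)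
    (hp : p ∣ Nat.card (Cfsg.fittingSubgroup G)) (hq : q ∣ Nat.card (Cfsg.fittingSubgroup G))
    {y : G} (hy : PElem p y) : y ∈ Cfsg.fittingSubgroup G := by
  have hF := Solvable.fittingSubgroup_isNilpotent G
  obtain ⟨V, hVn, hVp, hVc, hV1, hcV⟩ := exists_normal_abelian hCN hp
  obtain ⟨W, hWn, hWq, hWc, hW1, hcW⟩ := exists_normal_abelian hCN hq
  haveI := hVn
  haveI := hWn
  have hVF : V ≤ Cfsg.fittingSubgroup G := Solvable.le_fittingSubgroup hVn hVp.isNilpotent
  have hWF : W ≤ Cfsg.fittingSubgroup G := Solvable.le_fittingSubgroup hWn hWq.isNilpotent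
  obtain ⟨v, hv, hv1, hfix⟩ := exists_fixed hVp hV1 hy (le_normalizer_of_normal (mem_top y))
  rw [← hcW]
  intro w hw
  exact commute_of_nilpotent hpq.symm (hCN v hv1)
    (mem_centralizer_singleton_iff.mpr (commute_of_nilpotent hpq.symm hF (hWF hw) (hVF hv)
      (pElem_of_mem hWq hw) (pElem_of_mem hVp hv)))
    (mem_centralizer_singleton_iff.mpr hfix) (pElem_of_mem hWq hw) hy

/-- If two primes divide the order of the Fitting subgroup, their Sylow subgroups are normal. -/
theorem exists_normal_sylow {p q : ℕ} [Fact p.Prime] [Fact q.Prime] (hpq : p ≠ q)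
    (hp : p ∣ Nat.card (Cfsg.fittingSubgroup G)) (hq : q ∣ Nat.card (Cfsg.fittingSubgroup G)) :
    ∃ P : Sylow p G, (P : Subgroup G) ≠ ⊥ ∧ (P : Subgroup G).Normal := by
  have hF := Solvable.fittingSubgroup_isNilpotent G
  haveI := Solvable.fittingSubgroup_normal G
  set V := Cfsg.piCoreOf {p} (Cfsg.fittingSubgroup G) with hV
  haveI hVn : V.Normal := normalizer_eq_top_iff.mp (top_le_iff.mp
    ((normalizer_eq_top_iff.mpr inferInstance).ge.trans
      (OddOrder.normalizer_le_normalizer_piCoreOf _ _)))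
  have hmem : ∀ y : G, PElem p y → y ∈ V := fun y hy =>
    OddOrder.mem_piCoreOf_of_nilpotent hF (mem_fitting_of_two_primes hCN hpq hp hq hy)
      fun s hs hd => hy.orderOf_dvd hs hd
  obtain ⟨P⟩ := (inferInstance : Nonempty (Sylow p G))
  have hPV : (P : Subgroup G) = V := le_antisymm (fun y hy => hmem y (pElem_of_mem P.2 hy))
    ((OddOrder.piCoreOf_singleton_isPGroup p _).le_sylow_of_normal P)
  refine ⟨P, P.ne_bot_of_dvd_card (hp.trans (Subgroup.card_subgroup_dvd_card _)), ?_⟩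
  rw [hPV]
  exact hVn

variable [Group.IsSolvable G]

/-- A solvable CN-group whose Fitting subgroup is a `p`-group, without nontrivial normal Sylow
subgroup, is a three-step group. -/
theorem isThreeStep {p : ℕ} [hp : Fact p.Prime] (hp1 : p ∣ Nat.card (Cfsg.fittingSubgroup G))
    (hFp : IsPGroup p (Cfsg.fittingSubgroup G))
    (hno : ∀ P : Sylow p G, (P : Subgroup G).Normal → (P : Subgroup G) = ⊥) :
    Cfsg.IsThreeStepGroup p G := by
  haveI hFn := Solvable.fittingSubgroup_normal G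
  set F := Cfsg.fittingSubgroup G with hFdef
  have hF1 : F ≠ ⊥ := fun h => by
    rw [h, Subgroup.card_bot, Nat.dvd_one] at hp1
    exact hp.out.ne_one hp1
  obtain ⟨nF, hnF⟩ := hFp.exists_card_eq
  have hcopF : ∀ {r : ℕ}, r.Prime → r ≠ p → ∀ {y : G}, PElem r y →
      (orderOf y).Coprime (Nat.card F) := by
    intro r hr hrp y hy
    obtain ⟨k, hk⟩ := hy
    rw [hnF]
    exact (Nat.Coprime.pow k nF ((Nat.coprime_primes hr hp.out).mpr hrp)).coprime_dvd_left
      (orderOf_dvd_of_pow_eq_one hk)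
  obtain ⟨V, hVn, hVp, -, hV1, hcV⟩ := exists_normal_abelian hCN hp1
  haveI := hVn
  have hVF : V ≤ F := Solvable.le_fittingSubgroup hVn hVp.isNilpotent
  -- `p'`-elements act without fixed points on the Fitting subgroup
  have hC : ∀ (r : ℕ), r.Prime → r ≠ p → ∀ y : G, PElem r y → ∀ x ∈ F, x ≠ 1 → y * x = x * y →
      y = 1 := by
    intro r hr hrp y hy x hx hx1 hyx
    haveI := Fact.mk hr
    obtain ⟨z, ⟨hzF, hzc⟩, hzo⟩ :=
      OddOrder.exists_center_orderOf_eq (Solvable.fittingSubgroup_isNilpotent G) hp1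
    have hz1 := ne_one_of_orderOf_eq hp.out hzo
    have h1 : y * z = z * y := commute_of_nilpotent hrp (hCN x hx1)
      (mem_centralizer_singleton_iff.mpr hyx)
      (mem_centralizer_singleton_iff.mpr (hzc x hx).symm) hy (pElem_of_orderOf_eq hzo)
    have hyF : y ∈ F := by
      rw [show F = centralizer (V : Set G) from hcV.symm]
      intro v hv
      exact commute_of_nilpotent hrp.symm (hCN z hz1)
        (mem_centralizer_singleton_iff.mpr (hzc v (hVF hv)))
        (mem_centralizer_singleton_iff.mpr h1) (pElem_of_mem hVp hv) hy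
    exact PElem.eq_one hrp hy (pElem_of_mem hFp hyF)
  have hpq : ∀ (r : ℕ), r.Prime → r ≠ p → ∀ y x : G, PElem r y → PElem p x → x ≠ 1 →
      y * x = x * y → y = 1 := by
    intro r hr hrp y x hy hx hx1 hyx
    haveI := Fact.mk hr
    obtain ⟨v, hv, hv1, hfix⟩ := exists_fixed hFp hF1 hx (le_normalizer_of_normal (mem_top x))
    exact hC r hr hrp y hy v hv hv1 (commute_of_nilpotent hrp (hCN x hx1)
      (mem_centralizer_singleton_iff.mpr hyx) (mem_centralizer_singleton_iff.mpr hfix.symm)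
      hy (pElem_of_mem hFp hv))
  have hCF : ∀ x ∈ F, x ≠ 1 → ∀ y : G, y * x = x * y → y ∉ F →
      ∀ (r m : ℕ), r.Prime → r ≠ p → orderOf (y ^ m) = r → False := by
    intro x hx hx1 y hyx _ r m hr hrp hrm
    exact ne_one_of_orderOf_eq hr hrm (hC r hr hrp _ (pElem_of_orderOf_eq hrm) x hx hx1
      ((show Commute y x from hyx).pow_left m).eq)
  -- `p` divides the index of the Fitting subgroup
  have hpi : p ∣ F.index := by
    by_contra h
    exact hF1 (by simpa using hno (hFp.toSylow h) (by simpa using hFn))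
  -- the quotient
  set f := QuotientGroup.mk' F with hf
  have hfs : Function.Surjective f := QuotientGroup.mk'_surjective F
  haveI : Group.IsSolvable (G ⧸ F) := Group.isSolvable_of_surjective hfs
  have hQCN : Cfsg.IsCNGroup (G ⧸ F) :=
    OddOrder.isCNGroup_quotient hCN F inferInstance
  haveI : Nontrivial (G ⧸ F) := by
    rw [← Finite.one_lt_card_iff_nontrivial, ← Subgroup.index_eq_card]
    exact hp.out.one_lt.trans_le (Nat.le_of_dvd (Nat.pos_of_ne_zero index_ne_zero_of_finite) hpi)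
  haveI hFbn := Solvable.fittingSubgroup_normal (G ⧸ F)
  set Fb := Cfsg.fittingSubgroup (G ⧸ F) with hFbdef
  have hFbnil := Solvable.fittingSubgroup_isNilpotent (G ⧸ F)
  have hFb1 : Fb ≠ ⊥ := Solvable.fittingSubgroup_ne_bot
  have hFbp : ¬ p ∣ Nat.card Fb := by
    intro hd
    obtain ⟨w, hw, hwo⟩ := exists_prime_orderOf hp.out hd
    set U := Cfsg.piCoreOf {p} Fb
    haveI hUn : U.Normal := normalizer_eq_top_iff.mp (top_le_iff.mp
      ((normalizer_eq_top_iff.mpr inferInstance).ge.trans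
        (OddOrder.normalizer_le_normalizer_piCoreOf _ _)))
    have hUp : IsPGroup p (U.comap f) :=
      (OddOrder.piCoreOf_singleton_isPGroup p Fb).comap_of_ker_isPGroup f
        (by rw [hf, QuotientGroup.ker_mk']; exact hFp)
    have hUF : U.comap f ≤ F := Solvable.le_fittingSubgroup inferInstance hUp.isNilpotent
    have hwU : w ∈ U := OddOrder.mem_piCoreOf_of_nilpotent hFbnil hw fun s hs hsd =>
      (Nat.prime_dvd_prime_iff_eq hs hp.out).mp (hwo ▸ hsd)
    obtain ⟨w₀, rfl⟩ := hfs w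
    exact ne_one_of_orderOf_eq hp.out hwo ((QuotientGroup.eq_one_iff w₀).mpr (hUF hwU))
  -- the complement of `F` in the preimage `K`
  set K : Subgroup G := Fb.comap f with hK
  have hFK : F ≤ K := fun x hx => by
    show f x ∈ Fb
    rw [show f x = 1 from (QuotientGroup.eq_one_iff x).mpr hx]
    exact one_mem _
  let g : K →* Fb := (f.comp K.subtype).codRestrict Fb fun x => x.2
  have hgs : Function.Surjective g := fun b => by
    obtain ⟨x, hx⟩ := hfs b
    exact ⟨⟨x, by show f x ∈ Fb; rw [hx]; exact b.2⟩, Subtype.ext hx⟩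
  have hgker : g.ker = F.subgroupOf K := by
    ext x
    rw [MonoidHom.mem_ker, Subgroup.mem_subgroupOf, Subtype.ext_iff]
    exact QuotientGroup.eq_one_iff (x : G)
  have hidx : (F.subgroupOf K).index = Nat.card Fb := by
    rw [← hgker, Subgroup.index_ker, MonoidHom.range_eq_top.mpr hgs, Subgroup.card_top]
  have hcardF : Nat.card (F.subgroupOf K) = Nat.card F :=
    Nat.card_congr (subgroupOfEquivOfLe hFK).toEquiv
  obtain ⟨A', hA'⟩ := Subgroup.exists_right_complement'_of_coprime (N := F.subgroupOf K) (by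
    rw [hidx, hcardF, hnF]
    exact Nat.Coprime.pow_left nF ((hp.out.coprime_iff_not_dvd).mpr hFbp))
  have hdisA : ∀ a : K, a ∈ A' → (a : G) ∈ F → a = 1 := fun a ha haF =>
    mem_bot.mp (hA'.disjoint.le_bot ⟨haF, ha⟩)
  have hA'card : Nat.card A' = Nat.card Fb := by rw [← hA'.symm.index_eq_card, hidx]
  have hA'1 : A' ≠ ⊥ := fun h => hFb1 (Subgroup.card_eq_one.mp (by rw [← hA'card, h, card_bot]))
  have hfpfA : ∀ a : K, a ∈ A' → a ≠ 1 → ∀ x ∈ F, (a : G) * x = x * (a : G) → x = 1 := by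
    intro a ha ha1 x hx hax
    by_contra hx1
    obtain ⟨r, m, hr, hrm⟩ := exists_pow_prime_order ha1
    have hrp : r ≠ p := by
      rintro rfl
      exact hFbp (hA'card ▸ hrm ▸ Subgroup.orderOf_dvd_natCard A' (pow_mem ha m))
    exact hCF x hx hx1 (a : G) hax (fun haF => ha1 (hdisA a ha haF)) r m hr hrp
      (by rw [← Subgroup.coe_pow, Subgroup.orderOf_coe, hrm])
  have hfpf' : ∀ a ∈ A', a ≠ 1 → F.subgroupOf K ⊓ centralizer ({a} : Set K) = ⊥ := by
    intro a ha ha1
    rw [eq_bot_iff]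
    intro x hx
    exact Subtype.ext (hfpfA a ha ha1 x hx.1
      (congrArg Subtype.val (mem_centralizer_singleton_iff.mp hx.2)).symm)
  have hF'1 : F.subgroupOf K ≠ ⊥ := fun h => hF1 (Subgroup.card_eq_one.mp (by
    rw [← hcardF, h, card_bot]))
  let e : A' ≃* Fb := MulEquiv.ofBijective (g.comp A'.subtype) ⟨by
      rw [← MonoidHom.ker_eq_bot_iff, eq_bot_iff]
      intro a ha
      exact Subtype.ext (hdisA a a.2 (by
        have := (hgker ▸ (MonoidHom.mem_ker.mpr (MonoidHom.mem_ker.mp ha) : (a : K) ∈ g.ker) :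
          (a : K) ∈ F.subgroupOf K)
        exact this)), fun b => by
      obtain ⟨x, rfl⟩ := hgs b
      obtain ⟨⟨u, a⟩, rfl⟩ := hA'.surjective x
      refine ⟨a, ?_⟩
      have hu : g (u : K) = 1 := MonoidHom.mem_ker.mp (by rw [hgker]; exact u.2)
      show g (a : K) = g ((u : K) * a)
      rw [map_mul, hu, one_mul]⟩
  have hodd : ¬ 2 ∣ Nat.card Fb := by
    intro h2
    obtain ⟨⟨s, hs, hs2, huniq, -⟩, -⟩ :=
      Frobenius.unique_involution hA' hF'1 hfpf' (hA'card ▸ h2)
    set t : G ⧸ F := (e ⟨s, hs⟩ : G ⧸ F) with ht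
    have ht2 : orderOf t = 2 := by
      rw [ht, Subgroup.orderOf_coe, MulEquiv.orderOf_eq, Subgroup.orderOf_mk, hs2]
    have htuniq : ∀ b ∈ Fb, orderOf b = 2 → b = t := by
      intro b hb hb2
      obtain ⟨a, ha⟩ := e.surjective ⟨b, hb⟩
      have ha2 : orderOf (a : K) = 2 := by
        rw [Subgroup.orderOf_coe, ← orderOf_injective e.toMonoidHom e.injective a]
        show orderOf (e a) = 2
        rw [ha, Subgroup.orderOf_mk, hb2]
      have := huniq (a : K) a.2 ha2
      rw [ht, show (⟨s, hs⟩ : A') = a from Subtype.ext this.symm, ha]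
    have hcentral : centralizer ({t} : Set (G ⧸ F)) = ⊤ := by
      rw [eq_top_iff]
      intro y _
      have := htuniq (y * t * y⁻¹) (hFbn.conj_mem t (e ⟨s, hs⟩).2 y) (by
        rw [← MulAut.conj_apply]
        exact (orderOf_injective (MulAut.conj y).toMonoidHom (MulAut.conj y).injective t).trans ht2)
      exact mem_centralizer_singleton_iff.mpr (mul_inv_eq_iff_eq_mul.mp this)
    have hnil : Group.IsNilpotent (⊤ : Subgroup (G ⧸ F)) := by
      rw [← hcentral]
      exact hQCN t (ne_one_of_orderOf_eq Nat.prime_two ht2)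
    have htop : Fb = ⊤ := top_le_iff.mp (Solvable.le_fittingSubgroup inferInstance hnil)
    exact hFbp (by rw [htop, Subgroup.card_top, ← Subgroup.index_eq_card]; exact hpi)
  have hA'cyc : IsCyclic A' := by
    rcases (complement_structure (isCNGroup_subgroup hCN K) hA' hF'1 hA'1 hfpf').2 with
      h | ⟨C, Q, hCQ, -, -, -, n, ⟨eQ⟩⟩
    · exact h
    · exfalso
      haveI : NeZero (2 ^ n) := ⟨by positivity⟩
      have hQ : Nat.card Q = 4 * 2 ^ n := by
        rw [Nat.card_congr eQ.toEquiv, Nat.card_eq_fintype_card, QuaternionGroup.card]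
      have hQA : Q ≤ A' := hCQ ▸ le_sup_right
      have h2 : 2 ∣ Nat.card Q := by rw [hQ]; exact Dvd.dvd.mul_right (by norm_num) _
      exact hodd (hA'card ▸ h2.trans (Subgroup.card_dvd_of_le hQA))
  haveI : IsCyclic Fb := e.isCyclic.mp hA'cyc
  -- nontrivial elements of `Fb` are centralised only by `Fb`
  have hnorm : ∀ (q : ℕ), q.Prime → ∀ w ∈ Fb, orderOf w = q → (zpowers w).Normal := by
    intro q hq w hw hwo
    refine ⟨fun b hb y => ?_⟩
    have hconj : ∀ c : G ⧸ F, c ∈ zpowers w → orderOf (y * c * y⁻¹) = orderOf c := fun c _ => by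
      rw [← MulAut.conj_apply]
      exact orderOf_injective (MulAut.conj y).toMonoidHom (MulAut.conj y).injective c
    have h := Frobenius.eq_of_card_eq_prime_of_isCyclic (C := Fb) hq
      (X := zpowers (⟨y * w * y⁻¹, hFbn.conj_mem w hw y⟩ : Fb)) (Y := zpowers (⟨w, hw⟩ : Fb))
      (by rw [Nat.card_zpowers, Subgroup.orderOf_mk, hconj w (mem_zpowers w), hwo])
      (by rw [Nat.card_zpowers, Subgroup.orderOf_mk, hwo])
    obtain ⟨i, rfl⟩ := hb
    obtain ⟨j, hj⟩ := (h ▸ mem_zpowers _ :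
      (⟨y * w * y⁻¹, hFbn.conj_mem w hw y⟩ : Fb) ∈ zpowers (⟨w, hw⟩ : Fb))
    have hj' : w ^ j = y * w * y⁻¹ := congrArg Subtype.val hj
    rw [show y * w ^ i * y⁻¹ = (y * w * y⁻¹) ^ i from conj_zpow.symm, ← hj']
    exact zpow_mem (zpow_mem (mem_zpowers w) j) i
  have hcent : ∀ a ∈ Fb, a ≠ 1 → centralizer ({a} : Set (G ⧸ F)) ≤ Fb := by
    intro a ha ha1
    obtain ⟨q, m, hq, hqm⟩ := exists_pow_prime_order ha1
    haveI := hnorm q hq _ (pow_mem ha m) hqm
    have hwle : centralizer (zpowers (a ^ m) : Set (G ⧸ F)) ≤ Fb :=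
      Solvable.le_fittingSubgroup inferInstance (isNilpotent_of_le
        (hQCN _ (ne_one_of_orderOf_eq hq hqm))
        (centralizer_le (Set.singleton_subset_iff.mpr (mem_zpowers _))))
    refine le_trans (fun y hy => ?_) hwle
    rintro _ ⟨i, rfl⟩
    exact (((show Commute y a from mem_centralizer_singleton_iff.mp hy).pow_right m).zpow_right i).symm
  -- the commutator subgroup of the quotient lies in `Fb`
  have hcomm : ∀ x y : G ⧸ F, x * y * x⁻¹ * y⁻¹ ∈ Fb := by
    intro x y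
    obtain ⟨q, hq, hqd⟩ := Nat.exists_prime_and_dvd (mt Subgroup.card_eq_one.mp hFb1)
    obtain ⟨w, hw, hwo⟩ := exists_prime_orderOf hq hqd
    have hN := hnorm q hq w hw hwo
    obtain ⟨i, hi⟩ := hN.conj_mem w (mem_zpowers w) x
    obtain ⟨j, hj⟩ := hN.conj_mem w (mem_zpowers w) y
    replace hi : x * w * x⁻¹ = w ^ i := hi.symm
    replace hj : y * w * y⁻¹ = w ^ j := hj.symm
    refine hcent w hw (ne_one_of_orderOf_eq hq hwo) (mem_centralizer_singleton_iff.mpr ?_)
    have h1 : x * y * w * (x * y)⁻¹ = y * x * w * (y * x)⁻¹ := by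
      calc x * y * w * (x * y)⁻¹ = x * (y * w * y⁻¹) * x⁻¹ := by group
        _ = (x * w * x⁻¹) ^ j := by rw [hj, conj_zpow]
        _ = (y * w * y⁻¹) ^ i := by rw [hi, hj, ← zpow_mul, ← zpow_mul, mul_comm]
        _ = y * (w ^ i) * y⁻¹ := conj_zpow
        _ = y * (x * w * x⁻¹) * y⁻¹ := by rw [hi]
        _ = y * x * w * (y * x)⁻¹ := by group
    refine mul_inv_eq_iff_eq_mul.mp ?_
    have h2 : w = x⁻¹ * y⁻¹ * (y * x * w * (y * x)⁻¹) * (y * x) := by group
    calc x * y * x⁻¹ * y⁻¹ * w * (x * y * x⁻¹ * y⁻¹)⁻¹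
        = x * y * (x⁻¹ * y⁻¹ * w * (y * x)) * (x * y)⁻¹ := by group
      _ = w := by
        obtain ⟨i', hi'⟩ := hN.conj_mem w (mem_zpowers w) (x⁻¹ * y⁻¹)
        replace hi' : x⁻¹ * y⁻¹ * w * (x⁻¹ * y⁻¹)⁻¹ = w ^ i' := hi'.symm
        rw [show x⁻¹ * y⁻¹ * w * (y * x) = x⁻¹ * y⁻¹ * w * (x⁻¹ * y⁻¹)⁻¹ by group, hi',
          ← conj_zpow, h1, conj_zpow, ← hi']
        group
  -- the index of `Fb` is a power of `p`
  have hFbi : p ∣ Fb.index := by
    have h : p ∣ Nat.card (G ⧸ F) := Subgroup.index_eq_card F ▸ hpi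
    rw [← Subgroup.card_mul_index Fb] at h
    exact ((hp.out.dvd_mul).mp h).resolve_left hFbp
  have hpQ : ∀ (r : ℕ), r.Prime → r ≠ p → ∀ Y X : G ⧸ F, PElem r Y → PElem p X → Y ≠ 1 → X ≠ 1 →
      Y * X = X * Y → False := by
    intro r hr hrp Y X hY hX hY1 hX1 hYX
    haveI := Fact.mk hr
    obtain ⟨y₀, rfl⟩ := hfs Y
    obtain ⟨x₀, rfl⟩ := hfs X
    obtain ⟨k, hk, hk1⟩ := exists_pow_pElem f (y := y₀) (r := r) hY1 hY
    obtain ⟨c, hc, hcx⟩ := exists_commute_lift F (x := x₀) (hcopF hr hrp hk) (by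
      rw [map_pow]
      exact ((show Commute (f y₀) (f x₀) from hYX).pow_left k).symm.eq)
    have hcx' : f (c * x₀) = f x₀ := by
      rw [map_mul, show f c = 1 from (QuotientGroup.eq_one_iff c).mpr hc, one_mul]
    obtain ⟨m, hm, hm1⟩ := exists_pow_pElem f (y := c * x₀) (r := p) (hcx' ▸ hX1) (hcx' ▸ hX)
    exact hk1 (by
      rw [hpq r hr hrp _ _ hk hm (fun h => hm1 (by rw [h, map_one]))
        ((show Commute (c * x₀) (y₀ ^ k) from hcx).symm.pow_right m).eq, map_one])
  have hindex : ∀ r : ℕ, r.Prime → r ∣ Fb.index → r = p := by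
    intro r hr hri
    by_contra hrp
    haveI := Fact.mk hr
    rw [Subgroup.index_eq_card] at hri
    obtain ⟨yb, hyb⟩ := exists_prime_orderOf_dvd_card' r hri
    obtain ⟨y, rfl⟩ := QuotientGroup.mk'_surjective Fb yb
    obtain ⟨k, hk, hk1⟩ := exists_pow_pElem (QuotientGroup.mk' Fb) (y := y) (r := r)
      (ne_one_of_orderOf_eq hr hyb) (pElem_of_orderOf_eq hyb)
    have hYF : y ^ k ∉ Fb := fun h => hk1 ((QuotientGroup.eq_one_iff _).mpr h)
    have hr' : ¬ r ∣ Nat.card Fb := by
      intro hd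
      obtain ⟨w, hw, hwo⟩ := exists_prime_orderOf hr hd
      haveI := hnorm r hr w hw hwo
      obtain ⟨v, hv, hv1, hfix⟩ := exists_fixed (p := r) (V := zpowers w)
        (IsPGroup.of_card (n := 1) (by rw [Nat.card_zpowers, hwo, pow_one]))
        (fun h => ne_one_of_orderOf_eq hr hwo (zpowers_eq_bot.mp h)) hk
        (le_normalizer_of_normal (mem_top _))
      exact hYF (hcent v (zpowers_le.mpr hw hv) hv1 (mem_centralizer_singleton_iff.mpr hfix))
    obtain ⟨xb, hxb⟩ := exists_prime_orderOf_dvd_card' p (Subgroup.index_eq_card Fb ▸ hFbi)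
    obtain ⟨x, rfl⟩ := QuotientGroup.mk'_surjective Fb xb
    have hcop : (orderOf (y ^ k)).Coprime (Nat.card Fb) := Nat.coprime_of_dvd fun s hs h1 h2 => by
      rw [hk.orderOf_dvd hs h1] at h2
      exact hr' h2
    obtain ⟨c, hc, hcx⟩ := exists_commute_lift Fb (x := x) hcop (by
      rw [← map_mul, ← map_mul]
      refine QuotientGroup.eq.mpr ?_
      have := hcomm (y ^ k)⁻¹ x⁻¹
      simpa [mul_assoc] using this)
    have hcx' : QuotientGroup.mk' Fb (c * x) = QuotientGroup.mk' Fb x := by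
      rw [map_mul, show QuotientGroup.mk' Fb c = 1 from (QuotientGroup.eq_one_iff c).mpr hc, one_mul]
    obtain ⟨m, hm, hm1⟩ := exists_pow_pElem (QuotientGroup.mk' Fb) (y := c * x) (r := p)
      (hcx' ▸ ne_one_of_orderOf_eq hp.out hxb) (hcx' ▸ pElem_of_orderOf_eq hxb)
    exact hpQ r hr hrp _ _ hk hm (fun h => hk1 (by rw [h, map_one]))
      (fun h => hm1 (by rw [h, map_one])) ((show Commute (c * x) (y ^ k) from hcx).symm.pow_right m).eq
  -- assemble
  have hcore : Cfsg.pCore p G = F := le_antisymm Solvable.pCore_le_fittingSubgroup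
    (Solvable.le_pCore hFn hFp)
  have hsup : F ⊔ A'.map K.subtype = K := by
    have h := congrArg (Subgroup.map K.subtype) hA'.sup_eq_top
    rw [Subgroup.map_sup, subgroupOf_map_subtype, inf_eq_left.mpr hFK, ← MonoidHom.range_eq_map,
      K.range_subtype] at h
    exact h
  rw [Cfsg.IsThreeStepGroup, hcore]
  refine ⟨hF1, A'.map K.subtype, ?_, ?_, ?_, ?_, ?_, ?_, ?_, ?_, ?_⟩
  · rw [Ne, map_eq_bot_iff_of_injective _ K.subtype_injective]; exact hA'1
  · exact (equivMapOfInjective A' _ K.subtype_injective).isCyclic.mp hA'cyc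
  · rw [Subgroup.card_map_of_injective K.subtype_injective, hA'card, ← Nat.not_even_iff_odd,
      even_iff_two_dvd]
    exact hodd
  · rw [Subgroup.card_map_of_injective K.subtype_injective, hA'card]
    exact ((hp.out.coprime_iff_not_dvd).mpr hFbp).symm
  · rw [hsup]; infer_instance
  · rw [hsup]
    intro h
    have := congrArg Subgroup.index h
    rw [index_comap_of_surjective _ hfs, index_top] at this
    rw [this, Nat.dvd_one] at hFbi
    exact hp.out.ne_one hFbi
  · rw [hsup, index_comap_of_surjective _ hfs]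
    exact ⟨_, Nat.eq_prime_pow_of_unique_prime_dvd index_ne_zero_of_finite fun {d} hd hdd =>
      hindex d hd hdd⟩
  · rintro _ ⟨a, ha, rfl⟩ ha1
    rw [eq_bot_iff]
    intro x hx
    exact hfpfA a ha (fun h => ha1 (by rw [h]; rfl)) x hx.1
      (mem_centralizer_singleton_iff.mp hx.2).symm
  · rintro x hx _ ⟨a, ha, rfl⟩ ha1 hcF
    rw [hsup] at hx
    refine hx (hcent (f (a : G)) a.2 ?_ (mem_centralizer_singleton_iff.mpr ?_))
    · intro h
      exact ha1 (congrArg Subtype.val (hdisA a ha ((QuotientGroup.eq_one_iff _).mp h)))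
    · have h := (QuotientGroup.eq_one_iff (N := F) _).mpr hcF
      replace h : f (x * (a : G) * x⁻¹ * (a : G)⁻¹) = 1 := h
      rw [map_mul, map_mul, map_mul, map_inv, map_inv] at h
      exact mul_inv_eq_iff_eq_mul.mp (mul_inv_eq_one.mp h)

/-- The trichotomy for solvable CN-groups. -/
theorem solvable_trichotomy :
    Group.IsNilpotent G ∨
      (∃ K E : Subgroup G, K.Normal ∧ Subgroup.IsComplement' K E ∧ Cfsg.IsFrobeniusComplement E ∧
        (IsCyclic E ∨ ∃ C Q : Subgroup G, C ⊔ Q = E ∧ (∀ a ∈ C, ∀ b ∈ Q, a * b = b * a) ∧ IsCyclic C ∧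
          Odd (Nat.card C) ∧ ∃ n : ℕ, Nonempty (↥Q ≃* QuaternionGroup (2 ^ n)))) ∨
      ∃ p : ℕ, p.Prime ∧ Cfsg.IsThreeStepGroup p G := by
  by_cases hnn : Group.IsNilpotent G
  · exact Or.inl hnn
  refine Or.inr ?_
  by_cases hex : ∃ (p : ℕ) (_ : Fact p.Prime) (P : Sylow p G),
      (P : Subgroup G) ≠ ⊥ ∧ (P : Subgroup G).Normal
  · obtain ⟨p, hp, P, hP1, hPn⟩ := hex
    obtain ⟨F, E, hFn, -, hF1, -, hE1, hE, hfrob, hfpf⟩ :=
      frobenius_of_normal_sylow hCN hnn P hP1 hPn
    haveI := hFn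
    exact Or.inl ⟨F, E, hFn, hE, hfrob, (complement_structure hCN hE hF1 hE1 hfpf).2⟩
  push Not at hex
  refine Or.inr ?_
  haveI : Nontrivial G := by
    by_contra h
    rw [not_nontrivial_iff_subsingleton] at h
    exact hnn inferInstance
  obtain ⟨p, hp, hpd⟩ := Nat.exists_prime_and_dvd
    (mt Subgroup.card_eq_one.mp (Solvable.fittingSubgroup_ne_bot (G := G)))
  haveI := Fact.mk hp
  refine ⟨p, hp, isThreeStep hCN hpd (isPGroup_of_forall fun q hq y hy hyo => ?_)
    fun P hP => by_contra fun h => hex p ⟨hp⟩ P h hP⟩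
  by_contra hqp
  haveI := Fact.mk hq
  obtain ⟨P, hP1, hPn⟩ := exists_normal_sylow hCN (Ne.symm hqp) hpd
    (hyo ▸ OddOrder.orderOf_dvd_card_of_mem hy)
  exact hex p ⟨hp⟩ P hP1 hPn

end CfsgLib.CN
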